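import Mathlib
import Cfsg.Prelude.Def_Classical

/-!
# Isometry groups of matrices and linear maps; counting conjugacy classes by invariants

* `linOf A` : the linear map of `A : GL ι F`; `exists_of_lin`;
* `isConj_of_equiv` : equivariantly isometric elements of an isometry group are conjugate;
* `card_conj_le` : `k(O(Q)) ≤` number of occurring data.
-/

set_option autoImplicit false

namespace Cfsg.Agent.H170.Bridge

open Matrix

variable {ι : Type} [Fintype ι] [DecidableEq ι] {F : Type*} [Field F]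

/-- the linear map of an invertible matrix -/
def linOf (A : GL ι F) : (ι → F) ≃ₗ[F] (ι → F) where
  toFun v := A.1 *ᵥ v
  invFun v := A⁻¹.1 *ᵥ v
  map_add' u v := mulVec_add _ _ _
  map_smul' c v := mulVec_smul _ _ _
  left_inv v := by
    show A⁻¹.1 *ᵥ (A.1 *ᵥ v) = v
    rw [mulVec_mulVec, ← Units.val_mul, inv_mul_cancel, Units.val_one, one_mulVec]
  right_inv v := by
    show A.1 *ᵥ (A⁻¹.1 *ᵥ v) = v
    rw [mulVec_mulVec, ← Units.val_mul, mul_inv_cancel, Units.val_one, one_mulVec]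

theorem linOf_apply (A : GL ι F) (v : ι → F) : linOf A v = A.1 *ᵥ v := rfl

theorem linOf_mul (A B : GL ι F) (v : ι → F) : linOf (A * B) v = linOf A (linOf B v) := by
  rw [linOf_apply, linOf_apply, linOf_apply, mulVec_mulVec, Units.val_mul]

theorem linOf_injective {A B : GL ι F} (h : ∀ v, linOf A v = linOf B v) : A = B := by
  apply Units.ext
  apply Matrix.mulVec_injective
  funext v
  exact h v

theorem exists_of_lin (z : (ι → F) ≃ₗ[F] (ι → F)) : ∃ A : GL ι F, ∀ v, linOf A v = z v := by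
  have h : ∀ (x y : (ι → F) ≃ₗ[F] (ι → F)), (∀ v, x (y v) = v) →
      LinearMap.toMatrix' x.toLinearMap * LinearMap.toMatrix' y.toLinearMap = 1 := by
    intro x y hxy
    rw [← LinearMap.toMatrix'_comp, show x.toLinearMap ∘ₗ y.toLinearMap = LinearMap.id from LinearMap.ext hxy,
      LinearMap.toMatrix'_id]
  refine ⟨⟨LinearMap.toMatrix' z.toLinearMap, LinearMap.toMatrix' z.symm.toLinearMap,
    h z z.symm z.apply_symm_apply, h z.symm z z.symm_apply_apply⟩, fun v => ?_⟩
  rw [linOf_apply]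
  exact LinearMap.toMatrix'_mulVec z.toLinearMap v

theorem mem_iff {Q : (ι → F) → F} {A : GL ι F} : A ∈ Cfsg.isometryGroup F Q ↔ ∀ v, Q (linOf A v) = Q v :=
  ⟨fun h v => h v v, fun h u _ => h u⟩

theorem isConj_of_equiv {Q : (ι → F) → F} (g g' : Cfsg.isometryGroup F Q) (z : (ι → F) ≃ₗ[F] (ι → F))
    (hz : ∀ v, z (linOf g.1 v) = linOf g'.1 (z v)) (hQ : ∀ v, Q (z v) = Q v) : IsConj g g' := by
  obtain ⟨A, hA⟩ := exists_of_lin z
  have hA' : A ∈ Cfsg.isometryGroup F Q := mem_iff.2 fun v => by rw [hA, hQ]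
  rw [isConj_iff]
  refine ⟨⟨A, hA'⟩, ?_⟩
  rw [mul_inv_eq_iff_eq_mul]
  apply Subtype.ext
  apply linOf_injective
  intro v
  rw [Subgroup.coe_mul, Subgroup.coe_mul, linOf_mul, linOf_mul]
  show linOf A (linOf g.1 v) = linOf g'.1 (linOf A v)
  rw [hA, hA, hz]

/-- **Counting classes by invariants.** -/
theorem card_conj_le {G X : Type*} [Group G] (S : Set X) [Finite S] (R : G → X → Prop)
    (h1 : ∀ g, ∃ D ∈ S, R g D) (h2 : ∀ g g' D, R g D → R g' D → IsConj g g') :
    Nat.card (ConjClasses G) ≤ Nat.card {D : X // D ∈ S ∧ ∃ g, R g D} := by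
  classical
  have : Finite {D : X // D ∈ S ∧ ∃ g, R g D} :=
    Finite.of_injective (fun D => (⟨D.1, D.2.1⟩ : S)) fun D D' h => Subtype.ext (congrArg (fun x : S => x.1) h)
  have hout : ∀ c : ConjClasses G, ConjClasses.mk c.out = c := fun c => Quotient.out_eq c
  refine Nat.card_le_card_of_injective
    (fun c : ConjClasses G => (⟨(h1 c.out).choose, (h1 c.out).choose_spec.1, c.out, (h1 c.out).choose_spec.2⟩ :
      {D : X // D ∈ S ∧ ∃ g, R g D})) ?_
  intro c c' h
  have h3 : (h1 c.out).choose = (h1 c'.out).choose := congrArg Subtype.val h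
  have h4 := (h1 c'.out).choose_spec.2
  rw [← h3] at h4
  have h5 := ConjClasses.mk_eq_mk_iff_isConj.2 (h2 _ _ _ (h1 c.out).choose_spec.2 h4)
  rw [hout, hout] at h5
  exact h5

end Cfsg.Agent.H170.Bridge
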