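import Mathlib

/-!
# Unipotent isometries in characteristic two: elementary relations

`V` a vector space over a field of characteristic two, `Q` a quadratic form, `g` an isometry, `N = g - 1`.
* `B_Npow_zero`, `B_Npow_top` : `B (N^a x) (N^b y)` when `N^(a+b) x = 0`, `N^(a+b+1) x = 0`;
* `Q_Npow_zero`, `Q_Npow_top`;
* `self_gram` : the values `Q (N^(j+1) x)` determine all `B (N^a x) (N^b x)`;
* `cross_gram` : the values `B (N^a x) y` determine all `B (N^a x) (N^b y)`.
-/

set_option autoImplicit false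

namespace Cfsg.Agent.H170.Uni

open LinearMap Module QuadraticMap

variable {F : Type*} [Field F] {V : Type*} [AddCommGroup V] [Module F V]

/-- the polar form -/
abbrev B (Q : QuadraticForm F V) : LinearMap.BilinForm F V := polarBilin Q

/-- `g - 1` -/
def N (g : V ≃ₗ[F] V) : Module.End F V := g.toLinearMap - 1

/-- the inverse, as an endomorphism -/
def S (g : V ≃ₗ[F] V) : Module.End F V := g.symm.toLinearMap

theorem N_apply (g : V ≃ₗ[F] V) (v : V) : N g v = g v - v := rfl

theorem S_apply (g : V ≃ₗ[F] V) (v : V) : S g v = g.symm v := rfl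

theorem g_eq (g : V ≃ₗ[F] V) (v : V) : g v = v + N g v := by rw [N_apply]; abel

theorem pow_succ_apply (f : Module.End F V) (j : ℕ) (v : V) : (f ^ (j + 1)) v = f ((f ^ j) v) := by
  rw [pow_succ']; rfl

theorem pow_succ_apply' (f : Module.End F V) (j : ℕ) (v : V) : (f ^ (j + 1)) v = (f ^ j) (f v) := by
  rw [pow_succ]; rfl

theorem pow_add_apply (f : Module.End F V) (i j : ℕ) (v : V) : (f ^ (i + j)) v = (f ^ i) ((f ^ j) v) := by
  rw [pow_add]; rfl

theorem pow_zero_apply (f : Module.End F V) (v : V) : (f ^ 0) v = v := rfl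

theorem pow_eq_zero_of_le {f : Module.End F V} {i j : ℕ} (hij : i ≤ j) {v : V} (h : (f ^ i) v = 0) :
    (f ^ j) v = 0 := by
  obtain ⟨k, rfl⟩ := Nat.exists_eq_add_of_le hij
  rw [add_comm, pow_add_apply, h, map_zero]

theorem S_N (g : V ≃ₗ[F] V) (v : V) : S g (N g v) = N g (S g v) := by
  rw [N_apply, N_apply, S_apply, S_apply, map_sub, LinearEquiv.symm_apply_apply,
    LinearEquiv.apply_symm_apply]

theorem S_Npow (g : V ≃ₗ[F] V) (j : ℕ) (v : V) : S g ((N g ^ j) v) = (N g ^ j) (S g v) := by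
  induction j with
  | zero => rfl
  | succ j ih => rw [pow_succ_apply, pow_succ_apply, S_N, ih]

theorem Spow_N (g : V ≃ₗ[F] V) (j : ℕ) (v : V) : (S g ^ j) (N g v) = N g ((S g ^ j) v) := by
  induction j with
  | zero => rfl
  | succ j ih => rw [pow_succ_apply, pow_succ_apply, ih, S_N]

theorem S_of_N_eq_zero {g : V ≃ₗ[F] V} {v : V} (h : N g v = 0) : S g v = v := by
  rw [S_apply, LinearEquiv.symm_apply_eq]
  rw [N_apply, sub_eq_zero] at h
  exact h.symm

theorem Spow_of_N_eq_zero {g : V ≃ₗ[F] V} {v : V} (h : N g v = 0) (j : ℕ) : (S g ^ j) v = v := by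
  induction j with
  | zero => rfl
  | succ j ih => rw [pow_succ_apply, ih, S_of_N_eq_zero h]

section char2

variable (h2 : (2 : F) = 0)
include h2

theorem add_self (a : F) : a + a = 0 := by rw [← two_mul, h2, zero_mul]

theorem neg_eq (a : F) : -a = a := by rw [neg_eq_iff_add_eq_zero, add_self h2]

theorem sub_eq (a b : F) : a - b = a + b := by rw [sub_eq_add_neg, neg_eq h2]

theorem eq_of_add_eq_zero {a b : F} (h : a + b = 0) : a = b := by
  rw [← sub_eq_zero, sub_eq h2, h]

end char2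

variable (Q : QuadraticForm F V)

theorem Q_add (u v : V) : Q (u + v) = Q u + Q v + B Q u v := by
  rw [polarBilin_apply_apply, QuadraticMap.polar]; ring

theorem Q_smul (c : F) (v : V) : Q (c • v) = c * c * Q v := by
  rw [QuadraticMap.map_smul, smul_eq_mul]

theorem Q_add_smul (u v : V) (c : F) : Q (u + c • v) = Q u + c * c * Q v + c * B Q u v := by
  rw [Q_add, Q_smul, map_smul, smul_eq_mul]

theorem B_comm (u v : V) : B Q u v = B Q v u := by
  rw [polarBilin_apply_apply, polarBilin_apply_apply, QuadraticMap.polar_comm]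

variable {Q}

theorem B_self (h2 : (2 : F) = 0) (u : V) : B Q u u = 0 := by
  rw [polarBilin_apply_apply, QuadraticMap.polar_self, nsmul_eq_mul]
  have : ((2 : ℕ) : F) = 0 := by exact_mod_cast h2
  rw [this, zero_mul]

variable {g : V ≃ₗ[F] V}

theorem B_g (hg : ∀ v, Q (g v) = Q v) (u v : V) : B Q (g u) (g v) = B Q u v := by
  rw [polarBilin_apply_apply, polarBilin_apply_apply, QuadraticMap.polar, QuadraticMap.polar, ← map_add,
    hg, hg, hg]

theorem B_rel (hg : ∀ v, Q (g v) = Q v) (u v : V) :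
    B Q (N g u) v + B Q u (N g v) + B Q (N g u) (N g v) = 0 := by
  have h := B_g hg u v
  rw [g_eq, g_eq] at h
  simp only [map_add, LinearMap.add_apply] at h
  linear_combination h

theorem B_N_right (h2 : (2 : F) = 0) (hg : ∀ v, Q (g v) = Q v) (u v : V) :
    B Q u (N g v) = B Q (S g (N g u)) v := by
  have h1 : B Q u (g v) = B Q (S g u) v := by
    rw [← B_g hg (S g u) v, S_apply, LinearEquiv.apply_symm_apply]
  have h3 : S g (N g u) = u - S g u := by
    rw [N_apply, S_apply, S_apply, map_sub, LinearEquiv.symm_apply_apply]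
  rw [h3, N_apply, map_sub, map_sub, LinearMap.sub_apply, h1, sub_eq h2, sub_eq h2, add_comm]

/-- the relation solved for the second argument -/
theorem B_rel' (h2 : (2 : F) = 0) (hg : ∀ v, Q (g v) = Q v) (u v : V) :
    B Q u (N g v) = B Q (N g u) v + B Q (N g u) (N g v) := by
  have h := B_rel hg u v
  apply eq_of_add_eq_zero h2
  linear_combination h

theorem B_Npow_right (h2 : (2 : F) = 0) (hg : ∀ v, Q (g v) = Q v) (b : ℕ) (u v : V) :
    B Q u ((N g ^ b) v) = B Q ((S g ^ b) ((N g ^ b) u)) v := by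
  induction b generalizing u v with
  | zero => rfl
  | succ b ih =>
    rw [pow_succ_apply' (N g) b v, ih, B_N_right h2 hg, pow_succ_apply (S g), pow_succ_apply (N g), Spow_N]

theorem B_Npow_zero (h2 : (2 : F) = 0) (hg : ∀ v, Q (g v) = Q v) {a b : ℕ} {x : V}
    (h : (N g ^ (a + b)) x = 0) (y : V) : B Q ((N g ^ a) x) ((N g ^ b) y) = 0 := by
  rw [B_Npow_right h2 hg, ← pow_add_apply, add_comm b a, h, map_zero, map_zero, LinearMap.zero_apply]

theorem B_Npow_top (h2 : (2 : F) = 0) (hg : ∀ v, Q (g v) = Q v) {a b : ℕ} {x : V}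
    (h : (N g ^ (a + b + 1)) x = 0) (y : V) :
    B Q ((N g ^ a) x) ((N g ^ b) y) = B Q ((N g ^ (a + b)) x) y := by
  rw [B_Npow_right h2 hg, ← pow_add_apply, add_comm b a, Spow_of_N_eq_zero]
  rw [← pow_succ_apply, h]

theorem Q_N (h2 : (2 : F) = 0) (hg : ∀ v, Q (g v) = Q v) (v : V) : Q (N g v) = B Q v (N g v) := by
  have h := hg v
  rw [g_eq, Q_add] at h
  apply eq_of_add_eq_zero h2
  linear_combination h

theorem Q_Npow_succ (h2 : (2 : F) = 0) (hg : ∀ v, Q (g v) = Q v) (j : ℕ) (v : V) :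
    Q ((N g ^ (j + 1)) v) = B Q ((N g ^ j) v) ((N g ^ (j + 1)) v) := by
  rw [pow_succ_apply, Q_N h2 hg]

theorem Q_Npow_zero (h2 : (2 : F) = 0) (hg : ∀ v, Q (g v) = Q v) {j : ℕ} {v : V}
    (h : (N g ^ (2 * j + 1)) v = 0) : Q ((N g ^ (j + 1)) v) = 0 := by
  rw [Q_Npow_succ h2 hg, B_Npow_zero h2 hg]
  rwa [show j + (j + 1) = 2 * j + 1 by ring]

theorem Q_Npow_top (h2 : (2 : F) = 0) (hg : ∀ v, Q (g v) = Q v) {j : ℕ} {v : V}
    (h : (N g ^ (2 * j + 2)) v = 0) : Q ((N g ^ (j + 1)) v) = B Q ((N g ^ (2 * j + 1)) v) v := by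
  rw [Q_Npow_succ h2 hg, B_Npow_top h2 hg]
  · rw [show j + (j + 1) = 2 * j + 1 by ring]
  · rwa [show j + (j + 1) + 1 = 2 * j + 2 by ring]

section gram

variable {V' : Type*} [AddCommGroup V'] [Module F V'] {Q' : QuadraticForm F V'} {g' : V' ≃ₗ[F] V'}

/-- **The values `Q (N^(j+1) x)` determine the Gram matrix of the `N^a x`.** -/
theorem self_gram (h2 : (2 : F) = 0) (hg : ∀ v, Q (g v) = Q v) (hg' : ∀ v, Q' (g' v) = Q' v) (x : V) (x' : V')
    (h : ∀ j, Q ((N g ^ (j + 1)) x) = Q' ((N g' ^ (j + 1)) x')) (a b : ℕ) :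
    B Q ((N g ^ a) x) ((N g ^ b) x) = B Q' ((N g' ^ a) x') ((N g' ^ b) x') := by
  have key : ∀ d : ℕ, ∀ b : ℕ, B Q ((N g ^ (b + d)) x) ((N g ^ b) x) =
      B Q' ((N g' ^ (b + d)) x') ((N g' ^ b) x') := by
    intro d
    induction d using Nat.strong_induction_on with
    | _ d ih =>
      intro b
      match d, ih with
      | 0, _ => rw [add_zero, B_self h2, B_self h2]
      | 1, _ => rw [B_comm Q, B_comm Q', ← Q_Npow_succ h2 hg, ← Q_Npow_succ h2 hg', h]
      | d + 2, ih =>
        have e1 := B_rel' h2 hg ((N g ^ b) x) ((N g ^ (b + (d + 1))) x)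
        have e2 := B_rel' h2 hg' ((N g' ^ b) x') ((N g' ^ (b + (d + 1))) x')
        rw [← pow_succ_apply, ← pow_succ_apply] at e1 e2
        rw [B_comm Q, B_comm Q', show b + (d + 2) = b + (d + 1) + 1 by ring, e1, e2, B_comm Q, B_comm Q',
          B_comm Q _ ((N g ^ (b + (d + 1) + 1)) x), B_comm Q' _ ((N g' ^ (b + (d + 1) + 1)) x')]
        have i1 := ih d (by omega) (b + 1)
        have i2 := ih (d + 1) (by omega) (b + 1)
        rw [show b + 1 + d = b + (d + 1) by ring] at i1
        rw [show b + 1 + (d + 1) = b + (d + 1) + 1 by ring] at i2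
        rw [i1, i2]
  rcases le_total b a with hab | hab
  · obtain ⟨d, rfl⟩ := Nat.exists_eq_add_of_le hab
    exact key d b
  · obtain ⟨d, rfl⟩ := Nat.exists_eq_add_of_le hab
    rw [B_comm Q, B_comm Q']
    exact key d a

/-- **The values `B (N^a x) y` determine all the `B (N^a x) (N^b y)`.** -/
theorem cross_gram (h2 : (2 : F) = 0) (hg : ∀ v, Q (g v) = Q v) (hg' : ∀ v, Q' (g' v) = Q' v) (x y : V) (x' y' : V')
    {M : ℕ} (hM : (N g ^ M) x = 0) (hM' : (N g' ^ M) x' = 0)
    (h : ∀ a, B Q ((N g ^ a) x) y = B Q' ((N g' ^ a) x') y') (a b : ℕ) :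
    B Q ((N g ^ a) x) ((N g ^ b) y) = B Q' ((N g' ^ a) x') ((N g' ^ b) y') := by
  induction b generalizing a with
  | zero => exact h a
  | succ b ih =>
    have key : ∀ k a : ℕ, M ≤ a + k → B Q ((N g ^ a) x) ((N g ^ (b + 1)) y) =
        B Q' ((N g' ^ a) x') ((N g' ^ (b + 1)) y') := by
      intro k
      induction k with
      | zero =>
        intro a ha
        rw [add_zero] at ha
        rw [pow_eq_zero_of_le ha hM, pow_eq_zero_of_le ha hM', map_zero, map_zero]; rfl
      | succ k ihk =>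
        intro a ha
        rw [pow_succ_apply (N g) b, pow_succ_apply (N g') b, B_rel' h2 hg, B_rel' h2 hg', ← pow_succ_apply,
          ← pow_succ_apply, ← pow_succ_apply, ← pow_succ_apply, ih, ihk (a + 1) (by omega)]
    exact key M a (by omega)

end gram

end Cfsg.Agent.H170.Uni
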