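import Mathlib
import Cfsg.Agent.H170.UniBasic

/-!
# Families with the same Gram matrix span isometric spaces; orthogonal complements inside a subspace

* `gram_iso` : two families with equal polar values (and equal values of the forms), spanning nondegenerate subspaces;
* `Nd` : nondegenerate subspace, `St` : stable subspace;
* `comp`, `comp_sup`, `comp_nd`, `comp_st`, `finrank_comp` : complement of `P` in `U`.
-/

set_option autoImplicit false

namespace Cfsg.Agent.H170.Uni

open LinearMap Module QuadraticMap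

variable {F : Type*} [Field F] {V : Type*} [AddCommGroup V] [Module F V]
variable {V' : Type*} [AddCommGroup V'] [Module F V']

/-- the subspace `U` is nondegenerate -/
def Nd (Q : QuadraticForm F V) (U : Submodule F V) : Prop := ∀ u ∈ U, (∀ v ∈ U, B Q u v = 0) → u = 0

/-- the subspace `U` is stable -/
def St (g : V ≃ₗ[F] V) (U : Submodule F V) : Prop := ∀ v ∈ U, g v ∈ U

theorem gram_iso {κ : Type*} (Q : QuadraticForm F V) (Q' : QuadraticForm F V') (Y : κ → V) (Y' : κ → V')
    (hB : ∀ i j, B Q (Y i) (Y j) = B Q' (Y' i) (Y' j))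
    (nd : Nd Q (Submodule.span F (Set.range Y))) (nd' : Nd Q' (Submodule.span F (Set.range Y'))) :
    ∃ T : Submodule.span F (Set.range Y) ≃ₗ[F] Submodule.span F (Set.range Y'),
      (∀ i, (T ⟨Y i, Submodule.subset_span ⟨i, rfl⟩⟩ : V') = Y' i) ∧
      (∀ u v : Submodule.span F (Set.range Y), B Q' (T u : V') (T v : V') = B Q (u : V) (v : V)) ∧
      ((∀ i, Q (Y i) = Q' (Y' i)) → ∀ v : Submodule.span F (Set.range Y), Q' (T v : V') = Q (v : V)) := by
  classical
  obtain ⟨L, hL⟩ : ∃ L : (κ →₀ F) →ₗ[F] V, L = Finsupp.linearCombination F Y := ⟨_, rfl⟩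
  obtain ⟨L', hL'⟩ : ∃ L' : (κ →₀ F) →ₗ[F] V', L' = Finsupp.linearCombination F Y' := ⟨_, rfl⟩
  have hLr : LinearMap.range L = Submodule.span F (Set.range Y) := by rw [hL, Finsupp.range_linearCombination]
  have hLr' : LinearMap.range L' = Submodule.span F (Set.range Y') := by rw [hL', Finsupp.range_linearCombination]
  have hs : ∀ i c, L (Finsupp.single i c) = c • Y i := fun i c => by rw [hL, Finsupp.linearCombination_single]
  have hs' : ∀ i c, L' (Finsupp.single i c) = c • Y' i := fun i c => by rw [hL', Finsupp.linearCombination_single]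
  have h1 : ∀ (x : κ →₀ F) (j : κ), B Q (L x) (Y j) = B Q' (L' x) (Y' j) := by
    intro x j
    induction x using Finsupp.induction_linear with
    | zero => simp
    | add x y hx hy => rw [map_add, map_add, map_add, map_add, LinearMap.add_apply, LinearMap.add_apply, hx, hy]
    | single i c => rw [hs, hs', map_smul, map_smul, LinearMap.smul_apply, LinearMap.smul_apply, hB]
  have h2 : ∀ x y : κ →₀ F, B Q (L x) (L y) = B Q' (L' x) (L' y) := by
    intro x y
    induction y using Finsupp.induction_linear with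
    | zero => simp
    | add y z hy hz => rw [map_add, map_add, map_add, map_add, hy, hz]
    | single i c => rw [hs, hs', map_smul, map_smul, h1]
  have hker : LinearMap.ker L = LinearMap.ker L' := by
    ext x
    rw [LinearMap.mem_ker, LinearMap.mem_ker]
    constructor
    · intro hx
      apply nd' _ (hLr' ▸ LinearMap.mem_range_self L' x)
      intro v hv
      rw [← hLr'] at hv
      obtain ⟨y, rfl⟩ := hv
      rw [← h2, hx, map_zero, LinearMap.zero_apply]
    · intro hx
      apply nd _ (hLr ▸ LinearMap.mem_range_self L x)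
      intro v hv
      rw [← hLr] at hv
      obtain ⟨y, rfl⟩ := hv
      rw [h2, hx, map_zero, LinearMap.zero_apply]
  obtain ⟨T0, hT0⟩ : ∃ T0 : LinearMap.range L ≃ₗ[F] LinearMap.range L',
      T0 = (L.quotKerEquivRange.symm.trans (Submodule.quotEquivOfEq _ _ hker)).trans L'.quotKerEquivRange := ⟨_, rfl⟩
  have hT : ∀ x : κ →₀ F, (T0 ⟨L x, LinearMap.mem_range_self L x⟩ : V') = L' x := by
    intro x
    have e1 : L.quotKerEquivRange.symm ⟨L x, LinearMap.mem_range_self L x⟩ = Submodule.Quotient.mk x := by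
      rw [LinearEquiv.symm_apply_eq]
      rfl
    rw [hT0, LinearEquiv.trans_apply, LinearEquiv.trans_apply, e1]
    rfl
  obtain ⟨T, hTT⟩ : ∃ T : Submodule.span F (Set.range Y) ≃ₗ[F] Submodule.span F (Set.range Y'),
      T = ((LinearEquiv.ofEq _ _ hLr.symm).trans T0).trans (LinearEquiv.ofEq _ _ hLr') := ⟨_, rfl⟩
  have hTx : ∀ x : κ →₀ F, (T ⟨L x, hLr ▸ LinearMap.mem_range_self L x⟩ : V') = L' x := by
    intro x
    rw [hTT, LinearEquiv.trans_apply, LinearEquiv.trans_apply, LinearEquiv.coe_ofEq_apply, ← hT]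
    rfl
  refine ⟨T, fun i => ?_, fun u v => ?_, fun hQ v => ?_⟩
  · have := hTx (Finsupp.single i 1)
    rw [hs', one_smul] at this
    rw [← this]
    congr 2
    apply Subtype.ext
    change Y i = L (Finsupp.single i 1)
    rw [hs, one_smul]
  · obtain ⟨u, hu⟩ := u
    obtain ⟨v, hv⟩ := v
    have hu' := hu
    have hv' := hv
    rw [← hLr] at hu' hv'
    obtain ⟨x, rfl⟩ := hu'
    obtain ⟨y, rfl⟩ := hv'
    rw [hTx, hTx, h2]
  · obtain ⟨v, hv⟩ := v
    have hv' := hv
    rw [← hLr] at hv'
    obtain ⟨x, rfl⟩ := hv'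
    rw [hTx]
    change Q' (L' x) = Q (L x)
    clear hv
    induction x using Finsupp.induction_linear with
    | zero => simp
    | add x y hx hy => rw [map_add L, map_add L', Q_add, Q_add, hx, hy, h2]
    | single i c => rw [hs, hs', Q_smul, Q_smul, hQ]

/-- the same, with names for the spans -/
theorem gram_iso' {κ : Type*} (Q : QuadraticForm F V) (Q' : QuadraticForm F V') (Y : κ → V) (Y' : κ → V')
    {U : Submodule F V} {U' : Submodule F V'} (hU : Submodule.span F (Set.range Y) = U)
    (hU' : Submodule.span F (Set.range Y') = U')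
    (hB : ∀ i j, B Q (Y i) (Y j) = B Q' (Y' i) (Y' j)) (nd : Nd Q U) (nd' : Nd Q' U') :
    ∃ T : U ≃ₗ[F] U', (∀ i (hi : Y i ∈ U), (T ⟨Y i, hi⟩ : V') = Y' i) ∧
      (∀ u v : U, B Q' (T u : V') (T v : V') = B Q (u : V) (v : V)) ∧
      ((∀ i, Q (Y i) = Q' (Y' i)) → ∀ v : U, Q' (T v : V') = Q (v : V)) := by
  subst hU hU'
  obtain ⟨T, h1, h2, h3⟩ := gram_iso Q Q' Y Y' hB nd nd'
  exact ⟨T, fun i _ => h1 i, h2, h3⟩

section comp

variable (Q : QuadraticForm F V) (g : V ≃ₗ[F] V)

/-- the complement of `P` in `U` -/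
def comp (P U : Submodule F V) : Submodule F V := (B Q).orthogonal P ⊓ U

theorem mem_comp {P U : Submodule F V} {v : V} : v ∈ comp Q P U ↔ (∀ p ∈ P, B Q p v = 0) ∧ v ∈ U := by
  rw [comp, Submodule.mem_inf, LinearMap.BilinForm.mem_orthogonal_iff]

theorem B_isRefl : (B Q).IsRefl := fun u v h => by rw [B_comm, h]

theorem comp_le (P U : Submodule F V) : comp Q P U ≤ U := inf_le_right

theorem disjoint_orth {P : Submodule F V} (hP : Nd Q P) : Disjoint P ((B Q).orthogonal P) := by
  rw [Submodule.disjoint_def]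
  intro x hx hx'
  apply hP x hx
  intro v hv
  rw [LinearMap.BilinForm.mem_orthogonal_iff] at hx'
  rw [B_comm]
  exact hx' v hv

theorem comp_sup [FiniteDimensional F V] {P U : Submodule F V} (hP : Nd Q P) (hPU : P ≤ U) :
    P ⊔ comp Q P U = U := by
  have h := (LinearMap.BilinForm.isCompl_orthogonal_iff_disjoint (B_isRefl Q) (W := P)).2 (disjoint_orth Q hP)
  rw [comp, ← sup_inf_assoc_of_le _ hPU, h.sup_eq_top, top_inf_eq]

theorem comp_disjoint {P U : Submodule F V} (hP : Nd Q P) : Disjoint P (comp Q P U) :=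
  (disjoint_orth Q hP).mono_right inf_le_left

theorem exists_add [FiniteDimensional F V] {P U : Submodule F V} (hP : Nd Q P) (hPU : P ≤ U) {u : V} (hu : u ∈ U) :
    ∃ p ∈ P, ∃ w ∈ comp Q P U, p + w = u := by
  rw [← comp_sup Q hP hPU] at hu
  exact Submodule.mem_sup.1 hu

theorem comp_nd [FiniteDimensional F V] {P U : Submodule F V} (hP : Nd Q P) (hPU : P ≤ U) (hU : Nd Q U) :
    Nd Q (comp Q P U) := by
  intro u hu h
  apply hU u (comp_le Q P U hu)
  intro v hv
  obtain ⟨p, hp, w, hw, rfl⟩ := exists_add Q hP hPU hv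
  rw [map_add, h w hw, B_comm, ((mem_comp Q).1 hu).1 p hp, add_zero]

theorem finrank_comp [FiniteDimensional F V] {P U : Submodule F V} (hP : Nd Q P) (hPU : P ≤ U) :
    finrank F P + finrank F (comp Q P U) = finrank F U := by
  have h := Submodule.finrank_sup_add_finrank_inf_eq P (comp Q P U)
  rw [(comp_disjoint Q hP).eq_bot, finrank_bot, add_zero, comp_sup Q hP hPU] at h
  exact h.symm

variable {g}

theorem St.symm [FiniteDimensional F V] {U : Submodule F V} (hU : St g U) {v : V} (hv : v ∈ U) : g.symm v ∈ U := by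
  have h1 : U.map g.toLinearMap ≤ U := by
    rintro _ ⟨w, hw, rfl⟩
    exact hU w hw
  have h2 : U.map g.toLinearMap = U := by
    apply Submodule.eq_of_le_of_finrank_eq h1
    exact LinearEquiv.finrank_map_eq g U
  rw [← h2] at hv
  obtain ⟨w, hw, rfl⟩ := hv
  change g.symm (g w) ∈ U
  rwa [LinearEquiv.symm_apply_apply]

theorem St.N_mem {U : Submodule F V} (hU : St g U) {v : V} (hv : v ∈ U) : N g v ∈ U := U.sub_mem (hU v hv) hv

theorem St.Npow_mem {U : Submodule F V} (hU : St g U) {v : V} (hv : v ∈ U) (j : ℕ) : (N g ^ j) v ∈ U := by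
  induction j with
  | zero => exact hv
  | succ j ih => rw [pow_succ_apply]; exact hU.N_mem ih

theorem St.of_N {U : Submodule F V} (hU : ∀ v ∈ U, N g v ∈ U) : St g U := fun v hv => by
  rw [g_eq]; exact U.add_mem hv (hU v hv)

variable {Q}

theorem comp_st [FiniteDimensional F V] (hg : ∀ v, Q (g v) = Q v) {P U : Submodule F V} (hP : St g P) (hU : St g U) :
    St g (comp Q P U) := by
  intro v hv
  rw [mem_comp] at hv ⊢
  refine ⟨fun p hp => ?_, hU v hv.2⟩
  have h := hv.1 _ (hP.symm hp)
  rw [← B_g hg, LinearEquiv.apply_symm_apply] at h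
  exact h

end comp

/-- nondegenerate images -/
theorem nd_range {E : Type*} [AddCommGroup E] [Module F E] (Q : QuadraticForm F V) (Φ : E →ₗ[F] V)
    (h : ∀ e, (∀ e', B Q (Φ e) (Φ e') = 0) → e = 0) :
    Nd Q (LinearMap.range Φ) ∧ finrank F (LinearMap.range Φ) = finrank F E := by
  refine ⟨?_, ?_⟩
  · rintro _ ⟨e, rfl⟩ hu
    rw [h e fun e' => hu _ ⟨e', rfl⟩, map_zero]
  · apply LinearMap.finrank_range_of_inj
    rw [← LinearMap.ker_eq_bot, LinearMap.ker_eq_bot']
    intro e he
    exact h e fun e' => by rw [he, map_zero, LinearMap.zero_apply]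

end Cfsg.Agent.H170.Uni
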