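import Mathlib
import Cfsg.Agent.H170.GramIso

/-!
# The indecomposable pieces of unipotent isometries in characteristic two

* `Piece` : `W m s` (hyperbolic type, dimension `2 m`, sign `s`), `C k s` (cyclic, dimension `2 k`, sign `s`);
* `IsP` : the generators `x`, `y` (`y = 0` for `C`) have the standard values;
* `IsP.nd`, `IsP.finrank` : the piece is nondegenerate of dimension `2 * size`;
* `IsP.iso` : two pieces of the same type are isometric.
-/

set_option autoImplicit false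

namespace Cfsg.Agent.H170.Uni

open LinearMap Module QuadraticMap

variable {F : Type*} [Field F] {V : Type*} [AddCommGroup V] [Module F V]
variable {V' : Type*} [AddCommGroup V'] [Module F V']

/-- types of pieces -/
inductive Piece where
  | W (m : ℕ) (s : Bool) : Piece
  | C (k : ℕ) (s : Bool) : Piece
  deriving DecidableEq

/-- half of the dimension -/
def Piece.size : Piece → ℕ
  | .W m _ => m
  | .C k _ => k

/-- the length (nilpotency index of `N`) -/
def Piece.len : Piece → ℕ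
  | .W m _ => m
  | .C k _ => 2 * k

/-- `x`, `y` are standard generators of a piece of the given type -/
def IsP (Q : QuadraticForm F V) (g : V ≃ₗ[F] V) (α : F) : Piece → V → V → Prop
  | .W m s, x, y => (N g ^ m) x = 0 ∧ (N g ^ m) y = 0 ∧ (∀ j, B Q ((N g ^ j) x) y = if j + 1 = m then 1 else 0) ∧
      (∀ j, Q ((N g ^ j) x) = if s = true ∧ 2 * j + 1 = m then 1 else 0) ∧
      (∀ j, Q ((N g ^ j) y) = if s = true ∧ 2 * j + 1 = m then α else 0)
  | .C k s, x, y => y = 0 ∧ (N g ^ (2 * k)) x = 0 ∧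
      (∀ j, Q ((N g ^ j) x) = if j = k then 1 else if s = true ∧ j + 1 = k then α else 0)

/-- the submodule generated by `x` and `y` -/
def Cyc (g : V ≃ₗ[F] V) (x y : V) : Submodule F V :=
  Submodule.span F (Set.range fun p : ℕ × Bool => (N g ^ p.1) (cond p.2 x y))

theorem Cyc_st (g : V ≃ₗ[F] V) (x y : V) : St g (Cyc g x y) := by
  apply St.of_N
  intro v hv
  rw [Cyc] at hv
  induction hv using Submodule.span_induction with
  | mem v hv =>
    obtain ⟨⟨j, b⟩, rfl⟩ := hv
    apply Submodule.subset_span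
    exact ⟨(j + 1, b), pow_succ_apply _ _ _⟩
  | zero => rw [map_zero]; exact Submodule.zero_mem _
  | add u v _ _ hu hv => rw [map_add]; exact Submodule.add_mem _ hu hv
  | smul c v _ hv => rw [map_smul]; exact Submodule.smul_mem _ _ hv

theorem Cyc_le {g : V ≃ₗ[F] V} {x y : V} {U : Submodule F V} (hU : St g U) (hx : x ∈ U) (hy : y ∈ U) :
    Cyc g x y ≤ U := by
  rw [Cyc, Submodule.span_le]
  rintro _ ⟨⟨j, b⟩, rfl⟩
  cases b
  · exact hU.Npow_mem hy j
  · exact hU.Npow_mem hx j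

theorem Npow_mem_Cyc_left (g : V ≃ₗ[F] V) (x y : V) (j : ℕ) : (N g ^ j) x ∈ Cyc g x y :=
  Submodule.subset_span ⟨(j, true), rfl⟩

theorem Npow_mem_Cyc_right (g : V ≃ₗ[F] V) (x y : V) (j : ℕ) : (N g ^ j) y ∈ Cyc g x y :=
  Submodule.subset_span ⟨(j, false), rfl⟩

theorem mem_Cyc_left (g : V ≃ₗ[F] V) (x y : V) : x ∈ Cyc g x y := Npow_mem_Cyc_left g x y 0

theorem mem_Cyc_right (g : V ≃ₗ[F] V) (x y : V) : y ∈ Cyc g x y := Npow_mem_Cyc_right g x y 0

variable {Q : QuadraticForm F V} {g : V ≃ₗ[F] V} {α : F}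

/-- the top form is alternating on `y` -/
theorem alt_top (h2 : (2 : F) = 0) (hg : ∀ v, Q (g v) = Q v) {m : ℕ} {y : V} (hy : (N g ^ (m + 1)) y = 0)
    (hQ : ∀ j, 2 * j = m + 1 → Q ((N g ^ j) y) = 0) : B Q ((N g ^ m) y) y = 0 := by
  rcases Nat.even_or_odd' m with ⟨k, rfl | rfl⟩
  · have h := B_Npow_top (a := k) (b := k) h2 hg (x := y) (by rwa [← two_mul]) y
    rw [B_self h2, ← two_mul] at h
    exact h.symm
  · rw [← Q_Npow_top h2 hg (by rwa [show 2 * k + 2 = 2 * k + 1 + 1 by ring])]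
    exact hQ (k + 1) (by ring)

theorem W_alt (h2 : (2 : F) = 0) (hg : ∀ v, Q (g v) = Q v) {m : ℕ} {s : Bool} {x y : V}
    (h : IsP Q g α (.W (m + 1) s) x y) : B Q ((N g ^ m) x) x = 0 ∧ B Q ((N g ^ m) y) y = 0 := by
  obtain ⟨h1, h3, -, h4, h5⟩ := h
  refine ⟨alt_top h2 hg h1 fun j hj => ?_, alt_top h2 hg h3 fun j hj => ?_⟩
  · rw [h4, if_neg (by omega)]
  · rw [h5, if_neg (by omega)]

theorem nd_W (h2 : (2 : F) = 0) (hg : ∀ v, Q (g v) = Q v) {m : ℕ} {x y : V} (hx : (N g ^ (m + 1)) x = 0)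
    (hy : (N g ^ (m + 1)) y = 0) (hxy : B Q ((N g ^ m) x) y = 1) (hxx : B Q ((N g ^ m) x) x = 0)
    (hyy : B Q ((N g ^ m) y) y = 0) : Nd Q (Cyc g x y) ∧ finrank F (Cyc g x y) = 2 * (m + 1) := by
  classical
  obtain ⟨Φ, hΦ⟩ : ∃ Φ : ((Fin (m + 1) → F) × (Fin (m + 1) → F)) →ₗ[F] V,
      Φ = (Fintype.linearCombination F (fun a : Fin (m + 1) => (N g ^ (a : ℕ)) x)).coprod
        (Fintype.linearCombination F (fun a : Fin (m + 1) => (N g ^ (a : ℕ)) y)) := ⟨_, rfl⟩
  have hΦa : ∀ e, Φ e = ∑ a, e.1 a • (N g ^ (a : ℕ)) x + ∑ a, e.2 a • (N g ^ (a : ℕ)) y := by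
    intro e
    rw [hΦ, LinearMap.coprod_apply, Fintype.linearCombination_apply, Fintype.linearCombination_apply]
  have hs1 : ∀ a : Fin (m + 1), Φ (Pi.single a 1, 0) = (N g ^ (a : ℕ)) x := by
    intro a
    rw [hΦa]
    simp [Pi.single_apply]
  have hs2 : ∀ a : Fin (m + 1), Φ (0, Pi.single a 1) = (N g ^ (a : ℕ)) y := by
    intro a
    rw [hΦa]
    simp [Pi.single_apply]
  have hyx : B Q ((N g ^ m) y) x = 1 := by
    have h := B_Npow_top (a := 0) (b := m) h2 hg (x := x) (by rwa [zero_add]) y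
    rw [zero_add, hxy, B_comm] at h
    exact h
  have hrange : LinearMap.range Φ = Cyc g x y := by
    apply le_antisymm
    · rintro _ ⟨e, rfl⟩
      rw [hΦa]
      exact Submodule.add_mem _ (Submodule.sum_mem _ fun a _ => Submodule.smul_mem _ _ (Npow_mem_Cyc_left g x y a))
        (Submodule.sum_mem _ fun a _ => Submodule.smul_mem _ _ (Npow_mem_Cyc_right g x y a))
    · rw [Cyc, Submodule.span_le]
      rintro _ ⟨⟨j, b⟩, rfl⟩
      rcases lt_or_ge j (m + 1) with hj | hj
      · cases b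
        · exact ⟨_, hs2 ⟨j, hj⟩⟩
        · exact ⟨_, hs1 ⟨j, hj⟩⟩
      · cases b
        · change (N g ^ j) y ∈ _
          rw [pow_eq_zero_of_le hj hy]; exact Submodule.zero_mem _
        · change (N g ^ j) x ∈ _
          rw [pow_eq_zero_of_le hj hx]; exact Submodule.zero_mem _
  have key : ∀ e, (∀ e', B Q (Φ e) (Φ e') = 0) → e = 0 := by
    intro e he
    -- the values
    have val : ∀ (z w : V) (c : Fin (m + 1) → F) (a : ℕ) (ha : a < m + 1), (N g ^ (m + 1)) z = 0 →
        (∀ b (hb : b < m + 1), b < a → c ⟨b, hb⟩ = 0) →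
        B Q (∑ b, c b • (N g ^ (b : ℕ)) z) ((N g ^ (m - a)) w) = c ⟨a, ha⟩ * B Q ((N g ^ m) z) w := by
      intro z w c a ha hz hc
      rw [map_sum, LinearMap.sum_apply, Finset.sum_eq_single (⟨a, ha⟩ : Fin (m + 1))]
      · rw [map_smul, LinearMap.smul_apply, smul_eq_mul, B_Npow_top h2 hg]
        · congr 3
          rw [show ((⟨a, ha⟩ : Fin (m + 1)) : ℕ) + (m - a) = m by simp; omega]
        · rw [show ((⟨a, ha⟩ : Fin (m + 1)) : ℕ) + (m - a) + 1 = m + 1 by simp; omega, hz]
      · intro b _ hb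
        rcases lt_trichotomy (b : ℕ) a with hlt | heq | hgt
        · rw [hc b b.2 hlt, zero_smul, map_zero, LinearMap.zero_apply]
        · exact absurd (Fin.ext heq) hb
        · rw [map_smul, LinearMap.smul_apply, smul_eq_mul, B_Npow_zero h2 hg, mul_zero]
          exact pow_eq_zero_of_le (by omega) hz
      · intro h; exact absurd (Finset.mem_univ _) h
    have main : ∀ a (ha : a < m + 1), e.1 ⟨a, ha⟩ = 0 ∧ e.2 ⟨a, ha⟩ = 0 := by
      intro a
      induction a using Nat.strong_induction_on with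
      | _ a ih =>
        intro ha
        have hm : m - a < m + 1 := by omega
        have i1 : ∀ b (hb : b < m + 1), b < a → e.1 ⟨b, hb⟩ = 0 := fun b hb h => (ih b h hb).1
        have i2 : ∀ b (hb : b < m + 1), b < a → e.2 ⟨b, hb⟩ = 0 := fun b hb h => (ih b h hb).2
        constructor
        · have h := he (0, Pi.single ⟨m - a, hm⟩ 1)
          rw [hs2, hΦa, map_add, LinearMap.add_apply, val x y e.1 a ha hx i1, val y y e.2 a ha hy i2, hxy, hyy,
            mul_one, mul_zero, add_zero] at h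
          exact h
        · have h := he (Pi.single ⟨m - a, hm⟩ 1, 0)
          rw [hs1, hΦa, map_add, LinearMap.add_apply, val x x e.1 a ha hx i1, val y x e.2 a ha hy i2, hxx, hyx,
            mul_one, mul_zero, zero_add] at h
          exact h
    apply Prod.ext
    · funext a; exact (main a a.2).1
    · funext a; exact (main a a.2).2
  have h := nd_range Q Φ key
  rw [hrange] at h
  refine ⟨h.1, ?_⟩
  rw [h.2, Module.finrank_prod, Module.finrank_fin_fun]
  ring

theorem nd_C (h2 : (2 : F) = 0) (hg : ∀ v, Q (g v) = Q v) {m : ℕ} {x : V} (hx : (N g ^ (m + 1)) x = 0)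
    (hxx : B Q ((N g ^ m) x) x = 1) : Nd Q (Cyc g x 0) ∧ finrank F (Cyc g x 0) = m + 1 := by
  classical
  obtain ⟨Φ, hΦ⟩ : ∃ Φ : (Fin (m + 1) → F) →ₗ[F] V,
      Φ = Fintype.linearCombination F (fun a : Fin (m + 1) => (N g ^ (a : ℕ)) x) := ⟨_, rfl⟩
  have hΦa : ∀ e, Φ e = ∑ a, e a • (N g ^ (a : ℕ)) x := by
    intro e
    rw [hΦ, Fintype.linearCombination_apply]
  have hs1 : ∀ a : Fin (m + 1), Φ (Pi.single a 1) = (N g ^ (a : ℕ)) x := by
    intro a
    rw [hΦa]
    simp [Pi.single_apply]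
  have hrange : LinearMap.range Φ = Cyc g x 0 := by
    apply le_antisymm
    · rintro _ ⟨e, rfl⟩
      rw [hΦa]
      exact Submodule.sum_mem _ fun a _ => Submodule.smul_mem _ _ (Npow_mem_Cyc_left g x 0 a)
    · rw [Cyc, Submodule.span_le]
      rintro _ ⟨⟨j, b⟩, rfl⟩
      cases b
      · change (N g ^ j) 0 ∈ _
        rw [map_zero]; exact Submodule.zero_mem _
      · rcases lt_or_ge j (m + 1) with hj | hj
        · exact ⟨_, hs1 ⟨j, hj⟩⟩
        · change (N g ^ j) x ∈ _
          rw [pow_eq_zero_of_le hj hx]; exact Submodule.zero_mem _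
  have key : ∀ e, (∀ e', B Q (Φ e) (Φ e') = 0) → e = 0 := by
    intro e he
    have main : ∀ a (ha : a < m + 1), e ⟨a, ha⟩ = 0 := by
      intro a
      induction a using Nat.strong_induction_on with
      | _ a ih =>
        intro ha
        have hm : m - a < m + 1 := by omega
        have h := he (Pi.single ⟨m - a, hm⟩ 1)
        rw [hs1, hΦa, map_sum, LinearMap.sum_apply, Finset.sum_eq_single (⟨a, ha⟩ : Fin (m + 1))] at h
        · rw [map_smul, LinearMap.smul_apply, smul_eq_mul, B_Npow_top h2 hg] at h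
          · rw [show ((⟨a, ha⟩ : Fin (m + 1)) : ℕ) + ((⟨m - a, hm⟩ : Fin (m + 1)) : ℕ) = m by simp; omega, hxx,
              mul_one] at h
            exact h
          · rw [show ((⟨a, ha⟩ : Fin (m + 1)) : ℕ) + ((⟨m - a, hm⟩ : Fin (m + 1)) : ℕ) + 1 = m + 1 by simp; omega, hx]
        · intro b _ hb
          rcases lt_trichotomy (b : ℕ) a with hlt | heq | hgt
          · rw [ih b hlt b.2, zero_smul, map_zero, LinearMap.zero_apply]
          · exact absurd (Fin.ext heq) hb
          · rw [map_smul, LinearMap.smul_apply, smul_eq_mul, B_Npow_zero h2 hg, mul_zero]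
            exact pow_eq_zero_of_le (by simp; omega) hx
        · intro h; exact absurd (Finset.mem_univ _) h
    funext a; exact main a a.2
  have h := nd_range Q Φ key
  rw [hrange] at h
  exact ⟨h.1, by rw [h.2, Module.finrank_fin_fun]⟩

theorem C_top (h2 : (2 : F) = 0) (hg : ∀ v, Q (g v) = Q v) {k : ℕ} {s : Bool} {x y : V}
    (h : IsP Q g α (.C (k + 1) s) x y) : B Q ((N g ^ (2 * k + 1)) x) x = 1 := by
  obtain ⟨-, h1, h3⟩ := h
  rw [← Q_Npow_top h2 hg h1, h3, if_pos rfl]

theorem IsP.pos {p : Piece} {x y : V} (h : IsP Q g α p x y) (hx : x ≠ 0) : 0 < p.size := by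
  cases p with
  | W m s =>
    rcases Nat.eq_zero_or_pos m with rfl | hm
    · exact absurd h.1 hx
    · exact hm
  | C k s =>
    rcases Nat.eq_zero_or_pos k with rfl | hk
    · exact absurd h.2.1 hx
    · exact hk

theorem IsP.nd_finrank (h2 : (2 : F) = 0) (hg : ∀ v, Q (g v) = Q v) {p : Piece} {x y : V} (h : IsP Q g α p x y) :
    Nd Q (Cyc g x y) ∧ finrank F (Cyc g x y) = 2 * p.size := by
  cases p with
  | W m s =>
    cases m with
    | zero =>
      have hx : x = 0 := h.1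
      have hy : y = 0 := h.2.1
      subst hx hy
      have h0 : Cyc g (0 : V) 0 = ⊥ := by
        rw [Cyc, Submodule.span_eq_bot]
        rintro _ ⟨⟨j, b⟩, rfl⟩
        cases b <;> simp
      rw [h0]
      refine ⟨fun u hu _ => (Submodule.mem_bot F).1 hu, ?_⟩
      rw [finrank_bot]; rfl
    | succ m =>
      have ha := W_alt h2 hg h
      refine nd_W h2 hg h.1 h.2.1 ?_ ha.1 ha.2
      rw [h.2.2.1, if_pos rfl]
  | C k s =>
    cases k with
    | zero =>
      exfalso
      have hx : x = 0 := h.2.1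
      have h1 := h.2.2 0
      rw [hx, map_zero, map_zero, if_pos rfl] at h1
      exact zero_ne_one h1
    | succ k =>
      have hy : y = 0 := h.1
      subst hy
      have h1 := nd_C h2 hg (m := 2 * k + 1) h.2.1 (C_top h2 hg h)
      exact ⟨h1.1, by rw [h1.2]; simp only [Piece.size]; ring⟩

theorem IsP.pow_len {p : Piece} {x y : V} (h : IsP Q g α p x y) : (N g ^ p.len) x = 0 ∧ (N g ^ p.len) y = 0 := by
  cases p with
  | W m s => exact ⟨h.1, h.2.1⟩
  | C k s =>
    refine ⟨h.2.1, ?_⟩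
    rw [h.1, map_zero]

/-- the top power is nonzero on `x` -/
theorem IsP.pow_ne (h2 : (2 : F) = 0) (hg : ∀ v, Q (g v) = Q v) {p : Piece} {x y : V} (h : IsP Q g α p x y)
    {j : ℕ} (hj : j < p.len) : (N g ^ j) x ≠ 0 := by
  intro h0
  cases p with
  | W m s =>
    simp only [Piece.len] at hj
    have h1 := h.2.2.1 (m - 1)
    rw [pow_eq_zero_of_le (by omega) h0, map_zero, LinearMap.zero_apply, if_pos (by omega)] at h1
    exact zero_ne_one h1
  | C k s =>
    simp only [Piece.len] at hj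
    obtain ⟨k, rfl⟩ : ∃ k', k = k' + 1 := ⟨k - 1, by omega⟩
    have h1 := C_top h2 hg h
    rw [pow_eq_zero_of_le (by omega) h0, map_zero, LinearMap.zero_apply] at h1
    exact zero_ne_one h1

/-- the value of the forms on generators is determined by the type of the piece -/
theorem IsP.gram (h2 : (2 : F) = 0) (hg : ∀ v, Q (g v) = Q v) {Q' : QuadraticForm F V'} {g' : V' ≃ₗ[F] V'}
    (hg' : ∀ v, Q' (g' v) = Q' v) {p : Piece} {x y : V} {x' y' : V'} (h : IsP Q g α p x y)
    (h' : IsP Q' g' α p x' y') :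
    (∀ i j : ℕ × Bool, B Q ((N g ^ i.1) (cond i.2 x y)) ((N g ^ j.1) (cond j.2 x y)) =
      B Q' ((N g' ^ i.1) (cond i.2 x' y')) ((N g' ^ j.1) (cond j.2 x' y'))) ∧
    ∀ i : ℕ × Bool, Q ((N g ^ i.1) (cond i.2 x y)) = Q' ((N g' ^ i.1) (cond i.2 x' y')) := by
  have hq : ∀ i : ℕ × Bool, Q ((N g ^ i.1) (cond i.2 x y)) = Q' ((N g' ^ i.1) (cond i.2 x' y')) := by
    rintro ⟨j, b⟩
    cases p with
    | W m s =>
      cases b
      · change Q ((N g ^ j) y) = Q' ((N g' ^ j) y')
        rw [h.2.2.2.2, h'.2.2.2.2]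
      · change Q ((N g ^ j) x) = Q' ((N g' ^ j) x')
        rw [h.2.2.2.1, h'.2.2.2.1]
    | C k s =>
      cases b
      · change Q ((N g ^ j) y) = Q' ((N g' ^ j) y')
        rw [h.1, h'.1, map_zero, map_zero, map_zero, map_zero]
      · change Q ((N g ^ j) x) = Q' ((N g' ^ j) x')
        rw [h.2.2, h'.2.2]
  refine ⟨?_, hq⟩
  have hc : ∀ a b, B Q ((N g ^ a) x) ((N g ^ b) y) = B Q' ((N g' ^ a) x') ((N g' ^ b) y') := by
    refine cross_gram h2 hg hg' x y x' y' h.pow_len.1 h'.pow_len.1 ?_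
    intro a
    cases p with
    | W m s => rw [h.2.2.1, h'.2.2.1]
    | C k s => rw [h.1, h'.1, map_zero, map_zero]
  rintro ⟨i, bi⟩ ⟨j, bj⟩
  cases bi <;> cases bj
  · exact self_gram h2 hg hg' y y' (fun j => hq (j + 1, false)) i j
  · change B Q ((N g ^ i) y) ((N g ^ j) x) = B Q' ((N g' ^ i) y') ((N g' ^ j) x')
    rw [B_comm Q, B_comm Q']
    exact hc j i
  · exact hc i j
  · exact self_gram h2 hg hg' x x' (fun j => hq (j + 1, true)) i j

end Cfsg.Agent.H170.Uni
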