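import Mathlib
import Cfsg.Agent.H170.Piece

/-!
# Standard generators of the top pieces

* `exists_W` : from `v`, `w` with the right top values to standard generators of `W (m+1) s`;
* `exists_C` : the same for the cyclic pieces.
-/

set_option autoImplicit false

namespace Cfsg.Agent.H170.Uni

open LinearMap Module QuadraticMap

variable {F : Type*} [Field F] {V : Type*} [AddCommGroup V] [Module F V]
variable {Q : QuadraticForm F V} {g : V ≃ₗ[F] V} {α : F}

theorem qbig (h2 : (2 : F) = 0) (hg : ∀ v, Q (g v) = Q v) {m : ℕ} {y : V} (hy : (N g ^ (m + 1)) y = 0)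
    (halt : B Q ((N g ^ m) y) y = 0) {t : ℕ} (ht : m < 2 * t) : Q ((N g ^ t) y) = 0 := by
  obtain ⟨t, rfl⟩ : ∃ t', t = t' + 1 := ⟨t - 1, by omega⟩
  rcases Nat.lt_or_ge m (2 * t + 1) with h | h
  · exact Q_Npow_zero h2 hg (pow_eq_zero_of_le (by omega) hy)
  · have hm : m = 2 * t + 1 := by omega
    subst hm
    rw [Q_Npow_top h2 hg hy, halt]

theorem Q_mod (h2 : (2 : F) = 0) (hg : ∀ v, Q (g v) = Q v) {m : ℕ} {x y : V} (hx : (N g ^ (m + 1)) x = 0)
    (hy : (N g ^ (m + 1)) y = 0) (halt : B Q ((N g ^ m) y) y = 0) {s : ℕ} (hs : 0 < s) (c : F) {j : ℕ}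
    (hj : m ≤ 2 * j + s) : Q ((N g ^ j) (x + c • (N g ^ s) y)) =
      Q ((N g ^ j) x) + (if 2 * j + s = m then c * B Q ((N g ^ m) x) y else 0) := by
  rw [map_add, map_smul, ← pow_add_apply, Q_add_smul, qbig h2 hg hy halt (by omega), mul_zero, add_zero]
  congr 1
  split_ifs with h
  · rw [B_Npow_top h2 hg]
    · rw [show j + (j + s) = m by omega]
    · rwa [show j + (j + s) + 1 = m + 1 by omega]
  · rw [B_Npow_zero h2 hg, mul_zero]
    exact pow_eq_zero_of_le (by omega) hx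

theorem top_symm (h2 : (2 : F) = 0) (hg : ∀ v, Q (g v) = Q v) {m : ℕ} {x y : V} (hy : (N g ^ (m + 1)) y = 0) :
    B Q ((N g ^ m) y) x = B Q ((N g ^ m) x) y := by
  have h := B_Npow_top (a := 0) (b := m) h2 hg (x := y) (by rwa [zero_add]) x
  rw [zero_add] at h
  rw [← h, B_comm]; rfl

/-- the invariant of the level induction -/
structure Lev (Q : QuadraticForm F V) (g : V ≃ₗ[F] V) (U : Submodule F V) (m : ℕ) (c d : F) (l : ℕ) (v w : V) :
    Prop where
  vU : v ∈ U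
  wU : w ∈ U
  hv : (N g ^ (m + 1)) v = 0
  hw : (N g ^ (m + 1)) w = 0
  top : B Q ((N g ^ m) v) w = 1
  av : B Q ((N g ^ m) v) v = 0
  aw : B Q ((N g ^ m) w) w = 0
  cc : ∀ j, m ≤ j + l → j < m → B Q ((N g ^ j) v) w = 0
  qv : ∀ j, m ≤ 2 * j + l → 2 * j < m → Q ((N g ^ j) v) = 0
  qw : ∀ j, m ≤ 2 * j + l → 2 * j < m → Q ((N g ^ j) w) = 0
  cv : ∀ j, 2 * j = m → Q ((N g ^ j) v) = c
  cw : ∀ j, 2 * j = m → Q ((N g ^ j) w) = d

theorem Npow_add_smul_top {m s : ℕ} {x y : V} (hy : (N g ^ (m + 1)) y = 0) (c : F) {j : ℕ}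
    (hj : m + 1 ≤ j + s) : (N g ^ j) (x + c • (N g ^ s) y) = (N g ^ j) x := by
  rw [map_add, map_smul, ← pow_add_apply, pow_eq_zero_of_le hj hy, smul_zero, add_zero]

theorem lev_step (h2 : (2 : F) = 0) (hg : ∀ v, Q (g v) = Q v) {U : Submodule F V} (hU : St g U) {m : ℕ} {c d : F}
    {l : ℕ} {v w : V} (h : Lev Q g U m c d l v w) (hl : l < m) : ∃ v' w', Lev Q g U m c d (l + 1) v' w' := by
  obtain ⟨hvU, hwU, hv, hw, top, av, aw, cc, qv, qw, cv, cw⟩ := h
  have hs : 0 < l + 1 := Nat.succ_pos l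
  -- step 1
  obtain ⟨lam, hlam⟩ : ∃ lam, lam = B Q ((N g ^ (m - (l + 1))) v) w := ⟨_, rfl⟩
  obtain ⟨w1, hw1⟩ : ∃ w1, w1 = w + lam • (N g ^ (l + 1)) w := ⟨_, rfl⟩
  have w1U : w1 ∈ U := hw1 ▸ U.add_mem hwU (U.smul_mem _ (hU.Npow_mem hwU _))
  have w1z : (N g ^ (m + 1)) w1 = 0 := by rw [hw1, Npow_add_smul_top hw _ (by omega), hw]
  have w1m : (N g ^ m) w1 = (N g ^ m) w := by rw [hw1, Npow_add_smul_top hw _ (by omega)]
  have top1 : B Q ((N g ^ m) v) w1 = 1 := by
    rw [hw1, map_add, top, map_smul, B_Npow_zero h2 hg, smul_zero, add_zero]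
    exact pow_eq_zero_of_le (by omega) hv
  have aw1 : B Q ((N g ^ m) w1) w1 = 0 := by
    rw [w1m, hw1, map_add, aw, map_smul, B_Npow_zero h2 hg, smul_zero, add_zero]
    exact pow_eq_zero_of_le (by omega) hw
  have cc1 : ∀ j, m ≤ j + (l + 1) → j < m → B Q ((N g ^ j) v) w1 = 0 := by
    intro j hj hjm
    rw [hw1, map_add, map_smul, smul_eq_mul]
    rcases Nat.lt_or_ge (j + l) m with hlt | hge
    · have hj' : j = m - (l + 1) := by omega
      rw [B_Npow_top h2 hg (by rwa [show j + (l + 1) + 1 = m + 1 by omega]), show j + (l + 1) = m by omega, top,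
        mul_one, hj', ← hlam, add_self h2]
    · rw [cc j hge hjm, B_Npow_zero h2 hg, mul_zero, add_zero]
      exact pow_eq_zero_of_le (by omega) hv
  have q1 : ∀ j, m ≤ 2 * j + (l + 1) → Q ((N g ^ j) w1) = Q ((N g ^ j) w) := by
    intro j hj
    rw [hw1, Q_mod h2 hg hw hw aw hs lam hj, aw, mul_zero]
    simp
  -- step 2
  obtain ⟨mu, hmu⟩ : ∃ mu, mu = Q ((N g ^ ((m - (l + 1)) / 2)) v) := ⟨_, rfl⟩
  obtain ⟨v2, hv2⟩ : ∃ v2, v2 = v + mu • (N g ^ (l + 1)) w1 := ⟨_, rfl⟩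
  have v2U : v2 ∈ U := hv2 ▸ U.add_mem hvU (U.smul_mem _ (hU.Npow_mem w1U _))
  have v2z : (N g ^ (m + 1)) v2 = 0 := by rw [hv2, Npow_add_smul_top w1z _ (by omega), hv]
  have v2m : (N g ^ m) v2 = (N g ^ m) v := by rw [hv2, Npow_add_smul_top w1z _ (by omega)]
  have top2 : B Q ((N g ^ m) v2) w1 = 1 := by rw [v2m, top1]
  have av2 : B Q ((N g ^ m) v2) v2 = 0 := by
    rw [v2m, hv2, map_add, av, map_smul, B_Npow_zero h2 hg, smul_zero, add_zero]
    exact pow_eq_zero_of_le (by omega) hv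
  have cc2 : ∀ j, m ≤ j + (l + 1) → j < m → B Q ((N g ^ j) v2) w1 = 0 := by
    intro j hj hjm
    rw [hv2]
    simp only [map_add, map_smul, LinearMap.add_apply, LinearMap.smul_apply, smul_eq_mul]
    rw [cc1 j hj hjm, zero_add, ← pow_add_apply]
    rcases Nat.lt_or_ge m (j + (l + 1)) with hlt | hge
    · rw [pow_eq_zero_of_le (by omega) w1z, map_zero, LinearMap.zero_apply, mul_zero]
    · rw [show j + (l + 1) = m by omega, aw1, mul_zero]
  have q2 : ∀ j, m ≤ 2 * j + (l + 1) → 2 * j < m → Q ((N g ^ j) v2) = 0 := by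
    intro j hj hjm
    rw [hv2, Q_mod h2 hg hv w1z aw1 hs mu hj, top1, mul_one]
    split_ifs with h
    · rw [hmu, show (m - (l + 1)) / 2 = j by omega, add_self h2]
    · rw [qv j (by omega) hjm, add_zero]
  have c2 : ∀ j, 2 * j = m → Q ((N g ^ j) v2) = c := by
    intro j hj
    rw [hv2, Q_mod h2 hg hv w1z aw1 hs mu (by omega), if_neg (by omega), add_zero, cv j hj]
  -- step 3
  obtain ⟨nu, hnu⟩ : ∃ nu, nu = Q ((N g ^ ((m - (l + 1)) / 2)) w1) := ⟨_, rfl⟩
  obtain ⟨w3, hw3⟩ : ∃ w3, w3 = w1 + nu • (N g ^ (l + 1)) v2 := ⟨_, rfl⟩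
  have w3z : (N g ^ (m + 1)) w3 = 0 := by rw [hw3, Npow_add_smul_top v2z _ (by omega), w1z]
  have w3m : (N g ^ m) w3 = (N g ^ m) w1 := by rw [hw3, Npow_add_smul_top v2z _ (by omega)]
  refine ⟨v2, w3, v2U, hw3 ▸ U.add_mem w1U (U.smul_mem _ (hU.Npow_mem v2U _)), v2z, w3z, ?_, av2, ?_, ?_, q2, ?_, c2,
    ?_⟩
  · rw [hw3, map_add, top2, map_smul, B_Npow_zero h2 hg, smul_zero, add_zero]
    exact pow_eq_zero_of_le (by omega) v2z
  · rw [w3m, hw3, map_add, aw1, map_smul, B_Npow_zero h2 hg, smul_zero, add_zero]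
    exact pow_eq_zero_of_le (by omega) w1z
  · intro j hj hjm
    rw [hw3, map_add, map_smul, smul_eq_mul, cc2 j hj hjm, zero_add]
    rcases Nat.lt_or_ge m (j + (l + 1)) with hlt | hge
    · rw [B_Npow_zero h2 hg, mul_zero]
      exact pow_eq_zero_of_le (by omega) v2z
    · rw [B_Npow_top h2 hg (by rwa [show j + (l + 1) + 1 = m + 1 by omega]), show j + (l + 1) = m by omega, av2,
        mul_zero]
  · intro j hj hjm
    rw [hw3, Q_mod h2 hg w1z v2z av2 hs nu hj, top_symm h2 hg w1z, top2, mul_one]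
    split_ifs with h
    · rw [hnu, show (m - (l + 1)) / 2 = j by omega, add_self h2]
    · rw [q1 j hj, qw j (by omega) hjm, add_zero]
  · intro j hj
    rw [hw3, Q_mod h2 hg w1z v2z av2 hs nu (by omega), if_neg (by omega), add_zero, q1 j (by omega), cw j hj]

/-- **standard generators of the hyperbolic pieces** -/
theorem exists_W (h2 : (2 : F) = 0) (hg : ∀ v, Q (g v) = Q v) {U : Submodule F V} (hU : St g U) {m : ℕ} {s : Bool}
    {v w : V} (hvU : v ∈ U) (hwU : w ∈ U) (hv : (N g ^ (m + 1)) v = 0) (hw : (N g ^ (m + 1)) w = 0)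
    (top : B Q ((N g ^ m) v) w = 1) (av : B Q ((N g ^ m) v) v = 0) (aw : B Q ((N g ^ m) w) w = 0)
    (cv : ∀ j, 2 * j = m → Q ((N g ^ j) v) = if s = true then 1 else 0)
    (cw : ∀ j, 2 * j = m → Q ((N g ^ j) w) = if s = true then α else 0) :
    ∃ x ∈ U, ∃ y ∈ U, IsP Q g α (.W (m + 1) s) x y := by
  have key : ∀ l, l ≤ m → ∃ v' w', Lev Q g U m (if s = true then 1 else 0) (if s = true then α else 0) l v' w' := by
    intro l
    induction l with
    | zero =>
      intro _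
      exact ⟨v, w, hvU, hwU, hv, hw, top, av, aw, fun j _ _ => by omega, fun j _ _ => by omega,
        fun j _ _ => by omega, cv, cw⟩
    | succ l ih =>
      intro hl
      obtain ⟨v', w', h⟩ := ih (by omega)
      exact lev_step h2 hg hU h (by omega)
  obtain ⟨x, y, h⟩ := key m le_rfl
  refine ⟨x, h.vU, y, h.wU, h.hv, h.hw, fun j => ?_, fun j => ?_, fun j => ?_⟩
  · rcases lt_trichotomy j m with hj | rfl | hj
    · rw [h.cc j (by omega) hj, if_neg (by omega)]
    · rw [h.top, if_pos rfl]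
    · rw [pow_eq_zero_of_le (by omega) h.hv, map_zero, LinearMap.zero_apply, if_neg (by omega)]
  · rcases lt_trichotomy (2 * j) m with hj | hj | hj
    · rw [h.qv j (by omega) hj, if_neg (by omega)]
    · rw [h.cv j hj]
      by_cases hs : s = true
      · rw [if_pos hs, if_pos ⟨hs, by omega⟩]
      · rw [if_neg hs, if_neg (fun h => hs h.1)]
    · rw [qbig h2 hg h.hv h.av hj, if_neg (by omega)]
  · rcases lt_trichotomy (2 * j) m with hj | hj | hj
    · rw [h.qw j (by omega) hj, if_neg (by omega)]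
    · rw [h.cw j hj]
      by_cases hs : s = true
      · rw [if_pos hs, if_pos ⟨hs, by omega⟩]
      · rw [if_neg hs, if_neg (fun h => hs h.1)]
    · rw [qbig h2 hg h.hw h.aw hj, if_neg (by omega)]

/-- **standard generators of the cyclic pieces** -/
theorem exists_C (h2 : (2 : F) = 0) (hg : ∀ v, Q (g v) = Q v) {U : Submodule F V} (hU : St g U) {k : ℕ} {s : Bool}
    {v : V} (hvU : v ∈ U) (hv : (N g ^ (2 * (k + 1))) v = 0) (hq : Q ((N g ^ (k + 1)) v) = 1)
    (hq' : Q ((N g ^ k) v) = if s = true then α else 0) : ∃ x ∈ U, IsP Q g α (.C (k + 1) s) x 0 := by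
  have key : ∀ l, l ≤ k → ∃ x ∈ U, (N g ^ (2 * (k + 1))) x = 0 ∧ Q ((N g ^ (k + 1)) x) = 1 ∧
      Q ((N g ^ k) x) = (if s = true then α else 0) ∧ ∀ j, k ≤ j + l → j < k → Q ((N g ^ j) x) = 0 := by
    intro l
    induction l with
    | zero =>
      intro _
      exact ⟨v, hvU, hv, hq, hq', fun j _ _ => by omega⟩
    | succ l ih =>
      intro hl
      obtain ⟨x, hxU, hx, hx1, hx2, hx3⟩ := ih (by omega)
      have top : B Q ((N g ^ (2 * k + 1)) x) x = 1 := by rw [← Q_Npow_top h2 hg hx, hx1]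
      obtain ⟨j0, hj0⟩ : ∃ j0, j0 = k - (l + 1) := ⟨_, rfl⟩
      obtain ⟨t, ht⟩ : ∃ t, t = 2 * k + 1 - 2 * j0 := ⟨_, rfl⟩
      have eff : ∀ c : F, ∀ j, j0 ≤ j → Q ((N g ^ j) (x + c • (N g ^ t) x)) =
          Q ((N g ^ j) x) + (if j = j0 then c else 0) := by
        intro c j hj
        rw [map_add, map_smul, ← pow_add_apply, Q_add_smul]
        have e1 : Q ((N g ^ (j + t)) x) = 0 := by
          obtain ⟨r, hr⟩ : ∃ r, j + t = r + 1 := ⟨j + t - 1, by omega⟩
          rw [hr]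
          exact Q_Npow_zero h2 hg (pow_eq_zero_of_le (by omega) hx)
        rw [e1, mul_zero, add_zero]
        congr 1
        split_ifs with h
        · subst h
          rw [B_Npow_top h2 hg (by rwa [show j + (j + t) + 1 = 2 * (k + 1) by omega]),
            show j + (j + t) = 2 * k + 1 by omega, top, mul_one]
        · rw [B_Npow_zero h2 hg, mul_zero]
          exact pow_eq_zero_of_le (by omega) hx
      obtain ⟨c, hc⟩ : ∃ c, c = Q ((N g ^ j0) x) := ⟨_, rfl⟩
      refine ⟨x + c • (N g ^ t) x, U.add_mem hxU (U.smul_mem _ (hU.Npow_mem hxU _)), ?_, ?_, ?_, ?_⟩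
      · rw [map_add, map_smul, ← pow_add_apply, hx, pow_eq_zero_of_le (by omega) hx, smul_zero, add_zero]
      · rw [eff c _ (by omega), if_neg (by omega), add_zero, hx1]
      · rw [eff c _ (by omega), if_neg (by omega), add_zero, hx2]
      · intro j hj hjk
        rw [eff c j (by omega)]
        split_ifs with h
        · subst h; rw [hc, add_self h2]
        · rw [hx3 j (by omega) hjk, add_zero]
  obtain ⟨x, hxU, hx, hx1, hx2, hx3⟩ := key k le_rfl
  refine ⟨x, hxU, rfl, hx, fun j => ?_⟩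
  rcases lt_trichotomy j (k + 1) with hj | rfl | hj
  · rcases lt_or_eq_of_le (Nat.lt_succ_iff.1 hj) with hj' | rfl
    · rw [hx3 j (by omega) hj', if_neg (by omega), if_neg (by omega)]
    · by_cases hs : s = true
      · rw [hx2, if_pos hs, if_neg (by omega), if_pos ⟨hs, rfl⟩]
      · rw [hx2, if_neg hs, if_neg (by omega), if_neg (fun h => hs h.1)]
  · rw [hx1, if_pos rfl]
  · rw [if_neg (by omega), if_neg (by omega)]
    obtain ⟨r, rfl⟩ : ∃ r, j = r + 1 := ⟨j - 1, by omega⟩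
    exact Q_Npow_zero h2 hg (pow_eq_zero_of_le (by omega) hx)

end Cfsg.Agent.H170.Uni
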