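import Mathlib
import Cfsg.Agent.H170.Level

/-!
# Normal form of unipotent isometries of quadratic forms in characteristic two

* `Dec L U` : the subspace `U` is an orthogonal sum of pieces of the types in the list `L`;
* `NF L` : the list is in normal form;
* `exists_normal` : every nondegenerate stable subspace on which `g - 1` is nilpotent has a decomposition in normal form.
-/

set_option autoImplicit false

namespace Cfsg.Agent.H170.Uni

open LinearMap Module QuadraticMap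

variable {F : Type*} [Field F] {V : Type*} [AddCommGroup V] [Module F V]

/-- `U` is an orthogonal sum of pieces of the types in the list -/
inductive Dec (Q : QuadraticForm F V) (g : V ≃ₗ[F] V) (α : F) : List Piece → Submodule F V → Prop
  | nil : Dec Q g α [] ⊥
  | cons (p : Piece) (L : List Piece) (x y : V) (U : Submodule F V) (hp : IsP Q g α p x y)
      (ho : ∀ a ∈ Cyc g x y, ∀ b ∈ U, B Q a b = 0) (h : Dec Q g α L U) : Dec Q g α (p :: L) (Cyc g x y ⊔ U)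

/-- normal forms -/
structure NF (L : List Piece) : Prop where
  pos : ∀ p ∈ L, 0 < p.size
  wodd : ∀ m, Piece.W m true ∈ L → Odd m ∧ ∀ s, Piece.C (m / 2) s ∉ L
  cmin : ∀ k, Piece.C k true ∈ L → (∀ s, Piece.C (k - 1) s ∉ L) ∧ ∀ s, Piece.W (2 * k - 1) s ∉ L
  cntW : ∀ m, L.count (Piece.W m true) ≤ 1
  cntC : ∀ k, L.count (Piece.C k true) ≤ 1
  cnt : ∀ k, L.count (Piece.C k true) + L.count (Piece.C k false) ≤ 2

variable {Q : QuadraticForm F V} {g : V ≃ₗ[F] V} {α : F}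

theorem Dec.mem {L : List Piece} {U : Submodule F V} (h : Dec Q g α L U) {p : Piece} (hp : p ∈ L) :
    ∃ x ∈ U, ∃ y ∈ U, IsP Q g α p x y := by
  induction h with
  | nil => simp at hp
  | cons p' L x y U hp' ho h ih =>
    rcases List.mem_cons.1 hp with rfl | hp
    · exact ⟨x, Submodule.mem_sup_left (mem_Cyc_left g x y), y, Submodule.mem_sup_left (mem_Cyc_right g x y), hp'⟩
    · obtain ⟨x', hx', y', hy', h'⟩ := ih hp
      exact ⟨x', Submodule.mem_sup_right hx', y', Submodule.mem_sup_right hy', h'⟩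

theorem Dec.len_le (h2 : (2 : F) = 0) (hg : ∀ v, Q (g v) = Q v) {L : List Piece} {U : Submodule F V}
    (h : Dec Q g α L U) {i : ℕ} (hi : ∀ u ∈ U, (N g ^ i) u = 0) {p : Piece} (hp : p ∈ L) : p.len ≤ i := by
  obtain ⟨x, hx, y, hy, hp⟩ := h.mem hp
  by_contra hlt
  exact hp.pow_ne h2 hg (not_le.1 hlt) (hi x hx)

theorem St.sup {U W : Submodule F V} (hU : St g U) (hW : St g W) : St g (U ⊔ W) := by
  intro v hv
  obtain ⟨a, ha, b, hb, rfl⟩ := Submodule.mem_sup.1 hv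
  rw [map_add]
  exact Submodule.add_mem _ (Submodule.mem_sup_left (hU a ha)) (Submodule.mem_sup_right (hW b hb))

theorem Dec.st {L : List Piece} {U : Submodule F V} (h : Dec Q g α L U) : St g U := by
  induction h with
  | nil => intro v hv; rw [Submodule.mem_bot] at hv ⊢; rw [hv, map_zero]
  | cons p L x y U hp ho h ih => exact (Cyc_st g x y).sup ih

/-- two cyclic pieces of the same size -/
theorem Dec.mem_two {L : List Piece} {U : Submodule F V} (h : Dec Q g α L U) {k : ℕ}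
    (hk : 2 ≤ L.count (Piece.C k true) + L.count (Piece.C k false)) :
    ∃ x ∈ U, ∃ y ∈ U, (∃ s, IsP Q g α (.C k s) x 0) ∧ (∃ s, IsP Q g α (.C k s) y 0) ∧
      ∀ a b, B Q ((N g ^ a) x) ((N g ^ b) y) = 0 := by
  induction h with
  | nil => simp at hk
  | cons p L x y U hp ho h ih =>
    by_cases hL : 2 ≤ L.count (Piece.C k true) + L.count (Piece.C k false)
    · obtain ⟨x', hx', y', hy', h'⟩ := ih hL
      exact ⟨x', Submodule.mem_sup_right hx', y', Submodule.mem_sup_right hy', h'⟩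
    · have hp' : ∃ s, p = Piece.C k s := by
        by_contra hne
        push Not at hne
        rw [List.count_cons_of_ne (hne true), List.count_cons_of_ne (hne false)] at hk
        exact hL hk
      obtain ⟨s, rfl⟩ := hp'
      have hL' : ∃ s', Piece.C k s' ∈ L := by
        by_contra hne
        push Not at hne
        rw [List.count_cons, List.count_cons, List.count_eq_zero_of_not_mem (hne true),
          List.count_eq_zero_of_not_mem (hne false)] at hk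
        cases s <;> simp at hk
      obtain ⟨s', hs'⟩ := hL'
      obtain ⟨x', hx', y', hy', h'⟩ := h.mem hs'
      have hy0 : y = 0 := hp.1
      have hy0' : y' = 0 := h'.1
      subst hy0 hy0'
      exact ⟨x, Submodule.mem_sup_left (mem_Cyc_left g x 0), x', Submodule.mem_sup_right hx', ⟨s, hp⟩, ⟨s', h'⟩,
        fun a b => ho _ (Npow_mem_Cyc_left g x 0 a) _ (h.st.Npow_mem hx' b)⟩

/-- splitting off a piece -/
theorem Dec.of_comp [FiniteDimensional F V] (h2 : (2 : F) = 0) (hg : ∀ v, Q (g v) = Q v) {U : Submodule F V}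
    (hU : St g U) {p : Piece} {L : List Piece} {x y : V} (hx : x ∈ U) (hy : y ∈ U) (hp : IsP Q g α p x y)
    (h : Dec Q g α L (comp Q (Cyc g x y) U)) : Dec Q g α (p :: L) U := by
  have h1 := Dec.cons p L x y _ hp (fun a ha b hb => ((mem_comp Q).1 hb).1 a ha) h
  rwa [comp_sup Q (hp.nd_finrank h2 hg).1 (Cyc_le hU hx hy)] at h1

/-- the values of the forms on sums of orthogonal vectors -/
theorem Q_Npow_add_orth {x y : V} {c : F} {j : ℕ} (h : B Q ((N g ^ j) x) ((N g ^ j) y) = 0) :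
    Q ((N g ^ j) (x + c • y)) = Q ((N g ^ j) x) + c * c * Q ((N g ^ j) y) := by
  rw [map_add, map_smul, Q_add_smul, h, mul_zero, add_zero]

section main

theorem exists_pair {U : Submodule F V} (hU : St g U) (hnd : Nd Q U) {m : ℕ} {v : V} (hv : v ∈ U)
    (hne : (N g ^ m) v ≠ 0) : ∃ w ∈ U, B Q ((N g ^ m) v) w = 1 := by
  by_contra hcon
  push Not at hcon
  apply hne
  apply hnd _ (hU.Npow_mem hv m)
  intro w hw
  by_contra h
  apply hcon ((B Q ((N g ^ m) v) w)⁻¹ • w) (U.smul_mem _ hw)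
  rw [map_smul, smul_eq_mul, inv_mul_cancel₀ h]

variable (h2 : (2 : F) = 0) (hsq : ∀ c : F, ∃ d, d * d = c)
  (hα : ∀ r : F, (∃ l, l * l + l = r) ∨ ∃ l, l * l + l = r + α) (hg : ∀ v, Q (g v) = Q v)

include h2 hg

theorem alt_even {k : ℕ} {v : V} (hv : (N g ^ (2 * k + 1)) v = 0) : B Q ((N g ^ (2 * k)) v) v = 0 :=
  alt_top h2 hg hv fun j hj => by omega

/-- the value of the middle form on a sum, odd length -/
theorem Q_mid_add {k : ℕ} {v w : V} (hv : (N g ^ (2 * k + 1)) v = 0) (c : F) :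
    Q ((N g ^ k) (w + c • v)) = Q ((N g ^ k) w) + c * c * Q ((N g ^ k) v) + c * B Q ((N g ^ (2 * k)) v) w := by
  rw [map_add, map_smul, Q_add_smul, B_comm, B_Npow_top h2 hg, two_mul]
  rwa [← two_mul]

theorem caseA1 {U : Submodule F V} (hU : St g U) (hnd : Nd Q U) {k : ℕ} (hN : ∀ u ∈ U, (N g ^ (2 * k + 1)) u = 0)
    {v : V} (hv : v ∈ U) (hne : (N g ^ (2 * k)) v ≠ 0) (hq : Q ((N g ^ k) v) = 0) :
    ∃ x ∈ U, ∃ y ∈ U, IsP Q g α (.W (2 * k + 1) false) x y := by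
  obtain ⟨w, hw, hvw⟩ := exists_pair hU hnd hv hne
  refine exists_W h2 hg hU hv (U.add_mem hw (U.smul_mem (Q ((N g ^ k) w)) hv)) (hN v hv)
    (hN _ (U.add_mem hw (U.smul_mem _ hv))) ?_ (alt_even h2 hg (hN v hv))
    (alt_even h2 hg (hN _ (U.add_mem hw (U.smul_mem _ hv)))) ?_ ?_
  · rw [map_add, map_smul, hvw, alt_even h2 hg (hN v hv), smul_zero, add_zero]
  · intro j hj
    obtain rfl : j = k := by omega
    rw [hq]; simp
  · intro j hj
    obtain rfl : j = k := by omega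
    rw [Q_mid_add h2 hg (hN v hv), hq, hvw, mul_zero, mul_one, add_zero, add_self h2]; simp

include hsq hα

theorem caseA2 {U : Submodule F V} (hU : St g U) (hnd : Nd Q U) {k : ℕ} (hN : ∀ u ∈ U, (N g ^ (2 * k + 1)) u = 0)
    (hA : ∀ v ∈ U, (N g ^ (2 * k)) v ≠ 0 → Q ((N g ^ k) v) ≠ 0)
    {v : V} (hv : v ∈ U) (hne : (N g ^ (2 * k)) v ≠ 0) :
    ∃ x ∈ U, ∃ y ∈ U, IsP Q g α (.W (2 * k + 1) true) x y := by
  obtain ⟨c, hc⟩ := hsq (Q ((N g ^ k) v))⁻¹
  have hqv := hA v hv hne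
  have hc0 : c ≠ 0 := by
    rintro rfl
    rw [mul_zero] at hc
    exact hqv (inv_eq_zero.1 hc.symm)
  obtain ⟨v1, hv1⟩ : ∃ v1, v1 = c • v := ⟨_, rfl⟩
  have hv1U : v1 ∈ U := hv1 ▸ U.smul_mem _ hv
  have hv1ne : (N g ^ (2 * k)) v1 ≠ 0 := by
    rw [hv1, map_smul]
    exact smul_ne_zero hc0 hne
  have hq1 : Q ((N g ^ k) v1) = 1 := by
    rw [hv1, map_smul, Q_smul, hc, inv_mul_cancel₀ hqv]
  obtain ⟨w, hw, hvw⟩ := exists_pair hU hnd hv1U hv1ne
  have key : ∃ l, l * l + l = Q ((N g ^ k) w) + α := by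
    rcases hα (Q ((N g ^ k) w)) with ⟨l, hl⟩ | h
    · exfalso
      have hwU : w + l • v1 ∈ U := U.add_mem hw (U.smul_mem _ hv1U)
      refine hA _ hwU ?_ ?_
      · intro h0
        have h1 : B Q ((N g ^ (2 * k)) (w + l • v1)) v1 = 1 := by
          rw [map_add, map_smul, map_add, map_smul, LinearMap.add_apply, LinearMap.smul_apply,
            alt_even h2 hg (hN v1 hv1U), smul_zero, add_zero, top_symm h2 hg (hN w hw), hvw]
        rw [h0, map_zero, LinearMap.zero_apply] at h1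
        exact zero_ne_one h1
      · rw [Q_mid_add h2 hg (hN v1 hv1U), hq1, hvw, mul_one, mul_one, ← hl]
        linear_combination (l * l + l) * h2
    · exact h
  obtain ⟨l, hl⟩ := key
  have hwU : w + l • v1 ∈ U := U.add_mem hw (U.smul_mem _ hv1U)
  refine exists_W h2 hg hU hv1U hwU (hN v1 hv1U) (hN _ hwU) ?_ (alt_even h2 hg (hN v1 hv1U))
    (alt_even h2 hg (hN _ hwU)) ?_ ?_
  · rw [map_add, map_smul, hvw, alt_even h2 hg (hN v1 hv1U), smul_zero, add_zero]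
  · intro j hj
    obtain rfl : j = k := by omega
    rw [hq1]; simp
  · intro j hj
    obtain rfl : j = k := by omega
    rw [Q_mid_add h2 hg (hN v1 hv1U), hq1, hvw, mul_one, mul_one]
    simp only [if_true]
    linear_combination hl + Q ((N g ^ j) w) * h2

omit hα in
omit hg in
theorem exclA {U : Submodule F V} {k : ℕ}
    (hA : ∀ v ∈ U, (N g ^ (2 * k)) v ≠ 0 → Q ((N g ^ k) v) ≠ 0) {x y : V} (hx : x ∈ U)
    (hp : IsP Q g α (.W (2 * k + 1) true) x y) {z : V} (hz : z ∈ comp Q (Cyc g x y) U)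
    (hzst : ∀ j, (N g ^ j) z ∈ comp Q (Cyc g x y) U) : Q ((N g ^ k) z) = 0 := by
  by_contra hne
  obtain ⟨c, hc⟩ := hsq (Q ((N g ^ k) z))
  have hc0 : c ≠ 0 := by
    rintro rfl
    rw [mul_zero] at hc
    exact hne hc.symm
  refine hA (z + c • x) (U.add_mem (comp_le Q _ _ hz) (U.smul_mem _ hx)) ?_ ?_
  · intro h0
    have h1 : B Q ((N g ^ (2 * k)) (z + c • x)) y = c := by
      rw [map_add, map_smul, map_add, map_smul, LinearMap.add_apply, LinearMap.smul_apply, hp.2.2.1, if_pos rfl,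
        B_comm, ((mem_comp Q).1 (hzst (2 * k))).1 y (mem_Cyc_right g x y), zero_add, smul_eq_mul, mul_one]
    rw [h0, map_zero, LinearMap.zero_apply] at h1
    exact hc0 h1.symm
  · rw [Q_Npow_add_orth, hp.2.2.2.1, if_pos ⟨rfl, rfl⟩, mul_one, hc, add_self h2]
    rw [B_comm]
    exact ((mem_comp Q).1 (hzst k)).1 _ (Npow_mem_Cyc_left g x y k)

omit hsq hα in
theorem caseB1 {U : Submodule F V} (hU : St g U) {k : ℕ} (hN : ∀ u ∈ U, (N g ^ (2 * k + 2)) u = 0)
    {v w : V} (hv : v ∈ U) (hw : w ∈ U) (hvw : B Q ((N g ^ (2 * k + 1)) v) w ≠ 0)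
    (av : B Q ((N g ^ (2 * k + 1)) v) v = 0) (aw : B Q ((N g ^ (2 * k + 1)) w) w = 0) :
    ∃ x ∈ U, ∃ y ∈ U, IsP Q g α (.W (2 * k + 2) false) x y := by
  obtain ⟨w1, hw1⟩ : ∃ w1, w1 = (B Q ((N g ^ (2 * k + 1)) v) w)⁻¹ • w := ⟨_, rfl⟩
  have hw1U : w1 ∈ U := hw1 ▸ U.smul_mem _ hw
  refine exists_W h2 hg hU hv hw1U (hN v hv) (hN _ hw1U) ?_ av ?_ ?_ ?_
  · rw [hw1, map_smul, smul_eq_mul, inv_mul_cancel₀ hvw]
  · rw [hw1, map_smul, map_smul, map_smul, LinearMap.smul_apply, aw, smul_zero, smul_zero]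
  · intro j hj; omega
  · intro j hj; omega

omit hsq hα in
theorem caseB2a {U : Submodule F V} (hU : St g U) {k : ℕ} (hN : ∀ u ∈ U, (N g ^ (2 * k + 2)) u = 0)
    {v : V} (hv : v ∈ U) (hq : Q ((N g ^ (k + 1)) v) = 1) (hq' : Q ((N g ^ k) v) = 0) :
    ∃ x ∈ U, IsP Q g α (.C (k + 1) false) x 0 :=
  exists_C h2 hg hU hv (hN v hv) hq (by rw [hq']; simp)

theorem caseB2b {U : Submodule F V} (hU : St g U) {k : ℕ} (hN : ∀ u ∈ U, (N g ^ (2 * k + 2)) u = 0)
    (hB : ∀ v ∈ U, Q ((N g ^ (k + 1)) v) = 1 → Q ((N g ^ k) v) ≠ 0)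
    {v : V} (hv : v ∈ U) (hne : Q ((N g ^ (k + 1)) v) ≠ 0) :
    ∃ x ∈ U, IsP Q g α (.C (k + 1) true) x 0 := by
  obtain ⟨c, hc⟩ := hsq (Q ((N g ^ (k + 1)) v))⁻¹
  obtain ⟨v1, hv1⟩ : ∃ v1, v1 = c • v := ⟨_, rfl⟩
  have hv1U : v1 ∈ U := hv1 ▸ U.smul_mem _ hv
  have hq1 : Q ((N g ^ (k + 1)) v1) = 1 := by
    rw [hv1, map_smul, Q_smul, hc, inv_mul_cancel₀ hne]
  have e1 : ∀ l : F, Q ((N g ^ (k + 1)) (v1 + l • N g v1)) = 1 := by
    intro l
    rw [map_add, map_smul, ← pow_succ_apply', Q_add_smul, hq1, B_Npow_zero h2 hg (pow_eq_zero_of_le (by omega)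
      (hN v1 hv1U)), Q_Npow_zero h2 hg (pow_eq_zero_of_le (by omega) (hN v1 hv1U))]
    ring
  have e2 : ∀ l : F, Q ((N g ^ k) (v1 + l • N g v1)) = Q ((N g ^ k) v1) + l * l + l := by
    intro l
    rw [map_add, map_smul, ← pow_succ_apply', Q_add_smul, ← Q_Npow_succ h2 hg, hq1]
    ring
  have hmem : ∀ l : F, v1 + l • N g v1 ∈ U := fun l => U.add_mem hv1U (U.smul_mem _ (hU.N_mem hv1U))
  rcases hα (Q ((N g ^ k) v1)) with ⟨l, hl⟩ | ⟨l, hl⟩
  · exfalso
    refine hB _ (hmem l) (e1 l) ?_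
    rw [e2, ← hl]
    linear_combination (l * l + l) * h2
  · refine exists_C h2 hg hU (hmem l) (hN _ (hmem l)) (e1 l) ?_
    rw [e2]
    simp only [if_true]
    linear_combination hl + Q ((N g ^ k) v1) * h2

omit hα in
omit hg in
theorem exclB {U : Submodule F V} {k : ℕ}
    (hB : ∀ v ∈ U, Q ((N g ^ (k + 1)) v) = 1 → Q ((N g ^ k) v) ≠ 0) {x : V} (hx : x ∈ U)
    (hp : IsP Q g α (.C (k + 1) true) x 0) {z : V} (hz : z ∈ comp Q (Cyc g x 0) U)
    (hzst : ∀ j, (N g ^ j) z ∈ comp Q (Cyc g x 0) U) (hq : Q ((N g ^ (k + 1)) z) = 0) : Q ((N g ^ k) z) = 0 := by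
  by_contra hne
  obtain ⟨c, hc⟩ := hsq (α * (Q ((N g ^ k) z))⁻¹)
  have ho : ∀ j, B Q ((N g ^ j) x) ((N g ^ j) z) = 0 := fun j =>
    ((mem_comp Q).1 (hzst j)).1 _ (Npow_mem_Cyc_left g x 0 j)
  refine hB (x + c • z) (U.add_mem hx (U.smul_mem _ (comp_le Q _ _ hz))) ?_ ?_
  · rw [Q_Npow_add_orth (ho _), hq, mul_zero, add_zero, hp.2.2, if_pos rfl]
  · rw [Q_Npow_add_orth (ho _), hc, hp.2.2, if_neg (by omega), if_pos ⟨rfl, rfl⟩, mul_assoc, inv_mul_cancel₀ hne,
      mul_one, add_self h2]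

end main

end Cfsg.Agent.H170.Uni
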