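import Mathlib
import Cfsg.Agent.H170.Normal

/-!
# Existence of the normal form
-/

set_option autoImplicit false

namespace Cfsg.Agent.H170.Uni

open LinearMap Module QuadraticMap

variable {F : Type*} [Field F] {V : Type*} [AddCommGroup V] [Module F V]

theorem NF.nil : NF [] := by
  constructor <;> simp

theorem NF.cons {p : Piece} {L : List Piece} (h : NF L) (c1 : 0 < p.size)
    (c2 : ∀ m, p = .W m true → Odd m ∧ (∀ s, Piece.C (m / 2) s ∉ L) ∧ Piece.W m true ∉ L)
    (c3 : ∀ m, Piece.W m true ∈ L → ∀ s, p ≠ .C (m / 2) s)
    (c4 : ∀ k, p = .C k true → (∀ s, Piece.C (k - 1) s ∉ L) ∧ (∀ s, Piece.W (2 * k - 1) s ∉ L) ∧ Piece.C k true ∉ L)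
    (c5 : ∀ k, Piece.C k true ∈ L → (∀ s, p ≠ .C (k - 1) s) ∧ ∀ s, p ≠ .W (2 * k - 1) s)
    (c6 : ∀ k s, p = .C k s → L.count (Piece.C k true) + L.count (Piece.C k false) ≤ 1) : NF (p :: L) := by
  refine ⟨?_, ?_, ?_, ?_, ?_, ?_⟩
  · intro p' hp'
    rcases List.mem_cons.1 hp' with rfl | hp'
    · exact c1
    · exact h.pos p' hp'
  · intro m hm
    rcases List.mem_cons.1 hm with hm | hm
    · obtain ⟨h1, h3, -⟩ := c2 m hm.symm
      refine ⟨h1, fun s hs => ?_⟩
      rcases List.mem_cons.1 hs with hs | hs
      · rw [← hm] at hs; exact Piece.noConfusion hs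
      · exact h3 s hs
    · refine ⟨(h.wodd m hm).1, fun s hs => ?_⟩
      rcases List.mem_cons.1 hs with hs | hs
      · exact c3 m hm s hs.symm
      · exact (h.wodd m hm).2 s hs
  · intro k hk
    rcases List.mem_cons.1 hk with hk | hk
    · obtain ⟨h1, h3, -⟩ := c4 k hk.symm
      refine ⟨fun s hs => ?_, fun s hs => ?_⟩
      · rcases List.mem_cons.1 hs with hs | hs
        · rw [← hk] at hs c1
          simp only [Piece.C.injEq] at hs
          simp only [Piece.size] at c1
          omega
        · exact h1 s hs
      · rcases List.mem_cons.1 hs with hs | hs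
        · rw [← hk] at hs; exact Piece.noConfusion hs
        · exact h3 s hs
    · refine ⟨fun s hs => ?_, fun s hs => ?_⟩
      · rcases List.mem_cons.1 hs with hs | hs
        · exact (c5 k hk).1 s hs.symm
        · exact (h.cmin k hk).1 s hs
      · rcases List.mem_cons.1 hs with hs | hs
        · exact (c5 k hk).2 s hs.symm
        · exact (h.cmin k hk).2 s hs
  · intro m
    rw [List.count_cons]
    split_ifs with hp
    · rw [List.count_eq_zero_of_not_mem (c2 m (by simpa using hp)).2.2]
    · exact h.cntW m
  · intro k
    rw [List.count_cons]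
    split_ifs with hp
    · rw [List.count_eq_zero_of_not_mem (c4 k (by simpa using hp)).2.2]
    · exact h.cntC k
  · intro k
    rw [List.count_cons, List.count_cons]
    by_cases hp : ∃ s, p = .C k s
    · obtain ⟨s, rfl⟩ := hp
      have := c6 k s rfl
      cases s <;> simp <;> omega
    · push Not at hp
      have e1 : (p == Piece.C k true) = false := by simpa using hp true
      have e2 : (p == Piece.C k false) = false := by simpa using hp false
      rw [e1, e2]
      simpa using h.cnt k

variable {Q : QuadraticForm F V} {g : V ≃ₗ[F] V} {α : F}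

/-- **Existence of the normal form.** -/
theorem exists_normal [FiniteDimensional F V] (h2 : (2 : F) = 0) (hsq : ∀ c : F, ∃ d, d * d = c)
    (hα : ∀ r : F, (∃ l, l * l + l = r) ∨ ∃ l, l * l + l = r + α) (hg : ∀ v, Q (g v) = Q v) (n : ℕ)
    (U : Submodule F V) (hU : St g U) (hnd : Nd Q U) (hnil : ∃ M, ∀ u ∈ U, (N g ^ M) u = 0) (hn : finrank F U = n) :
    ∃ L, Dec Q g α L U ∧ NF L := by
  classical
  induction n using Nat.strong_induction_on generalizing U with
  | _ n ih =>
    by_cases hbot : U = ⊥
    · subst hbot
      exact ⟨[], Dec.nil, NF.nil⟩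
    -- the nilpotency index
    obtain ⟨i, hi, hmin⟩ : ∃ i, (∀ u ∈ U, (N g ^ i) u = 0) ∧ ∀ j, j < i → ¬ ∀ u ∈ U, (N g ^ j) u = 0 :=
      ⟨Nat.find hnil, Nat.find_spec hnil, fun j hj => Nat.find_min hnil hj⟩
    have hi0 : i ≠ 0 := by
      rintro rfl
      apply hbot
      rw [Submodule.eq_bot_iff]
      intro u hu
      exact hi u hu
    obtain ⟨m, rfl⟩ : ∃ m, i = m + 1 := ⟨i - 1, by omega⟩
    have hne := hmin m (Nat.lt_succ_self m)
    push Not at hne
    obtain ⟨u, huU, hu⟩ := hne
    -- splitting off a piece
    have split : ∀ (p : Piece) (x y : V), x ∈ U → y ∈ U → IsP Q g α p x y → 0 < p.size →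
        ∃ L, Dec Q g α L (comp Q (Cyc g x y) U) ∧ NF L ∧ (∀ p' ∈ L, p'.len ≤ m + 1) ∧ Dec Q g α (p :: L) U := by
      intro p x y hx hy hp hpos
      have hPU : Cyc g x y ≤ U := Cyc_le hU hx hy
      have hPnd := hp.nd_finrank h2 hg
      have hst : St g (comp Q (Cyc g x y) U) := comp_st hg (Cyc_st g x y) hU
      have hnd' : Nd Q (comp Q (Cyc g x y) U) := comp_nd Q hPnd.1 hPU hnd
      have hfr := finrank_comp Q hPnd.1 hPU
      rw [hPnd.2] at hfr
      obtain ⟨L, hL1, hL2⟩ := ih _ (by omega) (comp Q (Cyc g x y) U) hst hnd'
        ⟨m + 1, fun v hv => hi v (comp_le Q _ _ hv)⟩ rfl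
      exact ⟨L, hL1, hL2, fun p' hp' => hL1.len_le h2 hg (fun v hv => hi v (comp_le Q _ _ hv)) hp',
        hL1.of_comp h2 hg hU hx hy hp⟩
    rcases Nat.even_or_odd' m with ⟨k, rfl | rfl⟩
    · -- odd length
      by_cases hA : ∀ v ∈ U, (N g ^ (2 * k)) v ≠ 0 → Q ((N g ^ k) v) ≠ 0
      · obtain ⟨x, hx, y, hy, hp⟩ := caseA2 h2 hsq hα hg hU hnd hi hA huU hu
        obtain ⟨L, hL, hNF, hlen, hD⟩ := split _ x y hx hy hp (by simp [Piece.size])
        have hst := hL.st
        have ex : ∀ z ∈ comp Q (Cyc g x y) U, Q ((N g ^ k) z) = 0 := fun z hz =>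
          exclA h2 hsq hA hx hp hz (fun j => hst.Npow_mem hz j)
        have exC : ∀ s, Piece.C k s ∉ L := by
          intro s hs
          obtain ⟨z, hz, y', -, hz'⟩ := hL.mem hs
          have h1 := ex z hz
          rw [hz'.2.2, if_pos rfl] at h1
          exact one_ne_zero h1
        have exW : ∀ s, Piece.W (2 * k + 1) s ∉ L := by
          intro s hs
          obtain ⟨z, hz, y', -, hz'⟩ := hL.mem hs
          exact hA z (comp_le Q _ _ hz) (hz'.pow_ne h2 hg (by simp [Piece.len])) (ex z hz)
        refine ⟨_, hD, hNF.cons (by simp [Piece.size]) ?_ ?_ ?_ ?_ ?_⟩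
        · intro m' hm'
          simp only [Piece.W.injEq, and_true] at hm'
          subst hm'
          refine ⟨⟨k, rfl⟩, fun s => ?_, exW true⟩
          rw [show (2 * k + 1) / 2 = k by omega]
          exact exC s
        · intro m' _ s h; exact Piece.noConfusion h
        · intro m' h; exact Piece.noConfusion h
        · intro k' hk'
          refine ⟨fun s h => Piece.noConfusion h, fun s h => ?_⟩
          simp only [Piece.W.injEq] at h
          have := hlen _ hk'
          simp only [Piece.len] at this
          omega
        · intro k' s h; exact Piece.noConfusion h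
      · push Not at hA
        obtain ⟨v, hv, hvne, hvq⟩ := hA
        obtain ⟨x, hx, y, hy, hp⟩ := caseA1 (α := α) h2 hg hU hnd hi hv hvne hvq
        obtain ⟨L, hL, hNF, hlen, hD⟩ := split _ x y hx hy hp (by simp [Piece.size])
        refine ⟨_, hD, hNF.cons (by simp [Piece.size]) ?_ ?_ ?_ ?_ ?_⟩
        · intro m' hm'
          simp at hm'
        · intro m' _ s h; exact Piece.noConfusion h
        · intro m' h; exact Piece.noConfusion h
        · intro k' hk'
          refine ⟨fun s h => Piece.noConfusion h, fun s h => ?_⟩
          simp only [Piece.W.injEq] at h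
          have := hlen _ hk'
          simp only [Piece.len] at this
          omega
        · intro k' s h; exact Piece.noConfusion h
    · -- even length
      by_cases hB1 : ∃ v ∈ U, ∃ w ∈ U, B Q ((N g ^ (2 * k + 1)) v) w ≠ 0 ∧ B Q ((N g ^ (2 * k + 1)) v) v = 0 ∧
          B Q ((N g ^ (2 * k + 1)) w) w = 0
      · obtain ⟨v, hv, w, hw, hvw, av, aw⟩ := hB1
        obtain ⟨x, hx, y, hy, hp⟩ := caseB1 (α := α) h2 hg hU hi hv hw hvw av aw
        obtain ⟨L, hL, hNF, hlen, hD⟩ := split _ x y hx hy hp (by simp [Piece.size])
        refine ⟨_, hD, hNF.cons (by simp [Piece.size]) ?_ ?_ ?_ ?_ ?_⟩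
        · intro m' hm'
          simp at hm'
        · intro m' _ s h; exact Piece.noConfusion h
        · intro m' h; exact Piece.noConfusion h
        · intro k' hk'
          refine ⟨fun s h => Piece.noConfusion h, fun s h => ?_⟩
          simp only [Piece.W.injEq] at h
          omega
        · intro k' s h; exact Piece.noConfusion h
      · push Not at hB1
        -- no hyperbolic pair
        have hnp : ∀ v ∈ U, ∀ w ∈ U, B Q ((N g ^ (2 * k + 1)) v) v = 0 → B Q ((N g ^ (2 * k + 1)) w) w = 0 →
            B Q ((N g ^ (2 * k + 1)) v) w = 0 := by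
          intro v hv w hw av aw
          by_contra hne
          exact hB1 v hv w hw hne av aw
        have htop : ∀ v ∈ U, Q ((N g ^ (k + 1)) v) = B Q ((N g ^ (2 * k + 1)) v) v := fun v hv =>
          Q_Npow_top h2 hg (hi v hv)
        obtain ⟨z0, hz0, hz0q⟩ : ∃ z ∈ U, Q ((N g ^ (k + 1)) z) ≠ 0 := by
          obtain ⟨w, hw, hvw⟩ := exists_pair hU hnd huU hu
          by_contra hcon
          push Not at hcon
          have h1 := hnp u huU w hw (by rw [← htop u huU, hcon u huU]) (by rw [← htop w hw, hcon w hw])
          rw [hvw] at h1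
          exact one_ne_zero h1
        -- at most one further cyclic piece
        have hcnt : ∀ (s : Bool) (x : V) (L : List Piece), x ∈ U → IsP Q g α (.C (k + 1) s) x 0 →
            Dec Q g α L (comp Q (Cyc g x 0) U) →
            L.count (Piece.C (k + 1) true) + L.count (Piece.C (k + 1) false) ≤ 1 := by
          intro s x L hx hp hL
          by_contra hlt
          obtain ⟨x1, hx1, x2, hx2, ⟨s1, hp1⟩, ⟨s2, hp2⟩, h12⟩ := hL.mem_two (k := k + 1) (by omega)
          have hst := hL.st
          have o1 : ∀ a b, B Q ((N g ^ a) x) ((N g ^ b) x1) = 0 := fun a b =>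
            ((mem_comp Q).1 (hst.Npow_mem hx1 b)).1 _ (Npow_mem_Cyc_left g x 0 a)
          have o2 : ∀ a b, B Q ((N g ^ a) x) ((N g ^ b) x2) = 0 := fun a b =>
            ((mem_comp Q).1 (hst.Npow_mem hx2 b)).1 _ (Npow_mem_Cyc_left g x 0 a)
          have t := C_top h2 hg hp
          have t1 := C_top h2 hg hp1
          have t2 := C_top h2 hg hp2
          have o1' := o1 (2 * k + 1) 0
          have o1'' := o1 0 (2 * k + 1)
          have o2' := o2 (2 * k + 1) 0
          have h12' := h12 (2 * k + 1) 0
          have h12'' := h12 0 (2 * k + 1)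
          rw [B_comm] at o1'' h12''
          rw [pow_zero_apply] at o1' o1'' o2' h12' h12''
          have hx1U := comp_le Q _ _ hx1
          have hx2U := comp_le Q _ _ hx2
          have h3 := hnp (x + x1) (U.add_mem hx hx1U) (x1 + x2) (U.add_mem hx1U hx2U)
            (by
              simp only [map_add, LinearMap.add_apply]
              rw [t, t1, o1', o1'', add_zero, zero_add, add_self h2])
            (by
              simp only [map_add, LinearMap.add_apply]
              rw [t1, t2, h12', h12'', add_zero, zero_add, add_self h2])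
          simp only [map_add, LinearMap.add_apply] at h3
          rw [o1', o2', t1, h12'] at h3
          simp at h3
        by_cases hB2 : ∀ v ∈ U, Q ((N g ^ (k + 1)) v) = 1 → Q ((N g ^ k) v) ≠ 0
        · obtain ⟨x, hx, hp⟩ := caseB2b h2 hsq hα hg hU hi hB2 hz0 hz0q
          obtain ⟨L, hL, hNF, hlen, hD⟩ := split _ x 0 hx (Submodule.zero_mem _) hp (by simp [Piece.size])
          have hst := hL.st
          have ex : ∀ z ∈ comp Q (Cyc g x 0) U, Q ((N g ^ (k + 1)) z) = 0 → Q ((N g ^ k) z) = 0 := fun z hz =>
            exclB h2 hsq hB2 hx hp hz (fun j => hst.Npow_mem hz j)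
          have exC1 : ∀ s, Piece.C (k + 1) s ∉ L := by
            intro s hs
            obtain ⟨z, hz, y', -, hz'⟩ := hL.mem hs
            have h1 := ex (N g z) (hst.N_mem hz) (by
              rw [← pow_succ_apply', hz'.2.2, if_neg (by omega), if_neg (by omega)])
            rw [← pow_succ_apply', hz'.2.2, if_pos rfl] at h1
            exact one_ne_zero h1
          have exC : ∀ s, Piece.C k s ∉ L := by
            intro s hs
            obtain ⟨z, hz, y', -, hz'⟩ := hL.mem hs
            have h1 := ex z hz (by rw [hz'.2.2, if_neg (by omega), if_neg (by omega)])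
            rw [hz'.2.2, if_pos rfl] at h1
            exact one_ne_zero h1
          have exW : ∀ s, Piece.W (2 * k + 1) s ∉ L := by
            intro s hs
            obtain ⟨z, hz, y', hy', hz'⟩ := hL.mem hs
            have hz1 := hz'.1
            have hy1 := hz'.2.1
            cases s
            · have h1 := ex (z + y') (Submodule.add_mem _ hz hy') (by
                rw [map_add, Q_add, hz'.2.2.2.1, hz'.2.2.2.2, if_neg (by simp), if_neg (by simp),
                  B_Npow_zero h2 hg (pow_eq_zero_of_le (by omega) hz1)]
                ring)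
              rw [map_add, Q_add, hz'.2.2.2.1, hz'.2.2.2.2, if_neg (by simp), if_neg (by simp),
                B_Npow_top h2 hg (by rwa [show k + k + 1 = 2 * k + 1 by ring]), hz'.2.2.1,
                if_pos (by ring), zero_add, zero_add] at h1
              exact one_ne_zero h1
            · have h1 := ex z hz (by rw [hz'.2.2.2.1, if_neg (by omega)])
              rw [hz'.2.2.2.1, if_pos ⟨rfl, rfl⟩] at h1
              exact one_ne_zero h1
          refine ⟨_, hD, hNF.cons (by simp [Piece.size]) ?_ ?_ ?_ ?_ ?_⟩
          · intro m' h; exact Piece.noConfusion h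
          · intro m' hm' s h
            simp only [Piece.C.injEq] at h
            have h1 := hlen _ hm'
            simp only [Piece.len] at h1
            have h3 := (hNF.wodd m' hm').1
            obtain ⟨r, rfl⟩ := h3
            omega
          · intro k' hk'
            simp only [Piece.C.injEq, and_true] at hk'
            subst hk'
            refine ⟨fun s => ?_, fun s => ?_, exC1 true⟩
            · rw [Nat.add_sub_cancel]; exact exC s
            · rw [show 2 * (k + 1) - 1 = 2 * k + 1 by omega]; exact exW s
          · intro k' hk'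
            refine ⟨fun s h => ?_, fun s h => Piece.noConfusion h⟩
            simp only [Piece.C.injEq] at h
            have := hlen _ hk'
            simp only [Piece.len] at this
            omega
          · intro k' s h
            simp only [Piece.C.injEq] at h
            rw [← h.1]
            exact hcnt _ x L hx hp hL
        · push Not at hB2
          obtain ⟨v, hv, hv1, hv2⟩ := hB2
          obtain ⟨x, hx, hp⟩ := caseB2a (α := α) h2 hg hU hi hv hv1 hv2
          obtain ⟨L, hL, hNF, hlen, hD⟩ := split _ x 0 hx (Submodule.zero_mem _) hp (by simp [Piece.size])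
          refine ⟨_, hD, hNF.cons (by simp [Piece.size]) ?_ ?_ ?_ ?_ ?_⟩
          · intro m' h; exact Piece.noConfusion h
          · intro m' hm' s h
            simp only [Piece.C.injEq] at h
            have h1 := hlen _ hm'
            simp only [Piece.len] at h1
            have h3 := (hNF.wodd m' hm').1
            obtain ⟨r, rfl⟩ := h3
            omega
          · intro k' hk'
            simp at hk'
          · intro k' hk'
            refine ⟨fun s h => ?_, fun s h => Piece.noConfusion h⟩
            simp only [Piece.C.injEq] at h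
            have := hlen _ hk'
            simp only [Piece.len] at this
            omega
          · intro k' s h
            simp only [Piece.C.injEq] at h
            rw [← h.1]
            exact hcnt _ x L hx hp hL

end Cfsg.Agent.H170.Uni
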