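import Mathlib

/-!
# Combinatorial data of conjugacy classes of orthogonal groups in characteristic two

`Dat F` : for an isometry `g` of a nondegenerate quadratic space over the finite field `F` of characteristic two:
* `f j` : (product of the irreducible polynomials `≠ X - 1` occurring with exponent exactly `j`), a palindromic polynomial;
* `a j` : number of hyperbolic blocks `W(j)` (dimension `2 j`) of the unipotent part;
* `b k` : number of cyclic blocks `V(2k)` (dimension `2 k`) of the unipotent part;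
* `s j`, `t k` : signs (`true` = minus) of the `W(j)`, `j` odd, and of the `V(2k)`.
`Ok n D` : `D` is a normal form of total dimension `2 n`.
-/

set_option autoImplicit false

namespace Cfsg.Agent.H170

open Polynomial

/-- the data -/
structure Dat (F : Type*) [Field F] where
  /-- the part without eigenvalue one -/
  f : ℕ → F[X]
  /-- multiplicity of `W(j)` -/
  a : ℕ → ℕ
  /-- multiplicity of `V(2k)` -/
  b : ℕ → ℕ
  /-- sign of `W(j)` -/
  s : ℕ → Bool
  /-- sign of `V(2k)` -/
  t : ℕ → Bool

/-- normal forms of dimension `2 n` -/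
structure Dat.Ok {F : Type*} [Field F] (n : ℕ) (D : Dat F) : Prop where
  monic : ∀ j, (D.f j).Monic
  pal : ∀ j, (D.f j).reverse = D.f j
  one : ∀ j, (D.f j).eval 1 ≠ 0
  even : ∀ j, Even (D.f j).natDegree
  zero : D.f 0 = 1 ∧ D.a 0 = 0 ∧ D.b 0 = 0
  big : ∀ j, n < j → D.f j = 1 ∧ D.a j = 0 ∧ D.b j = 0
  b_le : ∀ k, D.b k ≤ 2
  s_imp : ∀ j, D.s j = true → Odd j ∧ 0 < D.a j ∧ D.b (j / 2) = 0
  t_imp : ∀ k, D.t k = true → 0 < D.b k ∧ D.b (k - 1) = 0 ∧ D.a (2 * k - 1) = 0
  size : ∑ j ∈ Finset.range (n + 1), (j * ((D.f j).natDegree / 2 + D.a j) + j * D.b j) = n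

end Cfsg.Agent.H170
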