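import Mathlib
import Cfsg.Agent.H170.NormalMain

/-!
# A unipotent isometry in characteristic two is determined by its list of pieces

* `Dec.perm` : the list may be permuted;
* `Dec.nd`, `Dec.finrank` : nondegeneracy and dimension;
* `Dec.iso` : equal lists give an equivariant isometry; lists which are equal after forgetting the signs of `W 1` and
  `C 1` give an equivariant isometry of the polar forms.
-/

set_option autoImplicit false

namespace Cfsg.Agent.H170.Uni

open LinearMap Module QuadraticMap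

variable {F : Type*} [Field F] {V : Type*} [AddCommGroup V] [Module F V]
variable {V' : Type*} [AddCommGroup V'] [Module F V']
variable {Q : QuadraticForm F V} {g : V ≃ₗ[F] V} {α : F}
variable {Q' : QuadraticForm F V'} {g' : V' ≃ₗ[F] V'}

theorem Dec.perm {L L' : List Piece} (h : L.Perm L') : ∀ {U : Submodule F V}, Dec Q g α L U → Dec Q g α L' U := by
  induction h with
  | nil => exact fun h => h
  | cons p _ ih =>
    intro U h
    cases h with
    | cons _ _ x y U' hp ho h' => exact Dec.cons _ _ x y U' hp ho (ih h')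
  | swap p q L =>
    intro U h
    cases h with
    | cons _ _ x y U' hp ho h' =>
      cases h' with
      | cons _ _ x' y' U'' hp' ho' h'' =>
        rw [← sup_assoc, sup_comm (Cyc g x y), sup_assoc]
        refine Dec.cons _ _ x' y' _ hp' ?_ (Dec.cons _ _ x y U'' hp ?_ h'')
        · intro a ha b hb
          obtain ⟨c, hc, d, hd, rfl⟩ := Submodule.mem_sup.1 hb
          rw [map_add, ho' a ha d hd, B_comm, ho c hc a (Submodule.mem_sup_left ha), add_zero]
        · intro a ha b hb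
          exact ho a ha b (Submodule.mem_sup_right hb)
  | trans _ _ ih1 ih2 => exact fun h => ih2 (ih1 h)

theorem nd_sup {P U : Submodule F V} (hP : Nd Q P) (hU : Nd Q U) (ho : ∀ a ∈ P, ∀ b ∈ U, B Q a b = 0) :
    Nd Q (P ⊔ U) ∧ Disjoint P U := by
  refine ⟨?_, ?_⟩
  · intro u hu h
    obtain ⟨a, ha, b, hb, rfl⟩ := Submodule.mem_sup.1 hu
    have h1 : a = 0 := by
      apply hP a ha
      intro v hv
      have := h v (Submodule.mem_sup_left hv)
      rwa [map_add, LinearMap.add_apply, B_comm Q b v, ho v hv b hb, add_zero] at this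
    have h2 : b = 0 := by
      apply hU b hb
      intro v hv
      have := h v (Submodule.mem_sup_right hv)
      rwa [map_add, LinearMap.add_apply, ho a ha v hv, zero_add] at this
    rw [h1, h2, add_zero]
  · rw [Submodule.disjoint_def]
    intro x hx hx'
    apply hP x hx
    intro v hv
    rw [B_comm]
    exact ho v hv x hx'

/-- the sum of the sizes -/
def tot (L : List Piece) : ℕ := (L.map Piece.size).sum

theorem Dec.nd_finrank [FiniteDimensional F V] (h2 : (2 : F) = 0) (hg : ∀ v, Q (g v) = Q v) {L : List Piece}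
    {U : Submodule F V} (h : Dec Q g α L U) : Nd Q U ∧ finrank F U = 2 * tot L := by
  induction h with
  | nil =>
    refine ⟨fun u hu _ => (Submodule.mem_bot F).1 hu, ?_⟩
    rw [finrank_bot]; rfl
  | cons p L x y U hp ho h ih =>
    have hP := hp.nd_finrank h2 hg
    have h3 := nd_sup hP.1 ih.1 ho
    refine ⟨h3.1, ?_⟩
    have h4 := Submodule.finrank_sup_add_finrank_inf_eq (Cyc g x y) U
    rw [h3.2.eq_bot, finrank_bot, add_zero, hP.2, ih.2] at h4
    rw [h4, tot, tot, List.map_cons, List.sum_cons]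
    ring

/-- forget the signs of the pieces `W 1` and `C 1` -/
def Piece.forget : Piece → Piece
  | .W m s => .W m (if m = 1 then false else s)
  | .C k s => .C k (if k = 1 then false else s)

theorem IsP.gramB (h2 : (2 : F) = 0) (hg : ∀ v, Q (g v) = Q v) (hg' : ∀ v, Q' (g' v) = Q' v) {p p' : Piece}
    (hpp : p.forget = p'.forget) {x y : V} {x' y' : V'} (h : IsP Q g α p x y)
    (h' : IsP Q' g' α p' x' y') (i j : ℕ × Bool) :
    B Q ((N g ^ i.1) (cond i.2 x y)) ((N g ^ j.1) (cond j.2 x y)) =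
      B Q' ((N g' ^ i.1) (cond i.2 x' y')) ((N g' ^ j.1) (cond j.2 x' y')) := by
  have hq : (∀ j, Q ((N g ^ (j + 1)) x) = Q' ((N g' ^ (j + 1)) x')) ∧
      (∀ j, Q ((N g ^ (j + 1)) y) = Q' ((N g' ^ (j + 1)) y')) ∧
      (∀ a, B Q ((N g ^ a) x) y = B Q' ((N g' ^ a) x') y') ∧ ∃ M, (N g ^ M) x = 0 ∧ (N g' ^ M) x' = 0 := by
    cases p with
    | W m s =>
      cases p' with
      | C k' s' => exact absurd hpp (by simp [Piece.forget])
      | W m' s' =>
        simp only [Piece.forget, Piece.W.injEq] at hpp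
        obtain ⟨rfl, hs⟩ := hpp
        refine ⟨fun j => ?_, fun j => ?_, fun a => ?_, m, h.1, h'.1⟩
        · rw [h.2.2.2.1, h'.2.2.2.1]
          by_cases hm : m = 1
          · rw [if_neg (by omega), if_neg (by omega)]
          · rw [if_neg hm, if_neg hm] at hs
            rw [hs]
        · rw [h.2.2.2.2, h'.2.2.2.2]
          by_cases hm : m = 1
          · rw [if_neg (by omega), if_neg (by omega)]
          · rw [if_neg hm, if_neg hm] at hs
            rw [hs]
        · rw [h.2.2.1, h'.2.2.1]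
    | C k s =>
      cases p' with
      | W m' s' => exact absurd hpp (by simp [Piece.forget])
      | C k' s' =>
        simp only [Piece.forget, Piece.C.injEq] at hpp
        obtain ⟨rfl, hs⟩ := hpp
        refine ⟨fun j => ?_, fun j => ?_, fun a => ?_, 2 * k, h.2.1, h'.2.1⟩
        · rw [h.2.2, h'.2.2]
          by_cases hk : k = 1
          · congr 1
            rw [if_neg (by omega), if_neg (by omega)]
          · rw [if_neg hk, if_neg hk] at hs
            rw [hs]
        · rw [h.1, h'.1, map_zero, map_zero, map_zero, map_zero]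
        · rw [h.1, h'.1, map_zero, map_zero]
  obtain ⟨hq1, hq2, hq3, M, hM, hM'⟩ := hq
  obtain ⟨i, bi⟩ := i
  obtain ⟨j, bj⟩ := j
  have hc := cross_gram h2 hg hg' x y x' y' hM hM' hq3
  cases bi <;> cases bj
  · exact self_gram h2 hg hg' y y' hq2 i j
  · change B Q ((N g ^ i) y) ((N g ^ j) x) = B Q' ((N g' ^ i) y') ((N g' ^ j) x')
    rw [B_comm Q, B_comm Q']
    exact hc j i
  · exact hc i j
  · exact self_gram h2 hg hg' x x' hq1 i j

/-- an equivariant isometry of the polar forms between subspaces, which is an isometry of the forms if `P` holds -/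
def Iso (Q : QuadraticForm F V) (g : V ≃ₗ[F] V) (Q' : QuadraticForm F V') (g' : V' ≃ₗ[F] V') (P : Prop)
    (U : Submodule F V) (U' : Submodule F V') : Prop :=
  ∃ T : U ≃ₗ[F] U', (∀ u v, B Q' (T u : V') (T v : V') = B Q (u : V) (v : V)) ∧
    (∀ u v : U, (v : V) = g u → (T v : V') = g' (T u)) ∧ (P → ∀ v, Q' (T v : V') = Q (v : V))

theorem Iso.glue {P : Prop} {U₁ U₂ : Submodule F V} {U₁' U₂' : Submodule F V'} (h1 : Iso Q g Q' g' P U₁ U₁')
    (h2 : Iso Q g Q' g' P U₂ U₂') (st1 : St g U₁) (st2 : St g U₂)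
    (ho : ∀ a ∈ U₁, ∀ b ∈ U₂, B Q a b = 0) (ho' : ∀ a ∈ U₁', ∀ b ∈ U₂', B Q' a b = 0) (nd1 : Nd Q U₁) (nd2 : Nd Q U₂)
    (nd1' : Nd Q' U₁') (nd2' : Nd Q' U₂') : Iso Q g Q' g' P (U₁ ⊔ U₂) (U₁' ⊔ U₂') := by
  obtain ⟨T₁, a1, b1, c1⟩ := h1
  obtain ⟨T₂, a2, b2, c2⟩ := h2
  obtain ⟨Y, hY⟩ : ∃ Y : U₁ ⊕ U₂ → V, Y = Sum.elim Subtype.val Subtype.val := ⟨_, rfl⟩
  obtain ⟨Y', hY'⟩ : ∃ Y' : U₁ ⊕ U₂ → V', Y' = Sum.elim (fun u => (T₁ u : V')) (fun u => (T₂ u : V')) := ⟨_, rfl⟩
  have hs : Submodule.span F (Set.range Y) = U₁ ⊔ U₂ := by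
    rw [hY, Set.Sum.elim_range, Submodule.span_union, Subtype.range_coe, Subtype.range_coe, Submodule.span_eq,
      Submodule.span_eq]
  have hs' : Submodule.span F (Set.range Y') = U₁' ⊔ U₂' := by
    have e1 : Set.range (fun u => (T₁ u : V')) = (U₁' : Set V') := by
      ext v
      constructor
      · rintro ⟨u, rfl⟩; exact (T₁ u).2
      · intro hv; exact ⟨T₁.symm ⟨v, hv⟩, by simp⟩
    have e2 : Set.range (fun u => (T₂ u : V')) = (U₂' : Set V') := by
      ext v
      constructor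
      · rintro ⟨u, rfl⟩; exact (T₂ u).2
      · intro hv; exact ⟨T₂.symm ⟨v, hv⟩, by simp⟩
    rw [hY', Set.Sum.elim_range, Submodule.span_union, e1, e2, Submodule.span_eq, Submodule.span_eq]
  obtain ⟨S, hT1, hT2, hT3⟩ := gram_iso' Q Q' Y Y' hs hs' (by
      intro i j
      subst hY hY'
      rcases i with i | i <;> rcases j with j | j
      · exact (a1 i j).symm
      · change B Q (i : V) (j : V) = B Q' (T₁ i : V') (T₂ j : V')
        rw [ho _ i.2 _ j.2, ho' _ (T₁ i).2 _ (T₂ j).2]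
      · change B Q (i : V) (j : V) = B Q' (T₂ i : V') (T₁ j : V')
        rw [B_comm, ho _ j.2 _ i.2, B_comm, ho' _ (T₁ j).2 _ (T₂ i).2]
      · exact (a2 i j).symm)
    (nd_sup nd1 nd2 ho).1 (nd_sup nd1' nd2' ho').1
  have hS1 : ∀ (u : V) (hu : u ∈ U₁), (S ⟨u, Submodule.mem_sup_left hu⟩ : V') = T₁ ⟨u, hu⟩ := by
    intro u hu
    subst hY hY'
    exact hT1 (Sum.inl ⟨u, hu⟩) _
  have hS2 : ∀ (u : V) (hu : u ∈ U₂), (S ⟨u, Submodule.mem_sup_right hu⟩ : V') = T₂ ⟨u, hu⟩ := by
    intro u hu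
    subst hY hY'
    exact hT1 (Sum.inr ⟨u, hu⟩) _
  refine ⟨S, hT2, fun u v huv => ?_, fun hP => hT3 ?_⟩
  · obtain ⟨u, hu⟩ := u
    obtain ⟨a, ha, b, hb, rfl⟩ := Submodule.mem_sup.1 hu
    have e1 : (⟨a + b, hu⟩ : ↥(U₁ ⊔ U₂)) = ⟨a, Submodule.mem_sup_left ha⟩ + ⟨b, Submodule.mem_sup_right hb⟩ := rfl
    have e2 : v = ⟨g a, Submodule.mem_sup_left (st1 a ha)⟩ + ⟨g b, Submodule.mem_sup_right (st2 b hb)⟩ := by
      apply Subtype.ext
      rw [huv]
      exact map_add g a b
    rw [e1, e2, map_add, map_add, Submodule.coe_add, Submodule.coe_add, map_add, hS1 _ (st1 a ha), hS2 _ (st2 b hb),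
      hS1 a ha, hS2 b hb, b1 ⟨a, ha⟩ ⟨g a, st1 a ha⟩ rfl, b2 ⟨b, hb⟩ ⟨g b, st2 b hb⟩ rfl]
  · intro i
    subst hY hY'
    rcases i with i | i
    · exact (c1 hP i).symm
    · exact (c2 hP i).symm

theorem Iso.of_isP [FiniteDimensional F V] (h2 : (2 : F) = 0) (hg : ∀ v, Q (g v) = Q v) (hg' : ∀ v, Q' (g' v) = Q' v)
    {p p' : Piece} (hpp : p.forget = p'.forget) {x y : V} {x' y' : V'} (h : IsP Q g α p x y)
    (h' : IsP Q' g' α p' x' y') : Iso Q g Q' g' (p = p') (Cyc g x y) (Cyc g' x' y') := by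
  obtain ⟨T, hT1, hT2, hT3⟩ := gram_iso' Q Q' (fun i : ℕ × Bool => (N g ^ i.1) (cond i.2 x y))
    (fun i : ℕ × Bool => (N g' ^ i.1) (cond i.2 x' y')) (U := Cyc g x y) (U' := Cyc g' x' y') rfl rfl
    (h.gramB h2 hg hg' hpp h') (h.nd_finrank h2 hg).1 (h'.nd_finrank h2 hg').1
  refine ⟨T, hT2, fun u v huv => ?_, fun hP => hT3 ?_⟩
  · obtain ⟨u, hu⟩ := u
    obtain ⟨v, hv⟩ := v
    change v = g u at huv
    subst huv
    -- the statement is linear in `u`
    have key : ∀ u (hu : u ∈ Cyc g x y), (T ⟨N g u, (Cyc_st g x y).N_mem hu⟩ : V') = N g' (T ⟨u, hu⟩ : V') := by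
      intro u hu
      have hu' := hu
      rw [Cyc] at hu'
      induction hu' using Submodule.span_induction with
      | mem u hu' =>
        obtain ⟨⟨j, b⟩, rfl⟩ := hu'
        have e1 := hT1 (j, b) hu
        have e2 := hT1 (j + 1, b) (Submodule.subset_span ⟨(j + 1, b), rfl⟩)
        have e3 : (⟨N g ((N g ^ j) (cond b x y)), (Cyc_st g x y).N_mem hu⟩ : Cyc g x y) =
            ⟨(N g ^ (j + 1)) (cond b x y), Submodule.subset_span ⟨(j + 1, b), rfl⟩⟩ := by
          apply Subtype.ext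
          exact (pow_succ_apply _ _ _).symm
        have e4 : (T ⟨N g ((N g ^ j) (cond b x y)), (Cyc_st g x y).N_mem hu⟩ : V') =
            N g' ((N g' ^ j) (cond b x' y')) := by
          rw [e3, ← pow_succ_apply]
          exact e2
        rw [← e1] at e4
        exact e4
      | zero =>
        have e1 : (⟨N g 0, (Cyc_st g x y).N_mem hu⟩ : Cyc g x y) = 0 := by
          apply Subtype.ext; exact map_zero _
        have e2 : (⟨0, hu⟩ : Cyc g x y) = 0 := rfl
        rw [e1, e2, map_zero]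
        simp
      | add a b ha hb iha ihb =>
        have e1 : (⟨N g (a + b), (Cyc_st g x y).N_mem hu⟩ : Cyc g x y) =
            ⟨N g a, (Cyc_st g x y).N_mem ha⟩ + ⟨N g b, (Cyc_st g x y).N_mem hb⟩ := by
          apply Subtype.ext; exact map_add _ _ _
        have e2 : (⟨a + b, hu⟩ : Cyc g x y) = ⟨a, ha⟩ + ⟨b, hb⟩ := rfl
        rw [e1, e2, map_add, map_add, Submodule.coe_add, Submodule.coe_add, map_add, iha ha, ihb hb]
      | smul c a ha iha =>
        have e1 : (⟨N g (c • a), (Cyc_st g x y).N_mem hu⟩ : Cyc g x y) = c • ⟨N g a, (Cyc_st g x y).N_mem ha⟩ := by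
          apply Subtype.ext; exact map_smul _ _ _
        have e2 : (⟨c • a, hu⟩ : Cyc g x y) = c • ⟨a, ha⟩ := rfl
        rw [e1, e2, map_smul, map_smul, Submodule.coe_smul, Submodule.coe_smul, map_smul, iha ha]
    have e1 : (⟨g u, hv⟩ : Cyc g x y) = ⟨u, hu⟩ + ⟨N g u, (Cyc_st g x y).N_mem hu⟩ := by
      apply Subtype.ext; exact g_eq g u
    rw [e1, map_add, Submodule.coe_add, key u hu, ← g_eq]
  · subst hP
    exact (h.gram h2 hg hg' h').2

/-- **The list of pieces determines the isometry.** -/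
theorem Dec.iso [FiniteDimensional F V] [FiniteDimensional F V'] (h2 : (2 : F) = 0) (hg : ∀ v, Q (g v) = Q v)
    (hg' : ∀ v, Q' (g' v) = Q' v) {L L' : List Piece} {U : Submodule F V} {U' : Submodule F V'}
    (hLL : L.map Piece.forget = L'.map Piece.forget) (h : Dec Q g α L U) (h' : Dec Q' g' α L' U') :
    Iso Q g Q' g' (L = L') U U' := by
  induction h generalizing L' U' with
  | nil =>
    cases h' with
    | nil =>
      refine ⟨LinearEquiv.ofSubsingleton _ _, fun u v => ?_, fun u v _ => ?_, fun _ v => ?_⟩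
      · rw [Subsingleton.elim u 0, map_zero]; simp
      · rw [Subsingleton.elim u 0, Subsingleton.elim v 0, map_zero]; simp
      · rw [Subsingleton.elim v 0, map_zero]; simp
    | cons _ _ _ _ _ _ _ _ => simp at hLL
  | cons p L x y U hp ho h ih =>
    cases h' with
    | nil => simp at hLL
    | cons p' L' x' y' U' hp' ho' h' =>
      simp only [List.map_cons, List.cons.injEq] at hLL
      have i1 := Iso.of_isP h2 hg hg' hLL.1 hp hp'
      have i2 := ih hLL.2 h'
      obtain ⟨T1, a1, b1, c1⟩ := i1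
      obtain ⟨T2, a2, b2, c2⟩ := i2
      refine Iso.glue ⟨T1, a1, b1, fun hP => c1 (List.cons.inj hP).1⟩ ⟨T2, a2, b2, fun hP => c2 (List.cons.inj hP).2⟩
        (Cyc_st g x y) h.st ho ho' (hp.nd_finrank h2 hg).1 (h.nd_finrank h2 hg).1 (hp'.nd_finrank h2 hg').1
        (h'.nd_finrank h2 hg').1

end Cfsg.Agent.H170.Uni
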