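import Mathlib
import Cfsg.Agent.H170.Dat
import Cfsg.Agent.H170.Unique

/-!
# From lists of pieces to combinatorial data

* `datOf f L` : the data of the list `L` of pieces and the family `f` of polynomials; `datOf_ok` : it is a normal form;
* `perm_of_dat` : the data determine `L` up to order; `perm_forget_of_dat` : up to order and signs of `W 1`, `C 1`.
-/

set_option autoImplicit false

namespace Cfsg.Agent.H170.Uni

open Polynomial

variable {F : Type*} [Field F]

/-- number of pieces `W m` -/
def aOf (L : List Piece) (m : ℕ) : ℕ := L.count (Piece.W m true) + L.count (Piece.W m false)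

/-- number of pieces `C k` -/
def bOf (L : List Piece) (k : ℕ) : ℕ := L.count (Piece.C k true) + L.count (Piece.C k false)

theorem ab_cons (p : Piece) (L : List Piece) (j : ℕ) :
    aOf (p :: L) j + bOf (p :: L) j = (aOf L j + bOf L j) + if p.size = j then 1 else 0 := by
  rcases p with ⟨m, s⟩ | ⟨m, s⟩ <;> rcases s with _ | _ <;> by_cases h : m = j <;>
    simp [aOf, bOf, Piece.size, h] <;> omega

theorem tot_cons (p : Piece) (L : List Piece) : tot (p :: L) = p.size + tot L := by simp [tot]

theorem tot_eq (L : List Piece) (n : ℕ) (h : tot L ≤ n) :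
    ∑ j ∈ Finset.range (n + 1), j * (aOf L j + bOf L j) = tot L := by
  induction L with
  | nil => simp [aOf, bOf, tot]
  | cons p L ih =>
    rw [tot_cons] at h ⊢
    have h1 := ih (by omega)
    have h2 : ∀ j ∈ Finset.range (n + 1), j * (aOf (p :: L) j + bOf (p :: L) j) =
        j * (aOf L j + bOf L j) + if p.size = j then j else 0 := by
      intro j _
      rw [ab_cons, mul_add]
      split_ifs <;> simp
    rw [Finset.sum_congr rfl h2, Finset.sum_add_distrib, h1, Finset.sum_ite_eq, if_pos, add_comm]
    rw [Finset.mem_range]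
    omega

theorem size_le_tot {p : Piece} {L : List Piece} (h : p ∈ L) : p.size ≤ tot L := by
  induction L with
  | nil => cases h
  | cons q L ih =>
    rw [tot_cons]
    rcases List.mem_cons.1 h with rfl | h
    · omega
    · have := ih h
      omega

theorem aOf_pos {L : List Piece} {m : ℕ} (h : 0 < aOf L m) : ∃ s, Piece.W m s ∈ L := by
  by_contra hc
  push Not at hc
  have h1 := List.count_eq_zero.2 (hc true)
  have h2 := List.count_eq_zero.2 (hc false)
  rw [aOf, h1, h2] at h
  exact lt_irrefl _ h

theorem bOf_pos {L : List Piece} {m : ℕ} (h : 0 < bOf L m) : ∃ s, Piece.C m s ∈ L := by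
  by_contra hc
  push Not at hc
  have h1 := List.count_eq_zero.2 (hc true)
  have h2 := List.count_eq_zero.2 (hc false)
  rw [bOf, h1, h2] at h
  exact lt_irrefl _ h

theorem aOf_eq_zero {L : List Piece} {m : ℕ} (h : ∀ s, Piece.W m s ∉ L) : aOf L m = 0 := by
  by_contra hc
  obtain ⟨s, hs⟩ := aOf_pos (Nat.pos_of_ne_zero hc)
  exact h s hs

theorem bOf_eq_zero {L : List Piece} {m : ℕ} (h : ∀ s, Piece.C m s ∉ L) : bOf L m = 0 := by
  by_contra hc
  obtain ⟨s, hs⟩ := bOf_pos (Nat.pos_of_ne_zero hc)
  exact h s hs

theorem aOf_pos' {L : List Piece} {m : ℕ} {s : Bool} (h : Piece.W m s ∈ L) : 0 < aOf L m := by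
  have := List.count_pos_iff.2 h
  cases s <;> simp only [aOf] <;> omega

theorem bOf_pos' {L : List Piece} {m : ℕ} {s : Bool} (h : Piece.C m s ∈ L) : 0 < bOf L m := by
  have := List.count_pos_iff.2 h
  cases s <;> simp only [bOf] <;> omega

/-- the data of a list of pieces and a family of polynomials -/
def datOf (f : ℕ → F[X]) (L : List Piece) : Dat F where
  f := f
  a := aOf L
  b := bOf L
  s := fun m => decide (Piece.W m true ∈ L)
  t := fun k => decide (Piece.C k true ∈ L)

theorem datOf_ok {f : ℕ → F[X]} {L : List Piece} {n : ℕ} (hL : NF L) (h1 : ∀ j, (f j).Monic)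
    (h2 : ∀ j, (f j).reverse = f j) (h3 : ∀ j, (f j).eval 1 ≠ 0) (h4 : ∀ j, Even (f j).natDegree) (h5 : f 0 = 1)
    (h6 : ∀ j, 2 * n < j → f j = 1)
    (h7 : ∑ j ∈ Finset.range (2 * n + 1), j * (f j).natDegree + 2 * tot L = 2 * n) : (datOf f L).Ok n := by
  have hf : ∀ j, n < j → f j = 1 := by
    intro j hj
    by_cases hj2 : 2 * n < j
    · exact h6 j hj2
    · have h8 : j * (f j).natDegree ≤ ∑ j ∈ Finset.range (2 * n + 1), j * (f j).natDegree :=
        Finset.single_le_sum (f := fun j => j * (f j).natDegree) (fun _ _ => Nat.zero_le _)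
          (Finset.mem_range.2 (by omega))
      obtain ⟨r, hr⟩ := h4 j
      have hr0 : r = 0 := by
        by_contra hr0
        have h9 : j * 2 ≤ j * (f j).natDegree := Nat.mul_le_mul_left _ (by omega)
        omega
      exact (h1 j).natDegree_eq_zero.1 (by omega)
  have htot : tot L ≤ n := by omega
  refine ⟨h1, h2, h3, h4, ⟨h5, ?_, ?_⟩, fun j hj => ⟨hf j hj, ?_, ?_⟩, ?_, ?_, ?_, ?_⟩
  · exact aOf_eq_zero fun s hs => absurd (hL.pos _ hs) (lt_irrefl _)
  · exact bOf_eq_zero fun s hs => absurd (hL.pos _ hs) (lt_irrefl _)
  · exact aOf_eq_zero fun s hs => by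
      have := size_le_tot hs
      simp only [Piece.size] at this
      omega
  · exact bOf_eq_zero fun s hs => by
      have := size_le_tot hs
      simp only [Piece.size] at this
      omega
  · exact hL.cnt
  · intro j hj
    have hj' : Piece.W j true ∈ L := of_decide_eq_true hj
    exact ⟨(hL.wodd j hj').1, aOf_pos' hj', bOf_eq_zero (hL.wodd j hj').2⟩
  · intro k hk
    have hk' : Piece.C k true ∈ L := of_decide_eq_true hk
    exact ⟨bOf_pos' hk', bOf_eq_zero (hL.cmin k hk').1, aOf_eq_zero (hL.cmin k hk').2⟩
  · have h8 : ∑ j ∈ Finset.range (2 * n + 1), j * (f j).natDegree =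
        ∑ j ∈ Finset.range (n + 1), j * (f j).natDegree := by
      symm
      apply Finset.sum_subset
      · intro j hj
        rw [Finset.mem_range] at hj ⊢
        omega
      · intro j _ hj
        rw [Finset.mem_range] at hj
        rw [hf j (by omega), natDegree_one, mul_zero]
    have h9 : ∑ j ∈ Finset.range (n + 1), j * (f j).natDegree =
        2 * ∑ j ∈ Finset.range (n + 1), j * ((f j).natDegree / 2) := by
      rw [Finset.mul_sum]
      refine Finset.sum_congr rfl fun j _ => ?_
      obtain ⟨r, hr⟩ := h4 j
      rw [hr, show (r + r) / 2 = r by omega]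
      ring
    have h10 := tot_eq L n htot
    have h11 : ∑ j ∈ Finset.range (n + 1), (j * ((f j).natDegree / 2 + aOf L j) + j * bOf L j) =
        ∑ j ∈ Finset.range (n + 1), j * ((f j).natDegree / 2) +
        ∑ j ∈ Finset.range (n + 1), j * (aOf L j + bOf L j) := by
      rw [← Finset.sum_add_distrib]
      exact Finset.sum_congr rfl fun j _ => by ring
    show ∑ j ∈ Finset.range (n + 1), (j * ((f j).natDegree / 2 + aOf L j) + j * bOf L j) = n
    rw [h11]
    omega

theorem NF.count_W {L : List Piece} (h : NF L) (m : ℕ) :
    L.count (Piece.W m true) = if decide (Piece.W m true ∈ L) = true then 1 else 0 := by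
  have h1 := h.cntW m
  by_cases h2 : Piece.W m true ∈ L
  · have := List.count_pos_iff.2 h2
    simp [h2]
    omega
  · simp [h2, List.count_eq_zero.2 h2]

theorem NF.count_C {L : List Piece} (h : NF L) (m : ℕ) :
    L.count (Piece.C m true) = if decide (Piece.C m true ∈ L) = true then 1 else 0 := by
  have h1 := h.cntC m
  by_cases h2 : Piece.C m true ∈ L
  · have := List.count_pos_iff.2 h2
    simp [h2]
    omega
  · simp [h2, List.count_eq_zero.2 h2]

/-- the data determine the list up to order -/
theorem perm_of_dat {L L' : List Piece} (h : NF L) (h' : NF L') (ha : aOf L = aOf L') (hb : bOf L = bOf L')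
    (hs : ∀ m, decide (Piece.W m true ∈ L) = decide (Piece.W m true ∈ L'))
    (ht : ∀ m, decide (Piece.C m true ∈ L) = decide (Piece.C m true ∈ L')) : L.Perm L' := by
  rw [List.perm_iff_count]
  have hW : ∀ m, L.count (Piece.W m true) = L'.count (Piece.W m true) := fun m => by
    rw [h.count_W, h'.count_W, hs]
  have hC : ∀ m, L.count (Piece.C m true) = L'.count (Piece.C m true) := fun m => by
    rw [h.count_C, h'.count_C, ht]
  rintro (⟨m, s⟩ | ⟨m, s⟩)
  · cases s
    · have h1 := congrFun ha m
      have h2 := hW m
      simp only [aOf] at h1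
      omega
    · exact hW m
  · cases s
    · have h1 := congrFun hb m
      have h2 := hC m
      simp only [bOf] at h1
      omega
    · exact hC m

theorem count_map_forget_W (L : List Piece) (m : ℕ) (s : Bool) :
    (L.map Piece.forget).count (Piece.W m s) =
      if m = 1 then (if s = true then 0 else aOf L 1) else L.count (Piece.W m s) := by
  induction L with
  | nil => simp [aOf]
  | cons p L ih =>
    rw [List.map_cons, List.count_cons, ih]
    rcases p with ⟨k, r⟩ | ⟨k, r⟩
    · by_cases hk : k = 1 <;> by_cases hm : m = 1 <;> cases s <;> cases r <;>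
        simp [Piece.forget, hk, hm, aOf, List.count_cons] <;> omega
    · by_cases hk : k = 1 <;> by_cases hm : m = 1 <;> cases s <;> cases r <;>
        simp [Piece.forget, hk, hm, aOf]

theorem count_map_forget_C (L : List Piece) (m : ℕ) (s : Bool) :
    (L.map Piece.forget).count (Piece.C m s) =
      if m = 1 then (if s = true then 0 else bOf L 1) else L.count (Piece.C m s) := by
  induction L with
  | nil => simp [bOf]
  | cons p L ih =>
    rw [List.map_cons, List.count_cons, ih]
    rcases p with ⟨k, r⟩ | ⟨k, r⟩
    · by_cases hk : k = 1 <;> by_cases hm : m = 1 <;> cases s <;> cases r <;>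
        simp [Piece.forget, hk, hm, bOf]
    · by_cases hk : k = 1 <;> by_cases hm : m = 1 <;> cases s <;> cases r <;>
        simp [Piece.forget, hk, hm, bOf, List.count_cons] <;> omega

/-- the data without the signs of `W 1`, `C 1` determine the list up to order and these signs -/
theorem perm_forget_of_dat {L L' : List Piece} (h : NF L) (h' : NF L') (ha : aOf L = aOf L') (hb : bOf L = bOf L')
    (hs : ∀ m, m ≠ 1 → decide (Piece.W m true ∈ L) = decide (Piece.W m true ∈ L'))
    (ht : ∀ m, m ≠ 1 → decide (Piece.C m true ∈ L) = decide (Piece.C m true ∈ L')) :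
    (L.map Piece.forget).Perm (L'.map Piece.forget) := by
  rw [List.perm_iff_count]
  rintro (⟨m, s⟩ | ⟨m, s⟩)
  · rw [count_map_forget_W, count_map_forget_W]
    by_cases hm : m = 1
    · rw [if_pos hm, if_pos hm, ha]
    · rw [if_neg hm, if_neg hm]
      have hW : L.count (Piece.W m true) = L'.count (Piece.W m true) := by
        rw [h.count_W, h'.count_W, hs m hm]
      cases s
      · have h1 := congrFun ha m
        simp only [aOf] at h1
        omega
      · exact hW
  · rw [count_map_forget_C, count_map_forget_C]
    by_cases hm : m = 1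
    · rw [if_pos hm, if_pos hm, hb]
    · rw [if_neg hm, if_neg hm]
      have hC : L.count (Piece.C m true) = L'.count (Piece.C m true) := by
        rw [h.count_C, h'.count_C, ht m hm]
      cases s
      · have h1 := congrFun hb m
        simp only [bOf] at h1
        omega
      · exact hC

/-- lifting a permutation of images -/
theorem exists_perm_map {α β : Type*} (f : α → β) {l : List β} {L : List α} (h : l.Perm (L.map f)) :
    ∃ L' : List α, L'.Perm L ∧ L'.map f = l := by
  induction l generalizing L with
  | nil =>
    have h1 : L.map f = [] := List.nil_perm.1 h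
    exact ⟨L, List.Perm.refl _, h1⟩
  | cons b l ih =>
    have hb : b ∈ L.map f := h.subset List.mem_cons_self
    obtain ⟨a, ha, rfl⟩ := List.mem_map.1 hb
    obtain ⟨s, t, rfl⟩ := List.append_of_mem ha
    have h1 : (f a :: l).Perm (f a :: (s ++ t).map f) := by
      refine h.trans ?_
      rw [List.map_append, List.map_cons, List.map_append]
      exact List.perm_middle
    obtain ⟨L', hL', hL''⟩ := ih (List.Perm.cons_inv h1)
    refine ⟨a :: L', ?_, by rw [List.map_cons, hL'']⟩
    exact (List.Perm.cons a hL').trans List.perm_middle.symm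

end Cfsg.Agent.H170.Uni
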