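import Mathlib
import Cfsg.Agent.H170.Unique
import Cfsg.Agent.ClassicalGeometry.WittQuad

/-!
# The Witt type of the pieces

`no_flip` : a nondegenerate quadratic space cannot be an orthogonal sum `P ⊥ R` and `P' ⊥ R'` with `R`, `R'` isometric
and `P`, `P'` pieces of the same shape and different signs.
-/

set_option autoImplicit false

namespace Cfsg.Agent.H170.Uni

open LinearMap Module QuadraticMap

variable {F : Type*} [Field F] {V : Type*} [AddCommGroup V] [Module F V]
variable {Q : QuadraticForm F V} {g : V ≃ₗ[F] V} {α : F}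

/-- totally singular -/
def TS (Q : QuadraticForm F V) (T : Submodule F V) : Prop := ∀ v ∈ T, Q v = 0

theorem TS.B_eq {T : Submodule F V} (h : TS Q T) {u v : V} (hu : u ∈ T) (hv : v ∈ T) : B Q u v = 0 := by
  have h1 := Q_add Q u v
  rw [h _ (T.add_mem hu hv), h _ hu, h _ hv] at h1
  simpa using h1.symm

theorem finrank_comp' [FiniteDimensional F V] (hV : Nd Q ⊤) {X P : Submodule F V} (hP : Nd Q P) (hX : X ≤ P) :
    finrank F X + finrank F (comp Q X P) = finrank F P := by
  have hbot : (B Q).orthogonal ⊤ = ⊥ := by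
    rw [Submodule.eq_bot_iff]
    intro v hv
    rw [LinearMap.BilinForm.mem_orthogonal_iff] at hv
    apply hV v trivial
    intro u _
    rw [B_comm]
    exact hv u trivial
  have h1 := LinearMap.BilinForm.finrank_add_finrank_orthogonal (B_isRefl Q) X
  have h2 := LinearMap.BilinForm.finrank_add_finrank_orthogonal (B_isRefl Q) P
  rw [hbot, inf_bot_eq, finrank_bot, add_zero] at h1 h2
  have hPX : (B Q).orthogonal P ≤ (B Q).orthogonal X := LinearMap.BilinForm.orthogonal_le hX
  have hc := (LinearMap.BilinForm.isCompl_orthogonal_iff_disjoint (B_isRefl Q) (W := P)).2 (disjoint_orth Q hP)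
  have h3 : (B Q).orthogonal P ⊔ comp Q X P = (B Q).orthogonal X := by
    rw [comp, inf_comm, ← sup_inf_assoc_of_le _ hPX, sup_comm, hc.sup_eq_top, top_inf_eq]
  have h4 : Disjoint ((B Q).orthogonal P) (comp Q X P) := (disjoint_orth Q hP).symm.mono_right (comp_le Q X P)
  have h5 := Submodule.finrank_sup_add_finrank_inf_eq ((B Q).orthogonal P) (comp Q X P)
  rw [h4.eq_bot, finrank_bot, add_zero, h3] at h5
  omega

/-- the Witt index argument -/
theorem ts_contra [FiniteDimensional F V] (hV : Nd Q ⊤) {P T W : Submodule F V} (hP : Nd Q P) (hTP : T ≤ P)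
    (hWP : W ≤ P) (hT : TS Q T) {n : ℕ} (hn : finrank F P = 2 * n) (hTn : n ≤ finrank F T)
    (hWn : finrank F W < n) (han : ∀ v ∈ P, (∀ w ∈ W, B Q w v = 0) → Q v = 0 → v ∈ W) : False := by
  have h1 := finrank_comp' hV hP hTP
  have hTc : T ≤ comp Q T P := fun t ht => (mem_comp Q).2 ⟨fun u hu => hT.B_eq hu ht, hTP ht⟩
  have hle := Submodule.finrank_mono hTc
  have hTeq : T = comp Q T P := Submodule.eq_of_le_of_finrank_le hTc (by omega)
  have h2 := finrank_comp' hV hP (sup_le hTP hWP)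
  have h3 : comp Q (T ⊔ W) P ≤ T ⊓ W := by
    intro v hv
    rw [mem_comp] at hv
    have hvT : v ∈ T := by
      rw [hTeq, mem_comp]
      exact ⟨fun p hp => hv.1 p (Submodule.mem_sup_left hp), hv.2⟩
    exact ⟨hvT, han v hv.2 (fun w hw => hv.1 w (Submodule.mem_sup_right hw)) (hT v hvT)⟩
  have h4 := Submodule.finrank_mono h3
  have h5 := Submodule.finrank_sup_add_finrank_inf_eq T W
  omega

/-- the filtration of a piece -/
def Fil (g : V ≃ₗ[F] V) (x y : V) (j : ℕ) : Submodule F V :=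
  Submodule.span F (Set.range fun p : ℕ × Bool => (N g ^ (j + p.1)) (cond p.2 x y))

theorem Fil_zero (g : V ≃ₗ[F] V) (x y : V) : Fil g x y 0 = Cyc g x y := by
  rw [Fil, Cyc]
  simp only [zero_add]

theorem mem_Fil_left (g : V ≃ₗ[F] V) (x y : V) {j i : ℕ} (h : j ≤ i) : (N g ^ i) x ∈ Fil g x y j := by
  obtain ⟨k, rfl⟩ := Nat.exists_eq_add_of_le h
  exact Submodule.subset_span ⟨(k, true), rfl⟩

theorem mem_Fil_right (g : V ≃ₗ[F] V) (x y : V) {j i : ℕ} (h : j ≤ i) : (N g ^ i) y ∈ Fil g x y j := by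
  obtain ⟨k, rfl⟩ := Nat.exists_eq_add_of_le h
  exact Submodule.subset_span ⟨(k, false), rfl⟩

theorem Fil_le_Cyc (g : V ≃ₗ[F] V) (x y : V) (j : ℕ) : Fil g x y j ≤ Cyc g x y := by
  rw [Fil, Submodule.span_le]
  rintro _ ⟨⟨i, b⟩, rfl⟩
  cases b
  · exact Npow_mem_Cyc_right g x y _
  · exact Npow_mem_Cyc_left g x y _

theorem Fil_step {g : V ≃ₗ[F] V} {x y v : V} {j : ℕ} (h : v ∈ Fil g x y j) :
    ∃ a b : F, ∃ w ∈ Fil g x y (j + 1), v = a • (N g ^ j) x + b • (N g ^ j) y + w := by
  rw [Fil] at h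
  induction h using Submodule.span_induction with
  | mem v hv =>
    obtain ⟨⟨i, c⟩, rfl⟩ := hv
    rcases Nat.eq_zero_or_pos i with rfl | hi
    · cases c
      · exact ⟨0, 1, 0, Submodule.zero_mem _, by simp⟩
      · exact ⟨1, 0, 0, Submodule.zero_mem _, by simp⟩
    · refine ⟨0, 0, _, ?_, by rw [zero_smul, zero_smul, zero_add, zero_add]⟩
      cases c
      · exact mem_Fil_right g x y (by simp; omega)
      · exact mem_Fil_left g x y (by simp; omega)
  | zero => exact ⟨0, 0, 0, Submodule.zero_mem _, by simp⟩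
  | add u v _ _ hu hv =>
    obtain ⟨a, b, w, hw, rfl⟩ := hu
    obtain ⟨a', b', w', hw', rfl⟩ := hv
    exact ⟨a + a', b + b', w + w', Submodule.add_mem _ hw hw', by module⟩
  | smul c v _ hv =>
    obtain ⟨a, b, w, hw, rfl⟩ := hv
    exact ⟨c * a, c * b, c • w, Submodule.smul_mem _ _ hw, by module⟩

/-- vectors deep in the filtration are orthogonal to high powers -/
theorem B_Fil (h2 : (2 : F) = 0) (hg : ∀ v, Q (g v) = Q v) {x y v : V} {i : ℕ} (hx : (N g ^ i) x = 0)
    (hy : (N g ^ i) y = 0) {j t : ℕ} (ht : i ≤ j + t) (hv : v ∈ Fil g x y j) (z : V) :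
    B Q v ((N g ^ t) z) = 0 := by
  rw [Fil] at hv
  induction hv using Submodule.span_induction with
  | mem v hv =>
    obtain ⟨⟨r, c⟩, rfl⟩ := hv
    cases c
    · exact B_Npow_zero h2 hg (pow_eq_zero_of_le (by omega) hy) z
    · exact B_Npow_zero h2 hg (pow_eq_zero_of_le (by omega) hx) z
  | zero => rw [map_zero, LinearMap.zero_apply]
  | add u v _ _ hu hv => rw [map_add, LinearMap.add_apply, hu, hv, add_zero]
  | smul c v _ hv => rw [map_smul, LinearMap.smul_apply, hv, smul_zero]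

theorem B_Fil_Fil (h2 : (2 : F) = 0) (hg : ∀ v, Q (g v) = Q v) {x y u v : V} {i : ℕ} (hx : (N g ^ i) x = 0)
    (hy : (N g ^ i) y = 0) {j t : ℕ} (ht : i ≤ j + t) (hu : u ∈ Fil g x y j) (hv : v ∈ Fil g x y t) :
    B Q u v = 0 := by
  rw [Fil] at hv
  induction hv using Submodule.span_induction with
  | mem v hv =>
    obtain ⟨⟨r, c⟩, rfl⟩ := hv
    exact B_Fil h2 hg hx hy (by simp; omega) hu _
  | zero => rw [map_zero]
  | add u v _ _ hu hv => rw [map_add, hu, hv, add_zero]
  | smul c v _ hv => rw [map_smul, hv, smul_zero]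

/-- the deep part of the filtration is totally singular -/
theorem ts_Fil (h2 : (2 : F) = 0) (hg : ∀ v, Q (g v) = Q v) {x y : V} {i : ℕ} (hx : (N g ^ i) x = 0)
    (hy : (N g ^ i) y = 0) {j : ℕ} (hj : i ≤ 2 * j) (hqx : ∀ t, j ≤ t → Q ((N g ^ t) x) = 0)
    (hqy : ∀ t, j ≤ t → Q ((N g ^ t) y) = 0) : TS Q (Fil g x y j) := by
  intro v hv
  rw [Fil] at hv
  induction hv using Submodule.span_induction with
  | mem v hv =>
    obtain ⟨⟨r, c⟩, rfl⟩ := hv
    cases c
    · exact hqy _ (by simp)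
    · exact hqx _ (by simp)
  | zero => rw [map_zero]
  | add u v hu hv iu iv =>
    rw [Q_add, iu, iv, B_Fil_Fil h2 hg hx hy (j := j) (t := j) (by omega) hu hv, add_zero, add_zero]
  | smul c v hv iv => rw [Q_smul, iv, mul_zero]

theorem finrank_Fil_le {x y : V} {i : ℕ} (hx : (N g ^ i) x = 0) (hy : (N g ^ i) y = 0) (j : ℕ) :
    finrank F (Fil g x y j) ≤ 2 * (i - j) := by
  classical
  have h1 : Fil g x y j ≤ Submodule.span F
      (Set.range fun p : Fin (i - j) × Bool => (N g ^ (j + (p.1 : ℕ))) (cond p.2 x y)) := by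
    rw [Fil, Submodule.span_le]
    rintro _ ⟨⟨r, c⟩, rfl⟩
    rcases lt_or_ge r (i - j) with hr | hr
    · exact Submodule.subset_span ⟨(⟨r, hr⟩, c), rfl⟩
    · have h0 : (N g ^ (j + r)) (cond c x y) = 0 := by
        cases c
        · exact pow_eq_zero_of_le (by omega) hy
        · exact pow_eq_zero_of_le (by omega) hx
      change (N g ^ (j + r)) (cond c x y) ∈ _
      rw [h0]
      exact Submodule.zero_mem _
  have hfin : FiniteDimensional F (Submodule.span F
      (Set.range fun p : Fin (i - j) × Bool => (N g ^ (j + (p.1 : ℕ))) (cond p.2 x y))) :=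
    FiniteDimensional.span_of_finite F (Set.finite_range _)
  refine (Submodule.finrank_mono h1).trans ((finrank_range_le_card _).trans ?_)
  rw [Fintype.card_prod, Fintype.card_fin, Fintype.card_bool, mul_comm]

theorem finrank_Fil_le' {x : V} {i : ℕ} (hx : (N g ^ i) x = 0) (j : ℕ) :
    finrank F (Fil g x 0 j) ≤ i - j := by
  classical
  have h1 : Fil g x 0 j ≤ Submodule.span F
      (Set.range fun p : Fin (i - j) => (N g ^ (j + (p : ℕ))) x) := by
    rw [Fil, Submodule.span_le]
    rintro _ ⟨⟨r, c⟩, rfl⟩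
    cases c
    · change (N g ^ (j + r)) 0 ∈ _
      rw [map_zero]
      exact Submodule.zero_mem _
    · change (N g ^ (j + r)) x ∈ _
      rcases lt_or_ge r (i - j) with hr | hr
      · exact Submodule.subset_span ⟨⟨r, hr⟩, rfl⟩
      · rw [pow_eq_zero_of_le (by omega) hx]
        exact Submodule.zero_mem _
  have hfin : FiniteDimensional F (Submodule.span F
      (Set.range fun p : Fin (i - j) => (N g ^ (j + (p : ℕ))) x)) :=
    FiniteDimensional.span_of_finite F (Set.finite_range _)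
  refine (Submodule.finrank_mono h1).trans ((finrank_range_le_card _).trans ?_)
  rw [Fintype.card_fin]

/-- no totally singular subspace of half dimension in a minus piece -/
theorem aniso_W [FiniteDimensional F V] (h2 : (2 : F) = 0) (hg : ∀ v, Q (g v) = Q v)
    (hα0 : ∀ l : F, l * l + l ≠ α) {k : ℕ} {x y : V} (hp : IsP Q g α (.W (2 * k + 1) true) x y) :
    ∀ v ∈ Cyc g x y, (∀ w ∈ Fil g x y (k + 1), B Q w v = 0) → Q v = 0 → v ∈ Fil g x y (k + 1) := by
  intro v hv hperp hq
  have hx := hp.1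
  have hy := hp.2.1
  have halt := W_alt h2 hg hp
  have hxy : B Q ((N g ^ (2 * k)) x) y = 1 := by rw [hp.2.2.1, if_pos rfl]
  have key : ∀ j, j ≤ k → v ∈ Fil g x y j := by
    intro j
    induction j with
    | zero => intro _; rw [Fil_zero]; exact hv
    | succ j ih =>
      intro hj
      obtain ⟨a, b, w, hw, hvw⟩ := Fil_step (ih (by omega))
      have tp : ∀ z z' : V, (N g ^ (2 * k + 1)) z = 0 →
          B Q ((N g ^ j) z) ((N g ^ (2 * k - j)) z') = B Q ((N g ^ (2 * k)) z) z' := by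
        intro z z' hz
        rw [B_Npow_top h2 hg]
        · rw [show j + (2 * k - j) = 2 * k by omega]
        · rwa [show j + (2 * k - j) + 1 = 2 * k + 1 by omega]
      have e1 := hperp _ (mem_Fil_right g x y (show k + 1 ≤ 2 * k - j by omega))
      have e2 := hperp _ (mem_Fil_left g x y (show k + 1 ≤ 2 * k - j by omega))
      rw [B_comm, hvw] at e1 e2
      simp only [map_add, map_smul, LinearMap.add_apply, LinearMap.smul_apply, smul_eq_mul] at e1 e2
      rw [tp x y hx, tp y y hy, B_Fil h2 hg hx hy (by omega) hw, hxy, halt.2, mul_one, mul_zero, add_zero,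
        add_zero] at e1
      rw [tp x x hx, tp y x hy, B_Fil h2 hg hx hy (by omega) hw, halt.1, top_symm h2 hg hy, hxy, mul_one, mul_zero,
        zero_add, add_zero] at e2
      rw [hvw, e1, e2, zero_smul, zero_smul, zero_add, zero_add]
      exact hw
  obtain ⟨a, b, w, hw, hvw⟩ := Fil_step (key k le_rfl)
  have hqw : Q w = 0 := ts_Fil h2 hg hx hy (by omega)
    (fun t ht => by rw [hp.2.2.2.1, if_neg (by omega)]) (fun t ht => by rw [hp.2.2.2.2, if_neg (by omega)]) w hw
  have hqv : Q v = a * a + b * b * α + a * b := by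
    have e1 : B Q (a • (N g ^ k) x + b • (N g ^ k) y) w = 0 := by
      rw [B_comm]
      simp only [map_add, map_smul]
      rw [B_Fil h2 hg hx hy (by omega) hw, B_Fil h2 hg hx hy (by omega) hw, smul_zero, smul_zero, add_zero]
    rw [hvw, Q_add, e1, hqw, Q_add, Q_smul, Q_smul, hp.2.2.2.1, hp.2.2.2.2, if_pos ⟨rfl, rfl⟩, if_pos ⟨rfl, rfl⟩]
    simp only [map_smul, LinearMap.smul_apply, smul_eq_mul]
    rw [B_Npow_top h2 hg (by rwa [show k + k + 1 = 2 * k + 1 by ring]), show k + k = 2 * k by ring, hxy]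
    ring
  rw [hq] at hqv
  have hb : b = 0 := by
    by_contra hb
    apply hα0 (a / b)
    field_simp
    linear_combination -hqv - b * b * α * h2
  have ha : a = 0 := by
    rw [hb] at hqv
    simpa using hqv.symm
  rw [hvw, ha, hb, zero_smul, zero_smul, zero_add, zero_add]
  exact hw

/-- the same for the cyclic pieces -/
theorem aniso_C [FiniteDimensional F V] (h2 : (2 : F) = 0) (hg : ∀ v, Q (g v) = Q v)
    (hα0 : ∀ l : F, l * l + l ≠ α) {k : ℕ} {x : V} (hp : IsP Q g α (.C (k + 1) true) x 0) :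
    ∀ v ∈ Cyc g x 0, (∀ w ∈ Fil g x 0 (k + 2), B Q w v = 0) → Q v = 0 → v ∈ Fil g x 0 (k + 2) := by
  intro v hv hperp hq
  have hx : (N g ^ (2 * k + 2)) x = 0 := hp.2.1
  have hy : (N g ^ (2 * k + 2)) (0 : V) = 0 := map_zero _
  have htop := C_top h2 hg hp
  have key : ∀ j, j ≤ k → v ∈ Fil g x 0 j := by
    intro j
    induction j with
    | zero => intro _; rw [Fil_zero]; exact hv
    | succ j ih =>
      intro hj
      obtain ⟨a, b, w, hw, hvw⟩ := Fil_step (ih (by omega))
      have e2 := hperp _ (mem_Fil_left g x 0 (show k + 2 ≤ 2 * k + 1 - j by omega))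
      rw [B_comm, hvw, map_zero, smul_zero, add_zero] at e2
      simp only [map_add, map_smul, LinearMap.add_apply, LinearMap.smul_apply, smul_eq_mul] at e2
      rw [B_Npow_top h2 hg (by rwa [show j + (2 * k + 1 - j) + 1 = 2 * k + 2 by omega]),
        show j + (2 * k + 1 - j) = 2 * k + 1 by omega, htop, B_Fil h2 hg hx hy (by omega) hw, mul_one,
        add_zero] at e2
      rw [hvw, e2, map_zero, zero_smul, smul_zero, zero_add, zero_add]
      exact hw
  obtain ⟨a, b', w', hw', hvw'⟩ := Fil_step (key k le_rfl)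
  obtain ⟨b, b'', w, hw, hvw''⟩ := Fil_step hw'
  have hvw : v = a • (N g ^ k) x + b • (N g ^ (k + 1)) x + w := by
    rw [hvw', hvw'', map_zero, map_zero, smul_zero, smul_zero, add_zero, add_zero, add_assoc]
  have hqw : Q w = 0 := ts_Fil h2 hg hx hy (j := k + 1 + 1) (by omega)
    (fun t ht => by rw [hp.2.2, if_neg (by omega), if_neg (by omega)]) (fun t ht => by rw [map_zero, map_zero]) w hw
  have hqv : Q v = a * a * α + b * b + a * b := by
    have e1 : B Q (a • (N g ^ k) x + b • (N g ^ (k + 1)) x) w = 0 := by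
      rw [B_comm]
      simp only [map_add, map_smul]
      rw [B_Fil h2 hg hx hy (by omega) hw, B_Fil h2 hg hx hy (by omega) hw, smul_zero, smul_zero, add_zero]
    rw [hvw, Q_add, e1, hqw, Q_add, Q_smul, Q_smul, hp.2.2, hp.2.2, if_neg (by omega), if_pos ⟨rfl, rfl⟩,
      if_pos rfl]
    simp only [map_smul, LinearMap.smul_apply, smul_eq_mul]
    rw [← Q_Npow_succ h2 hg, hp.2.2, if_pos rfl]
    ring
  rw [hq] at hqv
  have ha : a = 0 := by
    by_contra ha
    apply hα0 (b / a)
    field_simp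
    linear_combination -hqv - a * a * α * h2
  have hb : b = 0 := by
    rw [ha] at hqv
    simpa using hqv.symm
  rw [hvw, ha, hb, zero_smul, zero_smul, zero_add, zero_add]
  exact hw

theorem ts_W [FiniteDimensional F V] (h2 : (2 : F) = 0) (hg : ∀ v, Q (g v) = Q v) {m : ℕ} {x y : V}
    (hp : IsP Q g α (.W m false) x y) : ∃ T ≤ Cyc g x y, TS Q T ∧ m ≤ finrank F T := by
  have hle : Fil g x 0 0 ≤ Cyc g x y := by
    rw [Fil_zero]
    exact Cyc_le (Cyc_st g x y) (mem_Cyc_left g x y) (Submodule.zero_mem _)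
  have hq : ∀ j, Q ((N g ^ j) x) = 0 := fun j => by rw [hp.2.2.2.1, if_neg (by simp)]
  have hB : ∀ a b, B Q ((N g ^ a) x) ((N g ^ b) x) = 0 := by
    intro a b
    rw [self_gram h2 hg hg x 0 (fun j => by rw [hq, map_zero, map_zero]) a b, map_zero, map_zero,
      LinearMap.zero_apply]
  have hBB : ∀ u ∈ Cyc g x 0, ∀ v ∈ Cyc g x 0, B Q u v = 0 := by
    intro u hu v hv
    rw [Cyc] at hu hv
    induction hu using Submodule.span_induction with
    | mem u hu =>
      obtain ⟨⟨a, c⟩, rfl⟩ := hu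
      induction hv using Submodule.span_induction with
      | mem v hv =>
        obtain ⟨⟨b, d⟩, rfl⟩ := hv
        cases c <;> cases d <;> simp [hB]
      | zero => rw [map_zero]
      | add u v _ _ hu hv => rw [map_add, hu, hv, add_zero]
      | smul c v _ hv => rw [map_smul, hv, smul_zero]
    | zero => rw [map_zero, LinearMap.zero_apply]
    | add u v _ _ hu hv => rw [map_add, LinearMap.add_apply, hu, hv, add_zero]
    | smul c v _ hv => rw [map_smul, LinearMap.smul_apply, hv, smul_zero]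
  refine ⟨Fil g x 0 0, hle, ?_, ?_⟩
  · rw [Fil_zero]
    intro v hv
    have hv' := hv
    rw [Cyc] at hv
    induction hv using Submodule.span_induction with
    | mem v hv =>
      obtain ⟨⟨b, d⟩, rfl⟩ := hv
      cases d
      · change Q ((N g ^ b) 0) = 0
        rw [map_zero, map_zero]
      · exact hq b
    | zero => rw [map_zero]
    | add u v hu hv iu iv => rw [Q_add, iu hu, iv hv, hBB u hu v hv, add_zero, add_zero]
    | smul c v hv iv => rw [Q_smul, iv hv, mul_zero]
  · have h1 := (hp.nd_finrank h2 hg).2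
    have h3 : Cyc g x y ≤ Fil g x 0 0 ⊔ Fil g y 0 0 := by
      rw [Cyc, Submodule.span_le]
      rintro _ ⟨⟨j, b⟩, rfl⟩
      cases b
      · exact Submodule.mem_sup_right (mem_Fil_left g y 0 (Nat.zero_le j))
      · exact Submodule.mem_sup_left (mem_Fil_left g x 0 (Nat.zero_le j))
    have h4 := Submodule.finrank_mono h3
    have h5 := Submodule.finrank_add_le_finrank_add_finrank (Fil g x 0 0) (Fil g y 0 0)
    have h6 := finrank_Fil_le' (g := g) hp.2.1 0
    simp only [Piece.size] at h1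
    omega

theorem ts_C [FiniteDimensional F V] (h2 : (2 : F) = 0) (hg : ∀ v, Q (g v) = Q v) {k : ℕ} {x : V}
    (hp : IsP Q g α (.C (k + 1) false) x 0) : ∃ T ≤ Cyc g x 0, TS Q T ∧ k + 1 ≤ finrank F T := by
  classical
  have hx : (N g ^ (2 * k + 2)) x = 0 := hp.2.1
  have hy : (N g ^ (2 * k + 2)) (0 : V) = 0 := map_zero _
  have hts : TS Q (Fil g x 0 (k + 2)) := ts_Fil h2 hg hx hy (by omega)
    (fun t ht => by rw [hp.2.2, if_neg (by omega), if_neg (by omega)]) (fun t ht => by rw [map_zero, map_zero])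
  refine ⟨(F ∙ (N g ^ k) x) ⊔ Fil g x 0 (k + 2), ?_, ?_, ?_⟩
  · refine sup_le ?_ (Fil_le_Cyc g x 0 _)
    rw [Submodule.span_singleton_le_iff_mem]
    exact Npow_mem_Cyc_left g x 0 k
  · intro v hv
    obtain ⟨a, ha, b, hb, rfl⟩ := Submodule.mem_sup.1 hv
    obtain ⟨c, rfl⟩ := Submodule.mem_span_singleton.1 ha
    rw [Q_add, Q_smul, hp.2.2, if_neg (by omega), if_neg (by simp), hts b hb, map_smul, LinearMap.smul_apply, B_comm,
      B_Fil h2 hg hx hy (by omega) hb, smul_zero, mul_zero, add_zero, add_zero]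
  · have h1 := (hp.nd_finrank h2 hg).2
    obtain ⟨X, hX⟩ : ∃ X : Submodule F V, X = Submodule.span F (Set.range fun j : Fin (k + 1) =>
      (N g ^ (if (j : ℕ) < k then (j : ℕ) else k + 1)) x) := ⟨_, rfl⟩
    have h3 : Cyc g x 0 ≤ ((F ∙ (N g ^ k) x) ⊔ Fil g x 0 (k + 2)) ⊔ X := by
      rw [Cyc, Submodule.span_le]
      rintro _ ⟨⟨j, b⟩, rfl⟩
      cases b
      · change (N g ^ j) 0 ∈ _
        rw [map_zero]; exact Submodule.zero_mem _
      · change (N g ^ j) x ∈ _
        rcases lt_trichotomy j k with hj | rfl | hj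
        · apply Submodule.mem_sup_right
          rw [hX]
          apply Submodule.subset_span
          exact ⟨⟨j, by omega⟩, by simp [hj]⟩
        · apply Submodule.mem_sup_left
          apply Submodule.mem_sup_left
          exact Submodule.mem_span_singleton_self _
        · rcases Nat.lt_or_ge (k + 1) j with hj' | hj'
          · apply Submodule.mem_sup_left
            apply Submodule.mem_sup_right
            exact mem_Fil_left g x 0 hj'
          · obtain rfl : j = k + 1 := by omega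
            apply Submodule.mem_sup_right
            rw [hX]
            apply Submodule.subset_span
            exact ⟨⟨k, by omega⟩, by simp⟩
    have h4 := Submodule.finrank_mono h3
    have h5 := Submodule.finrank_add_le_finrank_add_finrank ((F ∙ (N g ^ k) x) ⊔ Fil g x 0 (k + 2)) X
    have h6 : finrank F X ≤ k + 1 := by
      rw [hX]
      refine (finrank_range_le_card _).trans ?_
      rw [Fintype.card_fin]
    simp only [Piece.size] at h1
    omega

theorem nondeg_of_nd (hV : Nd Q ⊤) : (polarBilin Q).Nondegenerate := by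
  rw [(B_isRefl Q).nondegenerate_iff_separatingLeft]
  intro u hu
  exact hV u trivial fun v _ => hu v

/-- the abstract form of the argument -/
theorem no_flip_aux [FiniteDimensional F V] (hV : Nd Q ⊤) {P R P' R' : Submodule F V} (hPR : P ⊔ R = ⊤)
    (ho : ∀ a ∈ P, ∀ b ∈ R, B Q a b = 0) (ho' : ∀ a ∈ P', ∀ b ∈ R', B Q a b = 0)
    (φ : R ≃ₗ[F] R') (hφ : ∀ v, Q (φ v : V) = Q (v : V)) (hP : Nd Q P) {n : ℕ} (hn : finrank F P = 2 * n)
    {T : Submodule F V} (hTP : T ≤ P') (hT : TS Q T) (hTn : n ≤ finrank F T) {W : Submodule F V} (hWP : W ≤ P)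
    (hWn : finrank F W < n) (han : ∀ v ∈ P, (∀ w ∈ W, B Q w v = 0) → Q v = 0 → v ∈ W) : False := by
  obtain ⟨z, hzQ, hz⟩ := ClassicalGeometry.WittQuad.extend Q (nondeg_of_nd hV) R' R φ.symm (fun v => by
    rw [← hφ, LinearEquiv.apply_symm_apply])
  have hzB : ∀ u v, B Q (z u) (z v) = B Q u v := fun u v => B_g hzQ u v
  have hmem : ∀ v, (∀ r ∈ R, B Q v r = 0) → v ∈ P := by
    intro v hv
    have hvt : v ∈ P ⊔ R := by rw [hPR]; trivial
    obtain ⟨p, hp, r, hr, rfl⟩ := Submodule.mem_sup.1 hvt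
    have hr0 : r = 0 := by
      apply hV r trivial
      intro u _
      have hut : u ∈ P ⊔ R := by rw [hPR]; trivial
      obtain ⟨p', hp', r', hr', rfl⟩ := Submodule.mem_sup.1 hut
      have h1 := hv r' hr'
      rw [map_add, LinearMap.add_apply, ho p hp r' hr', zero_add] at h1
      rw [map_add, h1, B_comm, ho p' hp' r hr, add_zero]
    rw [hr0, add_zero]
    exact hp
  have hzP : ∀ p ∈ P', z p ∈ P := by
    intro p hp
    apply hmem
    intro r hr
    have h1 : z (φ ⟨r, hr⟩ : V) = r := by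
      rw [hz, LinearEquiv.symm_apply_apply]
    rw [← h1, hzB]
    exact ho' p hp _ (φ ⟨r, hr⟩).2
  refine ts_contra hV hP (T := T.map z.toLinearMap) ?_ hWP ?_ hn ?_ hWn han
  · rintro _ ⟨t, ht, rfl⟩
    exact hzP t (hTP ht)
  · rintro _ ⟨t, ht, rfl⟩
    change Q (z t) = 0
    rw [hzQ]
    exact hT t ht
  · rw [LinearEquiv.finrank_map_eq]
    exact hTn

/-- **The sign of one piece is determined by the rest and the ambient space.** -/
theorem no_flip [FiniteDimensional F V] (h2 : (2 : F) = 0) (hα0 : ∀ l : F, l * l + l ≠ α) (hV : Nd Q ⊤)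
    {g g' : V ≃ₗ[F] V} (hg : ∀ v, Q (g v) = Q v) (hg' : ∀ v, Q (g' v) = Q v)
    {p p' : Piece} (hpp : (∃ k, p = .W (2 * k + 1) true ∧ p' = .W (2 * k + 1) false) ∨
      ∃ k, p = .C k true ∧ p' = .C k false) {x y x' y' : V} (hp : IsP Q g α p x y) (hp' : IsP Q g' α p' x' y')
    {R R' : Submodule F V} (hPR : Cyc g x y ⊔ R = ⊤)
    (ho : ∀ a ∈ Cyc g x y, ∀ b ∈ R, B Q a b = 0) (ho' : ∀ a ∈ Cyc g' x' y', ∀ b ∈ R', B Q a b = 0)
    (φ : R ≃ₗ[F] R') (hφ : ∀ v, Q (φ v : V) = Q (v : V)) : False := by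
  have hP := hp.nd_finrank h2 hg
  rcases hpp with ⟨k, rfl, rfl⟩ | ⟨k, rfl, rfl⟩
  · obtain ⟨T, hTP, hT, hTn⟩ := ts_W h2 hg' hp'
    refine no_flip_aux hV hPR ho ho' φ hφ hP.1 (n := 2 * k + 1) hP.2 hTP hT hTn
      (W := Fil g x y (k + 1)) (Fil_le_Cyc g x y _) ?_ (aniso_W h2 hg hα0 hp)
    have := finrank_Fil_le (g := g) hp.1 hp.2.1 (k + 1)
    omega
  · cases k with
    | zero =>
      have hx : x = 0 := hp.2.1
      have h1 := hp.2.2 0
      rw [hx, map_zero, map_zero, if_pos rfl] at h1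
      exact zero_ne_one h1
    | succ k =>
      have hy : y = 0 := hp.1
      have hy' : y' = 0 := hp'.1
      subst hy hy'
      obtain ⟨T, hTP, hT, hTn⟩ := ts_C h2 hg' hp'
      refine no_flip_aux hV hPR ho ho' φ hφ hP.1 (n := k + 1) hP.2 hTP hT hTn
        (W := Fil g x 0 (k + 2)) (Fil_le_Cyc g x 0 _) ?_ (aniso_C h2 hg hα0 hp)
      have := finrank_Fil_le' (g := g) (show (N g ^ (2 * k + 2)) x = 0 from hp.2.1) (k + 2)
      omega

end Cfsg.Agent.H170.Uni
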