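import Mathlib
import Cfsg.Agent.H170.ToDat
import Cfsg.Agent.H170.TypeFlip
import Cfsg.Agent.H170.NormalMain
import Cfsg.Agent.H171.RestType

/-!
# The data of an isometry of a quadratic space in characteristic two

* `Rep Q g α D` : `D` are data of `g`; `exists_rep` : existence;
* `Rep.iso` : the same data give isometric pairs; `Rep.isoB` : the same for the polar forms, forgetting signs of `W 1`, `C 1`;
* `Rep.no_flip` : changing one sign is impossible without changing the type of the quadratic form.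
-/

set_option autoImplicit false

namespace Cfsg.Agent.H170.Uni

open Polynomial Module QuadraticMap

variable {F : Type*} [Field F] {V : Type*} [AddCommGroup V] [Module F V] [FiniteDimensional F V]
variable {V' : Type*} [AddCommGroup V'] [Module F V'] [FiniteDimensional F V']

/-- `D` are data of `g` -/
def Rep (Q : QuadraticForm F V) (g : V ≃ₗ[F] V) (α : F) (D : Dat F) : Prop :=
  ∃ (E R : Submodule F V) (gR : R ≃ₗ[F] R) (L : List Piece),
    IsCompl E R ∧ (∀ u ∈ E, ∀ v ∈ R, B Q u v = 0) ∧ (∀ u : R, (gR u : V) = g u) ∧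
    Nd Q E ∧ Nd Q R ∧ Dec Q g α L E ∧ NF L ∧ (∀ u : R, gR (gR u) = u → u = 0) ∧
    D = datOf (H171.typ gR.toLinearMap) L

omit [FiniteDimensional F V] in
theorem nd_comp {Q : QuadraticForm F V} {S : Submodule F V} (h : (polarBilin (Q.comp S.subtype)).Nondegenerate) :
    Nd Q S := by
  intro u hu huv
  have h1 := h.1 ⟨u, hu⟩ (fun v => huv v v.2)
  exact congrArg Subtype.val h1

omit [FiniteDimensional F V] in
theorem comp_nd' {Q : QuadraticForm F V} {S : Submodule F V} (h : Nd Q S) :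
    (polarBilin (Q.comp S.subtype)).Nondegenerate := by
  refine ⟨fun u hu => Subtype.ext (h u u.2 fun v hv => hu ⟨v, hv⟩), fun u hu => Subtype.ext (h u u.2 fun v hv => ?_)⟩
  rw [B_comm]
  exact hu ⟨v, hv⟩

omit [FiniteDimensional F V] in
theorem pow_restrict {g : V ≃ₗ[F] V} {E : Submodule F V} {gE : E ≃ₗ[F] E} (hgE : ∀ u : E, (gE u : V) = g u) (k : ℕ)
    (u : E) : ((((gE.toLinearMap - (1 : F) • (1 : Module.End F E) : Module.End F E) ^ k) u : E) : V) = (N g ^ k) u := by
  induction k generalizing u with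
  | zero => rfl
  | succ k ih =>
    rw [pow_succ, Module.End.mul_apply, ih, pow_succ, Module.End.mul_apply]
    congr 1
    show ((gE u - (1 : F) • u : E) : V) = g u - (u : V)
    rw [Submodule.coe_sub, hgE, one_smul]

/-- **Existence of the data.** -/
theorem exists_rep (h2 : (2 : F) = 0) (hsq : ∀ c : F, ∃ d, d * d = c) {α : F}
    (hα : ∀ r : F, (∃ l, l * l + l = r) ∨ ∃ l, l * l + l = r + α) {Q : QuadraticForm F V} (hQ : Nd Q ⊤)
    {g : V ≃ₗ[F] V} (hg : ∀ v, Q (g v) = Q v) {n : ℕ} (hn : finrank F V = 2 * n) :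
    ∃ D : Dat F, D.Ok n ∧ Rep Q g α D := by
  obtain ⟨E, R, gE, gR, M, h1, h3, h4, h5, h6, h7, h8, h9⟩ :=
    H171.exists_fitting_quad Q (nondeg_of_nd hQ) g hg 1 (mul_one 1)
  have hE : St g E := fun v hv => by
    rw [← h4 ⟨v, hv⟩]
    exact (gE ⟨v, hv⟩).2
  obtain ⟨L, hL, hNF⟩ := exists_normal h2 hsq hα hg (finrank F E) E hE (nd_comp h8)
    ⟨M, fun u hu => by
      rw [← pow_restrict h4 M ⟨u, hu⟩, h6]
      rfl⟩ rfl
  have h10 := hL.nd_finrank h2 hg
  have h11 : finrank F E + finrank F R = 2 * n := by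
    rw [Submodule.finrank_add_eq_of_isCompl h1, hn]
  have hgR1 : ∀ u, gR u = u → u = 0 := fun u hu => h7 u (by rw [hu, one_smul])
  have hneg : ∀ v : R, -v = v := fun v => by
    apply Subtype.ext
    rw [Submodule.coe_neg]
    have : (2 : F) • (v : V) = 0 := by rw [h2, zero_smul]
    rw [two_smul] at this
    exact neg_eq_of_add_eq_zero_left this
  have hgR2 : ∀ u, gR u = -u → u = 0 := fun u hu => hgR1 u (by rw [hu, hneg])
  have hgRQ : ∀ v, (Q.comp R.subtype) (gR v) = (Q.comp R.subtype) v := fun v => by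
    show Q (gR v : V) = Q (v : V)
    rw [h5, hg]
  have hb : ∀ u v, polarBilin (Q.comp R.subtype) (gR u) (gR v) = polarBilin (Q.comp R.subtype) u v := fun u v => by
    show polar (Q.comp R.subtype) (gR u) (gR v) = polar (Q.comp R.subtype) u v
    unfold polar
    rw [← map_add, hgRQ, hgRQ, hgRQ]
  refine ⟨datOf (H171.typ gR.toLinearMap) L, ?_, E, R, gR, L, h1, h3, h5, nd_comp h8, nd_comp h9, hL, hNF,
    H171.sq_fix gR hgR1 hgR2, rfl⟩
  refine datOf_ok hNF (H171.typ_monic _)
    (fun j => (H171.typ_pal _ h9.1 gR hb hgR1 j).2)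
    (fun j => H171.typ_eval_ne (fun v hv => hgR1 v (by rw [one_smul] at hv; exact hv)) j)
    (fun j => H171.typ_even _ h9.1 gR hb hgR1 hgR2 j) (H171.typ_zero _)
    (fun j hj => H171.typ_big _ (by omega)) ?_
  rw [H171.sum_typ _ (by omega : finrank F R ≤ 2 * n), ← h10.2]
  omega

section Iso

variable {Q : QuadraticForm F V} {g : V ≃ₗ[F] V} {Q' : QuadraticForm F V'} {g' : V' ≃ₗ[F] V'} {α : F}

/-- the same list up to order and up to the signs of `W 1`, `C 1` -/
theorem Dec.iso_perm (h2 : (2 : F) = 0) (hg : ∀ v, Q (g v) = Q v)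
    (hg' : ∀ v, Q' (g' v) = Q' v) {L L' : List Piece} {U : Submodule F V} {U' : Submodule F V'}
    (hLL : (L.map Piece.forget).Perm (L'.map Piece.forget)) (h : Dec Q g α L U) (h' : Dec Q' g' α L' U') :
    Iso Q g Q' g' (L.Perm L') U U' := by
  by_cases hp : L.Perm L'
  · obtain ⟨T, t1, t2, t3⟩ := Dec.iso h2 hg hg' (L := L) (L' := L) rfl h (h'.perm hp.symm)
    exact ⟨T, t1, t2, fun _ => t3 rfl⟩
  · obtain ⟨L'', h3, h4⟩ := exists_perm_map Piece.forget hLL
    obtain ⟨T, t1, t2, t3⟩ := Dec.iso h2 hg hg' (L := L) (L' := L'') h4.symm h (h'.perm h3.symm)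
    exact ⟨T, t1, t2, fun hc => absurd hc hp⟩

theorem rest_iso [Finite F] (hg : ∀ v, Q (g v) = Q v) (hg' : ∀ v, Q' (g' v) = Q' v) {R : Submodule F V}
    {R' : Submodule F V'} {gR : R ≃ₗ[F] R} {gR' : R' ≃ₗ[F] R'} (hgR : ∀ u : R, (gR u : V) = g u)
    (hgR' : ∀ u : R', (gR' u : V') = g' u) (hR : Nd Q R) (hR' : Nd Q' R') (hf : ∀ u : R, gR (gR u) = u → u = 0)
    (ht : H171.typ gR.toLinearMap = H171.typ gR'.toLinearMap) :
    ∃ z : R ≃ₗ[F] R', (∀ v, z (gR v) = gR' (z v)) ∧ ∀ v, Q' (z v : V') = Q (v : V) := by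
  obtain ⟨z, z1, z2⟩ := H171.rest_isometry_quad (Q.comp R.subtype) (Q'.comp R'.subtype) (comp_nd' hR) (comp_nd' hR') gR gR'
    (fun v => by
      show Q (gR v : V) = Q (v : V)
      rw [hgR, hg])
    (fun v => by
      show Q' (gR' v : V') = Q' (v : V')
      rw [hgR', hg']) hf (fun j => congrFun ht j)
  exact ⟨z, z1, z2⟩

/-- **The same data give isometric pairs.** -/
theorem Rep.iso [Finite F] (h2 : (2 : F) = 0) (hg : ∀ v, Q (g v) = Q v) (hg' : ∀ v, Q' (g' v) = Q' v) {D : Dat F}
    (h : Rep Q g α D) (h' : Rep Q' g' α D) : ∃ z : V ≃ₗ[F] V', (∀ v, z (g v) = g' (z v)) ∧ ∀ v, Q' (z v) = Q v := by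
  obtain ⟨E, R, gR, L, a1, a2, a3, a4, a5, a6, a7, a8, a9⟩ := h
  obtain ⟨E', R', gR', L', b1, b2, b3, b4, b5, b6, b7, b8, b9⟩ := h'
  have hD := a9.symm.trans b9
  simp only [datOf, Dat.mk.injEq] at hD
  obtain ⟨d1, d2, d3, d4, d5⟩ := hD
  have hp := perm_of_dat a7 b7 d2 d3 (fun m => congrFun d4 m) (fun m => congrFun d5 m)
  obtain ⟨zE, e1, e2, e3⟩ := Dec.iso h2 hg hg' (L := L) (L' := L) rfl a6 (b6.perm hp.symm)
  obtain ⟨zR, r1, r2⟩ := rest_iso hg hg' a3 b3 a5 b5 a8 d1
  have hEst := a6.st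
  have hEst' := b6.st
  have hEmap : E.map g.toLinearMap = E := Submodule.eq_of_le_of_finrank_eq (by
    rintro _ ⟨v, hv, rfl⟩
    exact hEst v hv) (LinearEquiv.finrank_map_eq g E)
  have hEmap' : E'.map g'.toLinearMap = E' := Submodule.eq_of_le_of_finrank_eq (by
    rintro _ ⟨v, hv, rfl⟩
    exact hEst' v hv) (LinearEquiv.finrank_map_eq g' E')
  refine H171.glue_quad Q Q' g g' a1 b1 a2 b2 (g.ofSubmodules E E hEmap) gR (fun u => rfl) a3
    (g'.ofSubmodules E' E' hEmap') gR' (fun u => rfl) b3 zE (fun u => ?_) (e3 rfl) zR r1 r2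
  apply Subtype.ext
  exact e2 u _ rfl

/-- **The data without the signs of `W 1`, `C 1` determine the pair (polar form, isometry).** -/
theorem Rep.isoB [Finite F] (h2 : (2 : F) = 0) (hg : ∀ v, Q (g v) = Q v) (hg' : ∀ v, Q' (g' v) = Q' v) {D D' : Dat F}
    (h : Rep Q g α D) (h' : Rep Q' g' α D') (hf : D.f = D'.f) (ha : D.a = D'.a) (hb : D.b = D'.b)
    (hs : ∀ m, m ≠ 1 → D.s m = D'.s m) (ht : ∀ m, m ≠ 1 → D.t m = D'.t m) :
    ∃ z : V ≃ₗ[F] V', (∀ v, z (g v) = g' (z v)) ∧ ∀ u v, B Q' (z u) (z v) = B Q u v := by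
  obtain ⟨E, R, gR, L, a1, a2, a3, a4, a5, a6, a7, a8, rfl⟩ := h
  obtain ⟨E', R', gR', L', b1, b2, b3, b4, b5, b6, b7, b8, rfl⟩ := h'
  obtain ⟨zE, e1, e2, e3⟩ := Dec.iso_perm h2 hg hg' (perm_forget_of_dat a7 b7 ha hb hs ht) a6 b6
  obtain ⟨zR, r1, r2⟩ := rest_iso hg hg' a3 b3 a5 b5 a8 hf
  have hEst := a6.st
  have hEst' := b6.st
  have hEmap : E.map g.toLinearMap = E := Submodule.eq_of_le_of_finrank_eq (by
    rintro _ ⟨v, hv, rfl⟩
    exact hEst v hv) (LinearEquiv.finrank_map_eq g E)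
  have hEmap' : E'.map g'.toLinearMap = E' := Submodule.eq_of_le_of_finrank_eq (by
    rintro _ ⟨v, hv, rfl⟩
    exact hEst' v hv) (LinearEquiv.finrank_map_eq g' E')
  refine H171.glue_bilin (B Q) (B Q') (B_isRefl Q) (B_isRefl Q') g g' a1 b1 a2 b2 (g.ofSubmodules E E hEmap) gR
    (fun u => rfl) a3 (g'.ofSubmodules E' E' hEmap') gR' (fun u => rfl) b3 zE (fun u => ?_) e1 zR r1 (fun u v => ?_)
  · apply Subtype.ext
    exact e2 u _ rfl
  · show polar Q' (zR u : V') (zR v : V') = polar Q (u : V) (v : V)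
    unfold polar
    rw [r2, r2, ← Submodule.coe_add, ← Submodule.coe_add, ← map_add, r2]

end Iso

section Flip

/-- removing the pieces where two lists differ -/
theorem perm_erase {L L' : List Piece} {p p' : Piece} (hp : p ∈ L) (hp' : p' ∈ L') (hpp : p ≠ p')
    (h : ∀ q, q ≠ p → q ≠ p' → L.count q = L'.count q) (h1 : L.count p = 1) (h1' : L'.count p = 0)
    (h2 : L.count p + L.count p' = L'.count p + L'.count p') : (L.erase p).Perm (L'.erase p') := by
  rw [List.perm_iff_count]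
  intro q
  rw [List.count_erase, List.count_erase]
  by_cases hq : q = p
  · subst hq
    have h3 : (p' == q) = false := beq_eq_false_iff_ne.2 (Ne.symm hpp)
    simp only [beq_self_eq_true, if_true, h3]
    simp only [Bool.false_eq_true, if_false]
    omega
  · by_cases hq' : q = p'
    · subst hq'
      have h3 : (p == q) = false := beq_eq_false_iff_ne.2 hpp
      simp only [beq_self_eq_true, if_true, h3]
      simp only [Bool.false_eq_true, if_false]
      omega
    · have h3 : (p == q) = false := beq_eq_false_iff_ne.2 (Ne.symm hq)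
      have h4 : (p' == q) = false := beq_eq_false_iff_ne.2 (Ne.symm hq')
      rw [h3, h4, h q hq hq']

variable {Q : QuadraticForm F V} {g g' : V ≃ₗ[F] V} {α : F}

theorem Dec.no_flip [Finite F] (h2 : (2 : F) = 0) (hα0 : ∀ l : F, l * l + l ≠ α) (hQ : Nd Q ⊤)
    (hg : ∀ v, Q (g v) = Q v) (hg' : ∀ v, Q (g' v) = Q v) {E R E' R' : Submodule F V} {L L' : List Piece}
    (a1 : IsCompl E R) (a2 : ∀ u ∈ E, ∀ v ∈ R, B Q u v = 0) (a5 : Nd Q R) (a6 : Dec Q g α L E)
    (b2 : ∀ u ∈ E', ∀ v ∈ R', B Q u v = 0) (b5 : Nd Q R') (b6 : Dec Q g' α L' E')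
    (st : St g R) (hR : Iso Q g Q g' True R R')
    {p p' : Piece} (hpp : (∃ k, p = .W (2 * k + 1) true ∧ p' = .W (2 * k + 1) false) ∨
      ∃ k, p = .C k true ∧ p' = .C k false) (hp : p ∈ L) (hp' : p' ∈ L')
    (hLL : (L.erase p).Perm (L'.erase p')) : False := by
  have c6 := a6.perm (List.perm_cons_erase hp)
  have d6 := b6.perm ((List.perm_cons_erase hp').trans (List.Perm.cons p' hLL.symm))
  cases c6 with
  | cons _ _ x y U hx ho hU =>
  cases d6 with
  | cons _ _ x' y' U' hx' ho' hU' =>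
  have e1 := hU.nd_finrank h2 hg
  have e1' := hU'.nd_finrank h2 hg'
  have hIso : Iso Q g Q g' True U U' := by
    obtain ⟨T, t1, t2, t3⟩ := Dec.iso h2 hg hg' (L := L.erase p) (L' := L.erase p) rfl hU hU'
    exact ⟨T, t1, t2, fun _ => t3 rfl⟩
  obtain ⟨T, t1, t2, t3⟩ := Iso.glue hIso hR hU.st st
    (fun a ha b hb => a2 a (Submodule.mem_sup_right ha) b hb)
    (fun a ha b hb => b2 a (Submodule.mem_sup_right ha) b hb) e1.1 a5 e1'.1 b5
  refine Uni.no_flip h2 hα0 hQ hg hg' hpp hx hx' (R := U ⊔ R) (R' := U' ⊔ R') ?_ ?_ ?_ T (t3 trivial)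
  · rw [← sup_assoc]
    exact a1.sup_eq_top
  · intro a ha b hb
    obtain ⟨u, hu, r, hr, rfl⟩ := Submodule.mem_sup.1 hb
    rw [map_add, ho a ha u hu, a2 a (Submodule.mem_sup_left ha) r hr, add_zero]
  · intro a ha b hb
    obtain ⟨u, hu, r, hr, rfl⟩ := Submodule.mem_sup.1 hb
    rw [map_add, ho' a ha u hu, b2 a (Submodule.mem_sup_left ha) r hr, add_zero]

/-- **One sign cannot be changed inside the same orthogonal group.** -/
theorem Rep.no_flip [Finite F] (h2 : (2 : F) = 0) (hα0 : ∀ l : F, l * l + l ≠ α) (hQ : Nd Q ⊤)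
    (hg : ∀ v, Q (g v) = Q v) (hg' : ∀ v, Q (g' v) = Q v) {D D' : Dat F}
    (h : Rep Q g α D) (h' : Rep Q g' α D') (hf : D.f = D'.f) (ha : D.a = D'.a) (hb : D.b = D'.b)
    (hflip : (∃ k, D.s (2 * k + 1) = true ∧ D'.s (2 * k + 1) = false ∧ (∀ m, m ≠ 2 * k + 1 → D.s m = D'.s m) ∧
      D.t = D'.t) ∨ ∃ k, D.t k = true ∧ D'.t k = false ∧ D.s = D'.s ∧ ∀ m, m ≠ k → D.t m = D'.t m) : False := by
  obtain ⟨E, R, gR, L, a1, a2, a3, a4, a5, a6, a7, a8, rfl⟩ := h
  obtain ⟨E', R', gR', L', b1, b2, b3, b4, b5, b6, b7, b8, rfl⟩ := h'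
  obtain ⟨zR, r1, r2⟩ := rest_iso hg hg' a3 b3 a5 b5 a8 hf
  have st : St g R := fun v hv => by
    rw [← a3 ⟨v, hv⟩]
    exact (gR ⟨v, hv⟩).2
  have hR : Iso Q g Q g' True R R' := by
    refine ⟨zR, fun u v => ?_, fun u v huv => ?_, fun _ => r2⟩
    · show polar Q (zR u : V) (zR v : V) = polar Q (u : V) (v : V)
      unfold polar
      rw [r2, r2, ← Submodule.coe_add, ← Submodule.coe_add, ← map_add, r2]
    · have h1 : v = gR u := Subtype.ext (by rw [huv, a3])
      rw [h1, r1, b3]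
  rcases hflip with ⟨k, k1, k2, k3, k4⟩ | ⟨k, k1, k2, k3, k4⟩
  · have m1 : Piece.W (2 * k + 1) true ∈ L := of_decide_eq_true k1
    have m2 : Piece.W (2 * k + 1) true ∉ L' := of_decide_eq_false k2
    have m3 : Piece.W (2 * k + 1) false ∈ L' := by
      have h3 : 0 < aOf L' (2 * k + 1) := by
        have := aOf_pos' m1
        rwa [show aOf L = aOf L' from ha] at this
      obtain ⟨s, hs⟩ := aOf_pos h3
      cases s
      · exact hs
      · exact absurd hs m2
    refine Dec.no_flip h2 hα0 hQ hg hg' a1 a2 a5 a6 b2 b5 b6 st hR (Or.inl ⟨k, rfl, rfl⟩) m1 m3 ?_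
    refine perm_erase m1 m3 (by simp) ?_ ?_ ?_ ?_
    · rintro (⟨m, s⟩ | ⟨m, s⟩) hq hq'
      · by_cases hm : m = 2 * k + 1
        · subst hm
          cases s
          · exact absurd rfl hq'
          · exact absurd rfl hq
        · have hW : L.count (Piece.W m true) = L'.count (Piece.W m true) := by
            have h3 := k3 m hm
            simp only [datOf] at h3
            rw [a7.count_W, b7.count_W, h3]
          cases s
          · have h1 := congrFun ha m
            simp only [datOf, aOf] at h1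
            omega
          · exact hW
      · have hC : L.count (Piece.C m true) = L'.count (Piece.C m true) := by
          have h3 := congrFun k4 m
          simp only [datOf] at h3
          rw [a7.count_C, b7.count_C, h3]
        cases s
        · have h1 := congrFun hb m
          simp only [datOf, bOf] at h1
          omega
        · exact hC
    · rw [a7.count_W, if_pos (decide_eq_true m1)]
    · exact List.count_eq_zero.2 m2
    · have h1 := congrFun ha (2 * k + 1)
      simp only [datOf, aOf] at h1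
      exact h1
  · have m1 : Piece.C k true ∈ L := of_decide_eq_true k1
    have m2 : Piece.C k true ∉ L' := of_decide_eq_false k2
    have m3 : Piece.C k false ∈ L' := by
      have h3 : 0 < bOf L' k := by
        have := bOf_pos' m1
        rwa [show bOf L = bOf L' from hb] at this
      obtain ⟨s, hs⟩ := bOf_pos h3
      cases s
      · exact hs
      · exact absurd hs m2
    refine Dec.no_flip h2 hα0 hQ hg hg' a1 a2 a5 a6 b2 b5 b6 st hR (Or.inr ⟨k, rfl, rfl⟩) m1 m3 ?_
    refine perm_erase m1 m3 (by simp) ?_ ?_ ?_ ?_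
    · rintro (⟨m, s⟩ | ⟨m, s⟩) hq hq'
      · have hW : L.count (Piece.W m true) = L'.count (Piece.W m true) := by
          have h3 := congrFun k3 m
          simp only [datOf] at h3
          rw [a7.count_W, b7.count_W, h3]
        cases s
        · have h1 := congrFun ha m
          simp only [datOf, aOf] at h1
          omega
        · exact hW
      · by_cases hm : m = k
        · subst hm
          cases s
          · exact absurd rfl hq'
          · exact absurd rfl hq
        · have hC : L.count (Piece.C m true) = L'.count (Piece.C m true) := by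
            have h3 := k4 m hm
            simp only [datOf] at h3
            rw [a7.count_C, b7.count_C, h3]
          cases s
          · have h1 := congrFun hb m
            simp only [datOf, bOf] at h1
            omega
          · exact hC
    · rw [a7.count_C, if_pos (decide_eq_true m1)]
    · exact List.count_eq_zero.2 m2
    · have h1 := congrFun hb k
      simp only [datOf, bOf] at h1
      exact h1

end Flip

end Cfsg.Agent.H170.Uni
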