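import Mathlib
import Cfsg.Agent.H170.Bridge
import Cfsg.Agent.H170.Rep
import Cfsg.Agent.H173.NumMain
import Cfsg.Agent.LieClassical.QuadForms

/-!
# `k(O^±(2n,q)) ≤ 15 q^n` for `q` even
-/

set_option autoImplicit false

namespace Cfsg.Agent.H170.EvenUpper

open Module QuadraticMap Cfsg.Agent.H170.Uni Cfsg.Agent.H170.Bridge

section FieldFacts

variable {F : Type*} [Field F] [Finite F]

theorem two_eq_zero (h : Even (Nat.card F)) : (2 : F) = 0 := by
  have := Fintype.ofFinite F
  rw [Nat.card_eq_fintype_card] at h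
  have h1 : ringChar F = 2 := FiniteField.even_card_iff_char_two.2 (Nat.even_iff.1 h)
  have h2 := ringChar.Nat.cast_ringChar (R := F)
  rw [h1] at h2
  exact_mod_cast h2

theorem exists_sqrt (h : Even (Nat.card F)) (c : F) : ∃ d : F, d * d = c := by
  have := Fintype.ofFinite F
  rw [Nat.card_eq_fintype_card] at h
  have h1 : ringChar F = 2 := FiniteField.even_card_iff_char_two.2 (Nat.even_iff.1 h)
  obtain ⟨d, hd⟩ := FiniteField.isSquare_of_char_two h1 c
  exact ⟨d, hd.symm⟩

/-- the Artin–Schreier map -/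
def asMap (h2 : (2 : F) = 0) : F →+ F where
  toFun l := l * l + l
  map_zero' := by ring
  map_add' a b := by linear_combination (a * b) * h2

theorem exists_alpha (h2 : (2 : F) = 0) :
    ∃ α : F, (∀ l, l * l + l ≠ α) ∧ ∀ r, (∃ l, l * l + l = r) ∨ ∃ l, l * l + l = r + α := by
  classical
  have hker : Nat.card (asMap h2).ker = 2 := by
    have h1 : ((asMap h2).ker : Set F) = {0, 1} := by
      ext x
      rw [SetLike.mem_coe, AddMonoidHom.mem_ker, Set.mem_insert_iff, Set.mem_singleton_iff]
      show x * x + x = 0 ↔ _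
      constructor
      · intro h
        have h3 : x * (x + 1) = 0 := by linear_combination h
        rcases mul_eq_zero.1 h3 with h4 | h4
        · exact Or.inl h4
        · exact Or.inr (by linear_combination h4 - h2)
      · rintro (rfl | rfl)
        · ring
        · linear_combination h2
    have h3 : Nat.card (asMap h2).ker = Nat.card (({0, 1} : Set F)) := by
      rw [← h1]
      rfl
    rw [h3, Nat.card_coe_set_eq, Set.ncard_pair zero_ne_one]
  have hidx : (asMap h2).range.index = 2 := by
    have h1 := (asMap h2).range.card_mul_index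
    have h3 := AddSubgroup.card_eq_card_quotient_mul_card_addSubgroup (asMap h2).ker
    have h4 : Nat.card (F ⧸ (asMap h2).ker) = Nat.card (asMap h2).range :=
      Nat.card_congr (QuotientAddGroup.quotientKerEquivRange (asMap h2)).toEquiv
    rw [h4, hker] at h3
    have h5 : 0 < Nat.card (asMap h2).range := Nat.card_pos
    rw [h3] at h1
    exact Nat.eq_of_mul_eq_mul_left h5 h1
  have hmem : ∀ r, r ∈ (asMap h2).range ↔ ∃ l, l * l + l = r := fun r => Iff.rfl
  obtain ⟨α, hα⟩ : ∃ α, α ∉ (asMap h2).range := by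
    by_contra hc
    push Not at hc
    have h1 : (asMap h2).range = ⊤ := eq_top_iff.2 fun x _ => hc x
    rw [h1, AddSubgroup.index_top] at hidx
    omega
  refine ⟨α, fun l hl => hα ((hmem α).2 ⟨l, hl⟩), fun r => ?_⟩
  by_cases hr : r ∈ (asMap h2).range
  · exact Or.inl ((hmem r).1 hr)
  · right
    rw [← hmem]
    rw [AddSubgroup.add_mem_iff_of_index_two hidx]
    exact iff_of_false hr hα

end FieldFacts

section Flip

variable {F : Type*} [Field F]

/-- something is present at position `r` (odd: `W(r)`, even: `C(r/2)`) -/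
def pres (D : Dat F) (r : ℕ) : Prop := (Odd r ∧ 0 < D.a r) ∨ (Even r ∧ 0 < D.b (r / 2))

open Classical in
/-- the first position -/
noncomputable def pos (D : Dat F) : ℕ := if h : ∃ r, pres D r then Nat.find h else 0

theorem pos_spec {D : Dat F} (h : ∃ r, pres D r) : pres D (pos D) ∧ ∀ r, r < pos D → ¬ pres D r := by
  classical
  rw [pos, dif_pos h]
  exact ⟨Nat.find_spec h, fun r hr => Nat.find_min h hr⟩

open Classical in
/-- change the sign at the first position -/
noncomputable def flip (D : Dat F) : Dat F where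
  f := D.f
  a := D.a
  b := D.b
  s := fun m => if Odd (pos D) ∧ m = pos D then !D.s m else D.s m
  t := fun k => if Even (pos D) ∧ k = pos D / 2 then !D.t k else D.t k

theorem pos_flip (D : Dat F) : pos (flip D) = pos D := rfl

theorem flip_flip (D : Dat F) : flip (flip D) = D := by
  have hs : (flip (flip D)).s = D.s := by
    funext m
    show (if Odd (pos D) ∧ m = pos D then !(if Odd (pos D) ∧ m = pos D then !D.s m else D.s m) else
      (if Odd (pos D) ∧ m = pos D then !D.s m else D.s m)) = D.s m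
    split_ifs
    · exact Bool.not_not _
    · rfl
  have ht : (flip (flip D)).t = D.t := by
    funext m
    show (if Even (pos D) ∧ m = pos D / 2 then !(if Even (pos D) ∧ m = pos D / 2 then !D.t m else D.t m) else
      (if Even (pos D) ∧ m = pos D / 2 then !D.t m else D.t m)) = D.t m
    split_ifs
    · exact Bool.not_not _
    · rfl
  have h : flip (flip D) = ⟨D.f, D.a, D.b, (flip (flip D)).s, (flip (flip D)).t⟩ := rfl
  rw [h, hs, ht]

theorem flip_ok {n : ℕ} {D : Dat F} (h : D.Ok n) (hD : ∃ r, pres D r) : (flip D).Ok n := by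
  obtain ⟨h1, h2⟩ := pos_spec hD
  refine ⟨h.monic, h.pal, h.one, h.even, h.zero, h.big, h.b_le, fun j hj => ?_, fun k hk => ?_, h.size⟩
  · simp only [flip] at hj
    show Odd j ∧ 0 < D.a j ∧ D.b (j / 2) = 0
    split_ifs at hj with hc
    · obtain ⟨c1, rfl⟩ := hc
      rcases h1 with ⟨_, h1⟩ | ⟨h1, _⟩
      · refine ⟨c1, h1, ?_⟩
        by_contra h3
        obtain ⟨k, hk⟩ := c1
        apply h2 (2 * k) (by omega)
        refine Or.inr ⟨even_two_mul k, ?_⟩
        rw [show 2 * k / 2 = pos D / 2 by omega]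
        exact Nat.pos_of_ne_zero h3
      · exact absurd h1 (Nat.not_even_iff_odd.2 c1)
    · exact h.s_imp j hj
  · simp only [flip] at hk
    show 0 < D.b k ∧ D.b (k - 1) = 0 ∧ D.a (2 * k - 1) = 0
    split_ifs at hk with hc
    · obtain ⟨c1, rfl⟩ := hc
      rcases h1 with ⟨h1, _⟩ | ⟨_, h1⟩
      · exact absurd c1 (Nat.not_even_iff_odd.2 h1)
      · obtain ⟨k, hk⟩ := c1
        have hk' : pos D / 2 = k := by omega
        rw [hk'] at h1 ⊢
        have hk0 : 0 < k := by
          rcases Nat.eq_zero_or_pos k with h0 | h0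
          · rw [h0, h.zero.2.2] at h1
            exact absurd h1 (lt_irrefl _)
          · exact h0
        refine ⟨h1, ?_, ?_⟩
        · by_contra h3
          apply h2 (2 * (k - 1)) (by omega)
          refine Or.inr ⟨even_two_mul _, ?_⟩
          rw [show 2 * (k - 1) / 2 = k - 1 by omega]
          exact Nat.pos_of_ne_zero h3
        · by_contra h3
          apply h2 (2 * k - 1) (by omega)
          exact Or.inl ⟨⟨k - 1, by omega⟩, Nat.pos_of_ne_zero h3⟩
    · exact h.t_imp k hk

/-- counting with an involution -/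
theorem two_card_le {X : Type*} {S T : Set X} (hS : S.Finite) (hT : T ⊆ S) (P : X → Prop) (φ : X → X)
    (h1 : ∀ x ∈ S, ¬ P x → φ x ∈ S) (h2 : ∀ x, φ (φ x) = x)
    (h3 : ∀ x ∈ T, ¬ P x → φ x ∉ T) : 2 * T.ncard ≤ S.ncard + {x | x ∈ S ∧ P x}.ncard := by
  classical
  have hTf : T.Finite := hS.subset hT
  have e1 : (T ∩ {x | P x}).ncard + (T \ {x | P x}).ncard = T.ncard := Set.ncard_inter_add_ncard_sdiff_eq_ncard _ _ hTf
  have e2 : (φ '' (T \ {x | P x})).ncard = (T \ {x | P x}).ncard :=
    Set.ncard_image_of_injective _ fun x y h => by rw [← h2 x, ← h2 y, h]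
  have e3 : Disjoint T (φ '' (T \ {x | P x})) := by
    rw [Set.disjoint_right]
    rintro _ ⟨x, ⟨hx, hPx⟩, rfl⟩
    exact h3 x hx hPx
  have e4 : (T ∪ φ '' (T \ {x | P x})).ncard ≤ S.ncard := by
    apply Set.ncard_le_ncard _ hS
    rintro y (hy | ⟨x, ⟨hx, hPx⟩, rfl⟩)
    · exact hT hy
    · exact h1 x (hT hx) hPx
  rw [Set.ncard_union_eq e3 hTf ((hTf.sdiff).image _), e2] at e4
  have e5 : (T ∩ {x | P x}).ncard ≤ {x | x ∈ S ∧ P x}.ncard :=
    Set.ncard_le_ncard (fun x hx => ⟨hT hx.1, hx.2⟩) (hS.subset fun x hx => hx.1)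
  omega

end Flip

section Upper

variable {F : Type*} [Field F] [Finite F]

/-- no multiplicity -/
def Free (D : Dat F) : Prop := (∀ j, Odd j → D.a j = 0) ∧ ∀ k, D.b k = 0

omit [Finite F] in
theorem exists_pres {D : Dat F} (h : ¬ Free D) : ∃ r, pres D r := by
  by_contra hc
  push Not at hc
  refine h ⟨fun j hj => ?_, fun k => ?_⟩
  · by_contra h0
    exact hc j (Or.inl ⟨hj, Nat.pos_of_ne_zero h0⟩)
  · by_contra h0
    apply hc (2 * k)
    refine Or.inr ⟨even_two_mul k, ?_⟩
    rw [show 2 * k / 2 = k by omega]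
    exact Nat.pos_of_ne_zero h0

/-- **Upper bound.** -/
theorem card_classes_le (hF : Even (Nat.card F)) {ι : Type} [Fintype ι] [DecidableEq ι] {n : ℕ}
    (hι : Fintype.card ι = 2 * n) (Q : QuadraticForm F (ι → F)) (hQ : Nd Q ⊤) :
    Nat.card (ConjClasses (Cfsg.isometryGroup F Q)) ≤ 15 * Nat.card F ^ n := by
  classical
  have h2 := two_eq_zero hF
  obtain ⟨α, hα0, hα⟩ := exists_alpha h2
  have hfin : Finite {D : Dat F | D.Ok n} := H173.Num.finite_dat (F := F) n
  have hfr : finrank F (ι → F) = 2 * n := by rw [Module.finrank_fintype_fun_eq_card, hι]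
  have hmem : ∀ g : Cfsg.isometryGroup F Q, ∀ v, Q (linOf g.1 v) = Q v := fun g => mem_iff.1 g.2
  have key := card_conj_le (G := Cfsg.isometryGroup F Q) {D : Dat F | D.Ok n}
    (fun g D => Rep Q (linOf g.1) α D)
    (fun g => by
      obtain ⟨D, h3, h4⟩ := exists_rep h2 (exists_sqrt hF) hα hQ (hmem g) hfr
      exact ⟨D, h3, h4⟩)
    (fun g g' D h3 h4 => by
      obtain ⟨z, z1, z2⟩ := Rep.iso h2 (hmem g) (hmem g') h3 h4
      exact isConj_of_equiv g g' z z1 z2)
  have hSfin : {D : Dat F | D.Ok n}.Finite := Set.toFinite _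
  have hcard2 : 2 ≤ Nat.card F := Finite.one_lt_card
  rcases Nat.lt_or_ge (Nat.card F) 4 with h4 | h4
  · have hq : Nat.card F = 2 := by
      obtain ⟨r, hr⟩ := hF
      omega
    have e1 := two_card_le (S := {D : Dat F | D.Ok n})
      (T := {D : Dat F | D.Ok n ∧ ∃ g : Cfsg.isometryGroup F Q, Rep Q (linOf g.1) α D}) hSfin (fun D hD => hD.1)
      Free flip (fun D hD hP => flip_ok hD (exists_pres hP)) flip_flip
      (by
        rintro D ⟨hD, g, hg⟩ hP ⟨hD', g', hg'⟩
        obtain ⟨c1, c2⟩ := pos_spec (exists_pres hP)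
        rcases Nat.even_or_odd (pos D) with ho | ho
        · have hflip : ∀ m, (flip D).t m = if m = pos D / 2 then !D.t m else D.t m := by
            intro m
            show (if Even (pos D) ∧ m = pos D / 2 then !D.t m else D.t m) = _
            simp only [ho, true_and]
          have hflip' : (flip D).s = D.s := by
            funext m
            show (if Odd (pos D) ∧ m = pos D then !D.s m else D.s m) = _
            rw [if_neg fun hc => absurd ho (Nat.not_even_iff_odd.2 hc.1)]
          cases hs : D.t (pos D / 2)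
          · refine Rep.no_flip h2 hα0 hQ (hmem g') (hmem g) hg' hg rfl rfl rfl (Or.inr ⟨pos D / 2, ?_, hs, hflip', ?_⟩)
            · rw [hflip, if_pos rfl, hs]
              rfl
            · intro m hm
              rw [hflip, if_neg hm]
          · refine Rep.no_flip h2 hα0 hQ (hmem g) (hmem g') hg hg' rfl rfl rfl
              (Or.inr ⟨pos D / 2, hs, ?_, hflip'.symm, ?_⟩)
            · rw [hflip, if_pos rfl, hs]
              rfl
            · intro m hm
              rw [hflip, if_neg hm]
        · have hflip : ∀ m, (flip D).s m = if m = pos D then !D.s m else D.s m := by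
            intro m
            show (if Odd (pos D) ∧ m = pos D then !D.s m else D.s m) = _
            simp only [ho, true_and]
          have hflip' : (flip D).t = D.t := by
            funext m
            show (if Even (pos D) ∧ m = pos D / 2 then !D.t m else D.t m) = _
            rw [if_neg fun hc => absurd hc.1 (Nat.not_even_iff_odd.2 ho)]
          obtain ⟨k, hk⟩ := ho
          cases hs : D.s (pos D)
          · refine Rep.no_flip h2 hα0 hQ (hmem g') (hmem g) hg' hg rfl rfl rfl (Or.inl ⟨k, ?_, ?_, ?_, hflip'⟩)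
            · rw [← hk, hflip, if_pos rfl, hs]
              rfl
            · rw [← hk, hs]
            · intro m hm
              rw [hflip, if_neg (by omega)]
          · refine Rep.no_flip h2 hα0 hQ (hmem g) (hmem g') hg hg' rfl rfl rfl (Or.inl ⟨k, ?_, ?_, ?_, hflip'.symm⟩)
            · rw [← hk, hs]
            · rw [← hk, hflip, if_pos rfl, hs]
              rfl
            · intro m hm
              rw [hflip, if_neg (by omega)])
    have e2 := H173.Num.card_dat_two hq n
    have e3 := H173.Num.card_dat_free hq n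
    rw [← Nat.card_coe_set_eq, ← Nat.card_coe_set_eq, ← Nat.card_coe_set_eq] at e1
    have e4 : Nat.card (ConjClasses (Cfsg.isometryGroup F Q)) ≤
        Nat.card {D : Dat F | D.Ok n ∧ ∃ g : Cfsg.isometryGroup F Q, Rep Q (linOf g.1) α D} := key
    have e5 : Nat.card {D : Dat F | D.Ok n} = Nat.card {D : Dat F // D.Ok n} := rfl
    have e6 : Nat.card {x : Dat F | x ∈ {D : Dat F | D.Ok n} ∧ Free x} =
        Nat.card {D : Dat F // D.Ok n ∧ (∀ j, Odd j → D.a j = 0) ∧ ∀ k, D.b k = 0} := rfl
    rw [e5, e6] at e1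
    rw [hq]
    omega
  · refine key.trans (le_trans ?_ (H173.Num.card_dat h4 n))
    have hfin' : Finite {D : Dat F // D.Ok n} := hfin
    exact Nat.card_le_card_of_injective (fun D => ⟨D.1, D.2.1⟩) fun D D' h => Subtype.ext (congrArg (fun x : {D : Dat F // D.Ok n} => x.1) h)

end Upper

section Forms

open Cfsg.Agent.LieClassical.QuadForms

variable {F : Type*} [Field F] [Finite F]

omit [Finite F] in
theorem nd_of_polar {V : Type*} [AddCommGroup V] [Module F V] {Q : QuadraticForm F V}
    (h : ∀ u, (∀ v, polar Q u v = 0) → u = 0) : Nd Q ⊤ :=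
  fun u _ hu => h u fun v => hu v trivial

omit [Finite F] in
theorem nd_plus (n : ℕ) : Nd (plusForm n F) ⊤ := nd_of_polar (polar_plusForm_nondeg n)

theorem nd_minus (hF : Even (Nat.card F)) (n : ℕ) (a b : F)
    (hab : ∀ z₁ z₂ : F, z₁ ^ 2 + a * z₁ * z₂ + b * z₂ ^ 2 = 0 → z₁ = 0 ∧ z₂ = 0) : Nd (minusForm n F a b) ⊤ := by
  have h2 := two_eq_zero hF
  have ha : a ≠ 0 := by
    rintro rfl
    obtain ⟨d, hd⟩ := exists_sqrt hF b
    have := (hab d 1 (by linear_combination hd + b * h2)).2
    exact one_ne_zero this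
  apply nd_of_polar
  intro u hu
  have h1 : (fun i => u (.inl i)) = (0 : Fin n ⊕ Fin n → F) := by
    apply polar_plusForm_nondeg n
    intro v
    have h3 := hu (Sum.elim v 0)
    rw [polar_minusForm] at h3
    have h4 : polar (binForm F a b) (fun i => u (.inr i)) (fun i => (Sum.elim v 0 : (Fin n ⊕ Fin n) ⊕ Fin 2 → F) (.inr i)) = 0 := by
      rw [polar_binForm]
      simp
    rw [h4, add_zero] at h3
    exact h3
  have h5 : ∀ z : Fin 2 → F, a * (u (.inr 0) * z 1 + u (.inr 1) * z 0) = 0 := by
    intro z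
    have h3 := hu (Sum.elim 0 z)
    rw [polar_minusForm, h1, polar_binForm] at h3
    have h4 : polar (plusForm n F) 0 (fun i => (Sum.elim 0 z : (Fin n ⊕ Fin n) ⊕ Fin 2 → F) (.inl i)) = 0 := by
      rw [polar_plusForm]
      simp
    rw [h4, zero_add] at h3
    simp only [Sum.elim_inr] at h3
    linear_combination h3 - (u (.inr 0) * z 0 + b * (u (.inr 1) * z 1)) * h2
  funext x
  rcases x with i | i
  · exact congrFun h1 i
  · fin_cases i
    · have := h5 ![0, 1]
      simp only [Matrix.cons_val_zero, Matrix.cons_val_one, mul_one, mul_zero, add_zero] at this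
      exact (mul_eq_zero.1 this).resolve_left ha
    · have := h5 ![1, 0]
      simp only [Matrix.cons_val_zero, Matrix.cons_val_one, mul_one, mul_zero, zero_add] at this
      exact (mul_eq_zero.1 this).resolve_left ha

theorem card_plus_le (hF : Even (Nat.card F)) (n : ℕ) :
    Nat.card (ConjClasses (Cfsg.isometryGroup F (Cfsg.quadFormPlus n F))) ≤ 15 * Nat.card F ^ n := by
  have h := card_classes_le hF (n := n) (by simp; omega) (plusForm n F) (nd_plus n)
  rwa [coe_plusForm] at h

theorem card_minus_le (hF : Even (Nat.card F)) (n : ℕ) (a b : F)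
    (hab : ∀ z₁ z₂ : F, z₁ ^ 2 + a * z₁ * z₂ + b * z₂ ^ 2 = 0 → z₁ = 0 ∧ z₂ = 0) :
    Nat.card (ConjClasses (Cfsg.isometryGroup F (Cfsg.quadFormMinus n F a b))) ≤ 15 * Nat.card F ^ (n + 1) := by
  have h := card_classes_le hF (n := n + 1) (by simp; omega) (minusForm n F a b) (nd_minus hF n a b hab)
  rwa [coe_minusForm] at h

end Forms

end Cfsg.Agent.H170.EvenUpper
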