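import Mathlib
import Cfsg.Agent.H169.OddCount
import Cfsg.Agent.H169.OddForms

/-!
# Counting classes of `O(2n+1,q)`, `q` odd, with restrictions on the data

* `HasO.exists_pair` : two Jordan blocks of size one for the eigenvalue `± 1` give an orthogonal anisotropic pair of
  eigenvectors;
* `two_card_odd_le` : twice the number of classes with restricted data is at most the number of restricted data.
-/

set_option autoImplicit false

namespace Cfsg.Agent.H170.OddUpper

open Module Matrix Cfsg.Agent.H169 Cfsg.Agent.H169.OddUnip Cfsg.Agent.H169.OddGlue Cfsg.Agent.H169.OddCount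
  Cfsg.Agent.H194.NilForm Cfsg.Agent.H194.Cayley

section Pair

/-- an orthogonal anisotropic pair for a symmetric invertible matrix of size `≥ 2` -/
theorem exists_pair_matrix {F : Type*} [Field F] (h2 : (2 : F) ≠ 0) {κ : Type*} [Fintype κ] [DecidableEq κ]
    (S : Matrix κ κ F) (hS : Sᵀ = S) (hu : IsUnit S) (hκ : 2 ≤ Fintype.card κ) :
    ∃ c d : κ → F, c ⬝ᵥ (S *ᵥ d) = 0 ∧ c ⬝ᵥ (S *ᵥ c) ≠ 0 ∧ d ⬝ᵥ (S *ᵥ d) ≠ 0 := by
  let _inv : Invertible (2 : F) := invertibleOfNonzero h2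
  have hsym : LinearMap.IsSymm (Matrix.toBilin' S) := by
    constructor
    intro x y
    rw [RingHom.id_apply, Matrix.toBilin'_apply', Matrix.toBilin'_apply', dotProduct_comm, dotProduct_mulVec y,
      ← mulVec_transpose, hS]
  obtain ⟨v, hv⟩ := LinearMap.BilinForm.exists_orthogonal_basis (B := Matrix.toBilin' S) hsym
  have hsep : ∀ u, (∀ w, Matrix.toBilin' S u w = 0) → u = 0 := fun u h =>
    (Cfsg.Agent.H194.NilForm.nondeg_of_isUnit hu).1 u h
  have hne := hv.not_isOrtho_basis_self_of_separatingLeft hsep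
  have hr : finrank F (κ → F) = Fintype.card κ := finrank_fintype_fun_eq_card F
  have e : ∀ c d : κ → F, c ⬝ᵥ (S *ᵥ d) = Matrix.toBilin' S c d := fun c d => (Matrix.toBilin'_apply' _ _ _).symm
  refine ⟨v ⟨0, by omega⟩, v ⟨1, by omega⟩, ?_, ?_, ?_⟩
  · rw [e]
    exact hv (by
      intro h
      have := congrArg Fin.val h
      simp at this)
  · rw [e]
    exact hne _
  · rw [e]
    exact hne _

variable {F : Type*} [Field F] {V : Type*} [AddCommGroup V] [Module F V]

theorem fix_of_cay {g N : Module.End F V} (h : Cay g N) {v : V} (hv : N v = 0) : g v = v := by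
  have h1 := congrArg (fun T : Module.End F V => T v) h.eq_sub
  simp only [Module.End.mul_apply, hv, map_zero, LinearMap.sub_apply, Module.End.one_apply] at h1
  exact (sub_eq_zero.1 h1.symm)

theorem HasU.exists_pair (h2 : (2 : F) ≠ 0) {B : V →ₗ[F] V →ₗ[F] F} (hsym : ∀ u v, B u v = B v u)
    (hnd : ∀ u, (∀ v, B u v = 0) → u = 0)
    {g : Module.End F V} (hg : ∀ u v, B (g u) (g v) = B u v) {m : ℕ → ℕ} {s : ℕ → Bool} (H : HasU B g m s)
    (hm : 2 ≤ m 1) : ∃ u v, g u = u ∧ g v = v ∧ B u v = 0 ∧ B u u ≠ 0 ∧ B v v ≠ 0 := by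
  obtain ⟨N, hc, ι, _, _, ℓ, S, x, hx, hℓ, -⟩ := H
  have hskew := skew_of_isometry (f := fun u v => B u v) h2 (fun x x' y => by rw [map_add, LinearMap.add_apply])
    (fun x y y' => by rw [map_add]) hg hc
  have hP := pair B hsym hnd hskew
  have hS := block_symm hP hx 1
  rw [show (-1 : F) ^ (1 + 1) = 1 by ring, one_smul] at hS
  obtain ⟨c, d, h1, h3, h4⟩ := exists_pair_matrix h2 (S.toSquareBlock ℓ 1) hS (hx.block_isUnit 1) (by rw [hℓ]; exact hm)
  let φ : ({a // ℓ a = 1} → F) →ₗ[F] V := ∑ a : {a // ℓ a = 1}, (LinearMap.proj a).smulRight (x a.1)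
  have hφ : ∀ c, φ c = ∑ a : {a // ℓ a = 1}, c a • x a.1 := fun c => by simp [φ]
  have hN : ∀ c, N (φ c) = 0 := fun c => by
    rw [hφ, map_sum]
    refine Finset.sum_eq_zero fun a _ => ?_
    rw [map_smul]
    have h5 := hx.pow a.1
    rw [a.2, pow_one] at h5
    rw [h5, smul_zero]
  have hB : ∀ c d, B (φ c) (φ d) = c ⬝ᵥ (S.toSquareBlock ℓ 1 *ᵥ d) := fun c d => by
    rw [hφ c, map_sum, LinearMap.sum_apply]
    simp only [dotProduct, mulVec]
    refine Finset.sum_congr rfl fun a _ => ?_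
    rw [map_smul, LinearMap.smul_apply, smul_eq_mul, hφ d, map_sum]
    congr 1
    refine Finset.sum_congr rfl fun b _ => ?_
    rw [map_smul, smul_eq_mul, mul_comm]
    congr 1
    have h5 := hx.form a.1 b.1 0
    rw [if_pos (by rw [b.2]), pow_zero] at h5
    exact h5
  refine ⟨φ c, φ d, fix_of_cay hc (hN c), fix_of_cay hc (hN d), ?_, ?_, ?_⟩
  · rw [hB, h1]
  · rw [hB]
    exact h3
  · rw [hB]
    exact h4

variable [FiniteDimensional F V]

/-- two blocks of size one give an orthogonal anisotropic pair of eigenvectors -/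
theorem HasO.exists_pair (h2 : (2 : F) ≠ 0) {B : V →ₗ[F] V →ₗ[F] F} (hsym : ∀ u v, B u v = B v u)
    (hnd : ∀ u, (∀ v, B u v = 0) → u = 0) {g : V ≃ₗ[F] V} (hg : ∀ u v, B (g u) (g v) = B u v) {D : ODat F}
    (H : HasO B g D) (hm : 2 ≤ D.a true 1 ∨ 2 ≤ D.a false 1) :
    ∃ (ε : F) (u v : V), (ε = 1 ∨ ε = -1) ∧ g u = ε • u ∧ g v = ε • v ∧ B u v = 0 ∧ B u u ≠ 0 ∧ B v v ≠ 0 := by
  obtain ⟨U, W, h, hU, U', W', h', hU', -, -⟩ := H
  rcases hm with hm | hm
  · obtain ⟨u, v, h3, h4, h5, h6, h7⟩ := HasU.exists_pair h2 (B := bres B U) (fun u v => hsym u v) (h.nondeg hnd)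
      (fun u v => hg u v) hU hm
    refine ⟨1, u, v, Or.inl rfl, ?_, ?_, h5, h6, h7⟩
    · rw [one_smul]
      exact congrArg Subtype.val h3
    · rw [one_smul]
      exact congrArg Subtype.val h4
  · obtain ⟨u, v, h3, h4, h5, h6, h7⟩ := HasU.exists_pair h2 (B := bres (bres B W) U') (fun u v => hsym u v)
      (h'.nondeg ((h.swap hsym).nondeg hnd))
      (fun u v => by
        rw [LinearMap.neg_apply, LinearMap.neg_apply, map_neg, map_neg, LinearMap.neg_apply, neg_neg]
        exact hg u v) hU' hm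
    refine ⟨-1, u.1, v.1, Or.inr rfl, ?_, ?_, h5, h6, h7⟩
    · have h8 : -(g (u.1 : V)) = (u.1 : V) := congrArg (fun x : U' => ((x : W) : V)) h3
      rw [neg_one_smul]
      exact neg_eq_iff_eq_neg.1 h8
    · have h8 : -(g (v.1 : V)) = (v.1 : V) := congrArg (fun x : U' => ((x : W) : V)) h4
      rw [neg_one_smul]
      exact neg_eq_iff_eq_neg.1 h8

end Pair

section Count

variable {F : Type*} [Field F] {ι : Type} [Fintype ι] [DecidableEq ι]

theorem not_free {N : ℕ} (hN : Odd N) {D : ODat F} (h : D.Ok N) : ¬ D.Free := by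
  intro hf
  apply Nat.not_even_iff_odd.2 hN
  rw [← h.size]
  apply Finset.even_sum
  intro j _
  rcases Nat.even_or_odd j with hj | hj
  · exact hj.mul_right _
  · rw [hf true j hj, hf false j hj, add_zero, add_zero]
    exact (h.even j).mul_left _

/-- **Twice the number of classes with restricted data.** -/
theorem two_card_odd_le [Fintype F] (h2 : (2 : F) ≠ 0) {N : ℕ} (hN : Odd N) (hι : Fintype.card ι = N)
    (G₀ : Matrix ι ι F) (hs : G₀ᵀ = G₀) (hu : G₀.det ≠ 0) (Q : (ι → F) → F) (hQ : ∀ v, 2 * Q v = v ⬝ᵥ (G₀ *ᵥ v))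
    [Finite {D : ODat F // D.Ok N}] (K : (Bool → ℕ → ℕ) → Prop) (C : Set (ConjClasses (Cfsg.isometryGroup F Q)))
    (hC : ∀ c ∈ C, ∃ A : Cfsg.isometryGroup F Q, ConjClasses.mk A = c ∧
      ∀ D : ODat F, HasO (bf G₀) (lin (A : GL ι F)) D → K D.a) :
    2 * Nat.card C ≤ Nat.card {D : ODat F // D.Ok N ∧ K D.a} := by
  classical
  have hrank : finrank F (ι → F) = N := by rw [finrank_fintype_fun_eq_card, hι]
  have hfin : Finite {D : ODat F // D.Ok N ∧ K D.a} :=
    Finite.of_injective (fun D => (⟨D.1, D.2.1⟩ : {D : ODat F // D.Ok N})) fun D D' h =>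
      Subtype.ext (congrArg (fun x : {D : ODat F // D.Ok N} => x.1) h)
  let R : {D : ODat F // D.Ok N ∧ K D.a} → Prop := fun D =>
    ∃ A : Cfsg.isometryGroup F Q, HasO (bf G₀) (lin (A : GL ι F)) D.1
  have h1 : ∀ A : Cfsg.isometryGroup F Q, ∃ D : ODat F, D.Ok N ∧ HasO (bf G₀) (lin (A : GL ι F)) D := fun A =>
    exists_hasO h2 (bf_symm hs) (bf_nondeg hu) (bf_iso h2 hs hQ A) hrank
  choose D hD hA using h1
  have h3 : Nat.card C ≤ Nat.card {x // R x} := by
    refine Nat.card_le_card_of_injective (fun c : C =>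
      (⟨⟨D (hC c.1 c.2).choose, hD _, (hC c.1 c.2).choose_spec.2 _ (hA _)⟩, ⟨_, hA _⟩⟩ : {x // R x})) ?_
    intro c c' hcc
    have h4 : D (hC c.1 c.2).choose = D (hC c'.1 c'.2).choose := congrArg (fun x => x.1.1) hcc
    have h5 := hA (hC c.1 c.2).choose
    have h6 := hA (hC c'.1 c'.2).choose
    rw [← h4] at h6
    obtain ⟨z, hz, hz'⟩ := h5.exists_isometry h2 (bf_symm hs) (bf_nondeg hu) (bf_symm hs) (bf_nondeg hu)
      (bf_iso h2 hs hQ _) (bf_iso h2 hs hQ _) h6
    have h7 := isConj_of_iso h2 hQ _ _ z hz hz'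
    apply Subtype.ext
    rw [← (hC c.1 c.2).choose_spec.1, ← (hC c'.1 c'.2).choose_spec.1]
    exact ConjClasses.mk_eq_mk_iff_isConj.2 h7
  have h4 := card_count R (fun _ => False)
    (fun x => ⟨flip x.1, flip_ok x.2.1 (not_free hN x.2.1), x.2.2⟩) (by
      intro x _
      exact ⟨Subtype.ext (flip_flip _), not_false⟩) (by
      rintro x ⟨A, hxA⟩ _ ⟨A', hxA'⟩
      have h5 := hxA.qd_mul h2 (bf_symm hs) (bf_nondeg hu) (bf_symm hs) (bf_nondeg hu) (bf_iso h2 hs hQ _)
        (bf_iso h2 hs hQ _) hxA' rfl rfl (d := N) hrank.le hrank.le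
      rw [sgn_flip x.2.1 (not_free hN x.2.1), ← sq, OddUnip.qd, quadraticChar_sq_one] at h5
      · norm_num at h5
      · exact (LinearMap.BilinForm.nondegenerate_iff_det_ne_zero _).1 (nondegenerate_of (bf_symm hs) (bf_nondeg hu)))
  have h5 : Nat.card {x : {D : ODat F // D.Ok N ∧ K D.a} // (fun _ => False) x} = 0 := by simp
  rw [h5] at h4
  omega

end Count

section Gram

open Cfsg.Agent.H169.OddForms

/-- Gram matrix of the form in odd dimension -/
def gramOdd (n : ℕ) (F : Type*) [Field F] : Matrix (Unit ⊕ (Fin n ⊕ Fin n)) (Unit ⊕ (Fin n ⊕ Fin n)) F :=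
  fromBlocks 2 0 0 (gramPlus n F)

variable {F : Type*} [Field F]

theorem gramOdd_symm (n : ℕ) : (gramOdd n F)ᵀ = gramOdd n F := by
  rw [gramOdd, fromBlocks_transpose, gramPlus_symm]
  congr 1

theorem gramOdd_det (h2 : (2 : F) ≠ 0) (n : ℕ) : (gramOdd n F).det ≠ 0 := by
  rw [gramOdd, det_fromBlocks_zero₁₂]
  refine mul_ne_zero ?_ (gramPlus_det n)
  rw [det_unique]
  exact h2

theorem gramOdd_form (n : ℕ) (v : Unit ⊕ (Fin n ⊕ Fin n) → F) :
    2 * Cfsg.quadFormOdd n F v = v ⬝ᵥ (gramOdd n F *ᵥ v) := by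
  obtain ⟨x, y, rfl⟩ : ∃ (x : Unit → F) (y : Fin n ⊕ Fin n → F), v = Sum.elim x y :=
    ⟨fun i => v (.inl i), fun i => v (.inr i), by ext i; cases i <;> rfl⟩
  have h1 := gramPlus_form n y
  rw [gramOdd, fromBlocks_mulVec]
  simp only [Sum.elim_comp_inl, Sum.elim_comp_inr, zero_mulVec, zero_add, add_zero, Cfsg.quadFormOdd,
    Sum.elim_inl, Sum.elim_inr, sumElim_dotProduct_sumElim]
  rw [← h1, Cfsg.quadFormPlus]
  simp only [dotProduct, mulVec, Finset.univ_unique, Finset.sum_singleton]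
  have h3 : (2 : Matrix Unit Unit F) default default = 2 := rfl
  rw [h3]
  show 2 * (x () ^ 2 + _) = x () * (2 * x ()) + _
  ring

end Gram

end Cfsg.Agent.H170.OddUpper
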