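import Mathlib
import Cfsg.Agent.H170.OddUpper
import Cfsg.Agent.H171.OmegaSplit
import Cfsg.Agent.H173.NumOddMain
import Cfsg.Agent.LieClassical.QuadForms

/-!
# Upper bound for the class number of `Ω(2n+1,q)`, `q` odd
-/

set_option autoImplicit false

namespace Cfsg.Agent.H170.OmegaUpper

open Module Matrix QuadraticMap Cfsg.Agent.H169 Cfsg.Agent.H169.OddGlue Cfsg.Agent.H169.OddCount
  Cfsg.Agent.H170.OddUpper Cfsg.Agent.LieClassical.QuadForms Cfsg.Agent.H171.OmegaSplit

variable {F : Type*} [Field F]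

theorem oddForm_nd (h2 : (2 : F) ≠ 0) (n : ℕ) : (polarBilin (oddForm n F)).Nondegenerate := by
  have hs : ∀ u, (∀ v, polar (oddForm n F) u v = 0) → u = 0 := by
    intro u hu
    refine oddForm_nondeg n u ?_ hu
    have h1 := hu u
    rw [polar_self] at h1
    rw [nsmul_eq_mul] at h1
    push_cast at h1
    exact (mul_eq_zero.1 h1).resolve_left h2
  exact ⟨hs, fun u hu => hs u fun v => by
    rw [polar_comm]
    exact hu v⟩

/-- **`8 k(Ω) ≤ A + 3 B`.** -/
theorem eight_card_le [Fintype F] (h2 : (2 : F) ≠ 0) (n : ℕ) (hn : 1 ≤ n) :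
    8 * Nat.card (ConjClasses (Cfsg.Omega F (Cfsg.quadFormOdd n F))) ≤
      Nat.card {D : ODat F // D.Ok (2 * n + 1)} +
      3 * Nat.card {D : ODat F // D.Ok (2 * n + 1) ∧ D.a true 1 ≤ 1 ∧ D.a false 1 ≤ 1} := by
  classical
  have hfin : Finite {D : ODat F // D.Ok (2 * n + 1)} := H173.NumOdd.finite_odat h2 _
  have hι : Fintype.card (Unit ⊕ (Fin n ⊕ Fin n)) = 2 * n + 1 := by simp; omega
  have hodd : Odd (2 * n + 1) := odd_two_mul_add_one n
  have hform : ∀ v, 2 * oddForm n F v = v ⬝ᵥ (gramOdd n F *ᵥ v) := fun v => by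
    rw [coe_oddForm]
    exact gramOdd_form n v
  have hpol : ∀ u v, bf (gramOdd n F) u v = polar (oddForm n F) u v := by
    intro u v
    apply mul_left_cancel₀ h2
    have e1 := hform (u + v)
    have e2 := hform u
    have e3 := hform v
    rw [← bf_apply] at e1 e2 e3
    rw [map_add (bf (gramOdd n F)), LinearMap.add_apply, map_add (bf (gramOdd n F) u), map_add (bf (gramOdd n F) v),
      bf_symm (gramOdd_symm n) v u] at e1
    rw [polar]
    linear_combination e2 + e3 - e1
  have h1 := four_card_le h2 (oddForm n F) (oddForm_nd h2 n) (by rw [hι]; exact hodd) (by rw [hι]; omega)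
  have h3 := two_card_odd_le h2 hodd hι (gramOdd n F) (gramOdd_symm n) (gramOdd_det h2 n) (oddForm n F) hform
    (fun _ => True) Set.univ (fun c _ => by
      obtain ⟨A, hA⟩ := ConjClasses.exists_rep c
      exact ⟨A, hA, fun _ _ => trivial⟩)
  have h4 := two_card_odd_le h2 hodd hι (gramOdd n F) (gramOdd_symm n) (gramOdd_det h2 n) (oddForm n F) hform
    (fun a => a true 1 ≤ 1 ∧ a false 1 ≤ 1)
    {c | ∀ x, ConjClasses.mk x = c → ¬ Splits (oddForm n F) x} (fun c hc => by
      obtain ⟨A, hA⟩ := ConjClasses.exists_rep c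
      refine ⟨A, hA, fun D hD => ?_⟩
      by_contra hK
      apply hc A hA
      obtain ⟨ε, u, v, hε, hu, hv, huv, huu, hvv⟩ := HasO.exists_pair h2 (bf_symm (gramOdd_symm n))
        (bf_nondeg (gramOdd_det h2 n)) (bf_iso h2 (gramOdd_symm n) hform A) hD (by
          by_contra hc2
          push Not at hc2
          exact hK ⟨by omega, by omega⟩)
      rw [hpol] at huv
      rw [bf_apply, ← hform] at huu hvv
      exact splits_of_pair h2 (right_ne_zero_of_mul huu) (right_ne_zero_of_mul hvv) huv hε hu hv)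
  have e3 : Nat.card (Set.univ : Set (ConjClasses (Cfsg.isometryGroup F (oddForm n F)))) =
      Nat.card (ConjClasses (Cfsg.isometryGroup F (oddForm n F))) := Nat.card_congr (Equiv.Set.univ _)
  have e4 : Nat.card {D : ODat F // D.Ok (2 * n + 1) ∧ True} = Nat.card {D : ODat F // D.Ok (2 * n + 1)} :=
    Nat.card_congr (Equiv.subtypeEquivRight fun D => by simp)
  rw [e3, e4] at h3
  rw [← coe_oddForm]
  have h6 : Nat.card {c : ConjClasses (Cfsg.isometryGroup F (oddForm n F)) //
        ∀ x, ConjClasses.mk x = c → ¬ Splits (oddForm n F) x} =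
      Nat.card ({c | ∀ x, ConjClasses.mk x = c → ¬ Splits (oddForm n F) x} :
        Set (ConjClasses (Cfsg.isometryGroup F (oddForm n F)))) := rfl
  omega

end Cfsg.Agent.H170.OmegaUpper
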