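import Mathlib
import Cfsg.Agent.H170.RestrTab

/-!
# The count for `q = 3`

`card_restr` : at most `10 * 3 ^ n` data of dimension `2 n + 1` have at most one Jordan block of size one for each of
the eigenvalues `± 1`.
-/

set_option autoImplicit false

namespace Cfsg.Agent.H170.Restr

open Cfsg.Agent.H169 Cfsg.Agent.H171 Cfsg.Agent.H173.NumOdd

section Phi

theorem tail_ineq {ρ x : ℝ} (h0 : 0 < ρ) (hρ : ρ ≤ 2 / 3) (hx0 : 0 ≤ x) (hx : x ≤ 1 / 600) :
    (1 + x) ^ 4 * (1 + 13 * (ρ * x)) ≤ (1 + 13 * x) * (1 - 3 * x ^ 2) := by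
  have h1 : (1 + x) ^ 4 ≤ 1 + 4 * x + 7 * x ^ 2 := by
    nlinarith [mul_nonneg hx0 hx0, mul_nonneg (mul_nonneg hx0 hx0) hx0, mul_nonneg (mul_nonneg hx0 hx0) (sub_nonneg.2 hx)]
  have h2 : ρ * x ≤ 2 / 3 * x := mul_le_mul_of_nonneg_right hρ hx0
  calc (1 + x) ^ 4 * (1 + 13 * (ρ * x)) ≤ (1 + 4 * x + 7 * x ^ 2) * (1 + 13 * (2 / 3 * x)) := by
        gcongr
    _ ≤ _ := by nlinarith [mul_nonneg hx0 hx0, mul_nonneg (mul_nonneg hx0 hx0) hx0, mul_nonneg hx0 (sub_nonneg.2 hx),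
        mul_nonneg (mul_nonneg hx0 hx0) (sub_nonneg.2 hx)]

theorem fac_le {ρ : ℝ} (h0 : 0 < ρ) (J : ℕ) (h : 0 < 1 - 3 * (ρ ^ 2) ^ J) :
    fac ρ J ≤ (1 + ρ ^ J) ^ 4 / (1 - 3 * (ρ ^ 2) ^ J) := by
  rw [fac]
  gcongr
  split_ifs
  · exact le_rfl
  · have : 0 < ρ ^ J := by positivity
    exact one_le_pow₀ (by linarith)

theorem one_le_fac {ρ : ℝ} (h0 : 0 < ρ) (h1 : 3 * (ρ ^ 2) ^ 2 < 1) {J : ℕ} (hJ : 2 ≤ J) : 1 ≤ fac ρ J := by
  have h := one_sub_pos h0 h1 hJ
  rw [fac, le_div_iff₀ h, one_mul]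
  have h3 : 0 < (ρ ^ 2) ^ J := by positivity
  have h4 : 0 < ρ ^ J := by positivity
  split_ifs
  · have : 1 ≤ (1 + ρ ^ J) ^ 4 := one_le_pow₀ (by linarith)
    linarith
  · linarith

theorem phi_mono {ρ c : ℝ} (h0 : 0 < ρ) (h1 : 3 * (ρ ^ 2) ^ 2 < 1) (hc : 0 ≤ c) {k l : ℕ} (hkl : k ≤ l) :
    phi ρ c k ≤ phi ρ c l := by
  induction l, hkl using Nat.le_induction with
  | base => exact le_rfl
  | succ l _ ih =>
    refine ih.trans ?_
    rw [phi]
    have h2 := phi_nonneg h0 h1 hc l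
    have h3 := one_le_fac h0 h1 (J := l + 2) (by omega)
    nlinarith

theorem phi_le {ρ c C : ℝ} (h0 : 0 < ρ) (hρ : ρ ≤ 2 / 3) (hc : 0 ≤ c) (hx : ρ ^ 16 ≤ 1 / 600)
    (hC : phi ρ c 14 * (1 + 13 * ρ ^ 16) ≤ C) (k : ℕ) : phi ρ c k ≤ C := by
  have h1 : 3 * (ρ ^ 2) ^ 2 < 1 := by
    have : ρ ^ 2 ≤ (2 / 3) ^ 2 := pow_le_pow_left₀ h0.le hρ 2
    have h2 : 0 ≤ ρ ^ 2 := by positivity
    nlinarith
  have key : ∀ k, 14 ≤ k → phi ρ c k * (1 + 13 * ρ ^ (k + 2)) ≤ C := by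
    intro k hk
    induction k, hk using Nat.le_induction with
    | base => exact hC
    | succ k hk ih =>
      refine le_trans ?_ ih
      have hpos := one_sub_pos h0 h1 (J := k + 2) (by omega)
      have h3 := fac_le h0 (k + 2) hpos
      have hxk : ρ ^ (k + 2) ≤ 1 / 600 := (pow_le_pow_of_le_one h0.le (by linarith) (by omega)).trans hx
      have hxk0 : 0 < ρ ^ (k + 2) := by positivity
      have h4 := tail_ineq h0 hρ hxk0.le hxk
      have h5 := phi_nonneg h0 h1 hc k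
      have e1 : (ρ ^ 2) ^ (k + 2) = (ρ ^ (k + 2)) ^ 2 := by rw [← pow_mul, ← pow_mul, mul_comm]
      have e2 : ρ ^ (k + 1 + 2) = ρ * ρ ^ (k + 2) := by ring
      rw [phi, e2]
      rw [e1] at h3 hpos
      calc phi ρ c k * fac ρ (k + 2) * (1 + 13 * (ρ * ρ ^ (k + 2)))
          ≤ phi ρ c k * ((1 + ρ ^ (k + 2)) ^ 4 / (1 - 3 * (ρ ^ (k + 2)) ^ 2)) * (1 + 13 * (ρ * ρ ^ (k + 2))) := by
            gcongr
        _ = phi ρ c k * (((1 + ρ ^ (k + 2)) ^ 4 * (1 + 13 * (ρ * ρ ^ (k + 2)))) / (1 - 3 * (ρ ^ (k + 2)) ^ 2)) := by ring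
        _ ≤ phi ρ c k * (1 + 13 * ρ ^ (k + 2)) := by
            apply mul_le_mul_of_nonneg_left _ h5
            rw [div_le_iff₀ hpos]
            exact h4
  have h2 := key (max k 14) (le_max_right _ _)
  have h3 := phi_mono h0 h1 hc (le_max_left k 14)
  have h4 := phi_nonneg h0 h1 hc (max k 14)
  have h5 : 0 ≤ phi ρ c (max k 14) * (13 * ρ ^ (max k 14 + 2)) := by positivity
  nlinarith

theorem phi_main (k : ℕ) : phi (5774 / 10000) (28 / 27) k ≤ 5464 / 1000 := by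
  apply phi_le (by norm_num) (by norm_num) (by norm_num) (by norm_num)
  norm_num [phi, fac]

theorem phi_sec (k : ℕ) : phi (2 / 3) (3 / 2) k ≤ 442 / 10 := by
  apply phi_le (by norm_num) (by norm_num) (by norm_num) (by norm_num)
  norm_num [phi, fac]

end Phi

section Final

variable {F : Type*} [Field F] [Finite F]

theorem sqrt_three_ge : (1732 / 1000 : ℝ) ≤ Real.sqrt 3 := by
  apply Real.le_sqrt_of_sq_le
  norm_num

theorem sqrt_three_le : Real.sqrt 3 ≤ 1733 / 1000 := by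
  rw [Real.sqrt_le_left (by norm_num)]
  norm_num

theorem sqrt_pow_even (m : ℕ) : Real.sqrt 3 ^ (2 * m) = 3 ^ m := by
  rw [pow_mul, Real.sq_sqrt (by norm_num)]

theorem sqrt_pow_odd (m : ℕ) : Real.sqrt 3 ^ (2 * m + 1) = 3 ^ m * Real.sqrt 3 := by
  rw [pow_succ, sqrt_pow_even]

theorem b1_le (N : ℕ) : (b1 N : ℝ) ≤ 28 / 27 * Real.sqrt 3 ^ N + 3 / 2 * (3 / 2) ^ N := by
  have hs := sqrt_three_ge
  have hs' := sqrt_three_le
  rcases Nat.even_or_odd' N with ⟨m, rfl | rfl⟩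
  · have hb : b1 (2 * m) = pd m + (if 2 ≤ 2 * m then 4 * pd (m - 1) else 0) := by
      rw [b1, if_pos (by omega), show 2 * m / 2 = m by omega]
    rw [hb, sqrt_pow_even]
    have h0 : (0 : ℝ) < (3 / 2) ^ (2 * m) := by positivity
    rcases m with _ | _ | _ | m
    · norm_num [pd]
    · norm_num [pd]
    · norm_num [pd]
    · rw [if_pos (by omega)]
      show ((4 * 3 ^ (m + 1) + 4 * (4 * 3 ^ m) : ℕ) : ℝ) ≤ _
      push_cast
      have e : (3 : ℝ) ^ (m + 1 + 1 + 1) = 27 * 3 ^ m := by ring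
      have e2 : (3 : ℝ) ^ (m + 1) = 3 * 3 ^ m := by ring
      rw [e, e2]
      linarith
  · have hb : b1 (2 * m + 1) = 4 * pd m := by
      rw [b1, if_neg (by omega), show (2 * m + 1) / 2 = m by omega]
    rw [hb, sqrt_pow_odd]
    have h0 : (0 : ℝ) < (3 / 2) ^ (2 * m + 1) := by positivity
    rcases m with _ | _ | m
    · norm_num [pd]
      linarith
    · norm_num [pd]
      linarith
    · show ((4 * (4 * 3 ^ m) : ℕ) : ℝ) ≤ _
      push_cast
      have e : (3 : ℝ) ^ (m + 1 + 1) = 9 * 3 ^ m := by ring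
      rw [e]
      have h3 : (0 : ℝ) < 3 ^ m := by positivity
      nlinarith

/-- **The count, `q = 3`.** -/
theorem card_restr (h3 : Nat.card F = 3) (n : ℕ) :
    100 * Nat.card {D : ODat F // D.Ok (2 * n + 1) ∧ D.a true 1 ≤ 1 ∧ D.a false 1 ≤ 1} ≤ 1000 * 3 ^ n := by
  have hfin := Fintype.ofFinite F
  have h2 : (2 : F) ≠ 0 := by
    intro h0
    have h30 : (3 : F) = 0 := by
      have := Nat.cast_card_eq_zero F
      rw [← Nat.card_eq_fintype_card, h3] at this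
      exact_mod_cast this
    apply one_ne_zero (α := F)
    linear_combination h30 - h0
  have hsub : Nat.card {D : ODat F // D.Ok (2 * n + 1) ∧ D.a true 1 ≤ 1 ∧ D.a false 1 ≤ 1} ≤
      (T F (2 * n + 2) (2 * n + 1)).ncard := by
    have e : {D : ODat F | D.Ok (2 * n + 1) ∧ D.a true 1 ≤ 1 ∧ D.a false 1 ≤ 1} ⊆ T F (2 * n + 2) (2 * n + 1) :=
      fun D hD => ⟨Pdo.of_ok hD.1 (by omega), hD.2.1, hD.2.2⟩
    have e2 := Set.ncard_le_ncard e (T_finite h2 _ _)
    rw [← Nat.card_coe_set_eq] at e2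
    exact e2
  have H : ∀ J, 2 ≤ J → ∀ N, (T F (J + 1) N).ncard ≤ conv J (G J (fun m => (T F J m).ncard)) N :=
    fun J hJ N => step h2 h3 hJ N
  rcases Nat.lt_or_ge n 17 with hn | hn
  · have h4 := num_bound (fun J N => (T F J N).ncard) H (fun J N => (tb (J - 2) N : ℝ)) 34 34
      (fun N hN => by exact_mod_cast (base h3 N).trans (tab_base N hN)) (fun J hJ hJM N hN => by
        obtain ⟨k, rfl⟩ : ∃ k, J = k + 2 := ⟨J - 2, by omega⟩
        have h5 := tab_step k (by omega) N hN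
        rw [show k + 2 - 2 = k by omega, show k + 2 + 1 - 2 = k + 1 by omega]
        have e : GR (k + 2) (fun N => (tb k N : ℝ)) N = (G (k + 2) (tb k) N : ℝ) := by
          rw [GR, G]
          have e1 : ∀ τ, termR (fun N => (tb k N : ℝ)) (k + 2) τ N = (term (tb k) (k + 2) τ N : ℝ) := by
            intro τ
            rw [termR, term]
            split_ifs <;> simp
          split_ifs
          · rw [e1, e1, e1, e1, e1]
            push_cast
            ring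
          · rfl
        rw [e]
        exact_mod_cast h5) (2 * n + 2) (by omega) (by omega) (2 * n + 1) (by omega)
    have h5 : (T F (2 * n + 2) (2 * n + 1)).ncard ≤ tb (2 * n) (2 * n + 1) := by
      have : ((T F (2 * n + 2) (2 * n + 1)).ncard : ℝ) ≤ (tb (2 * n + 2 - 2) (2 * n + 1) : ℝ) := h4
      rw [show 2 * n + 2 - 2 = 2 * n by omega] at this
      exact_mod_cast this
    have h6 := tab_final n hn
    omega
  · have h4 := bound_two (fun J N => (T F J N).ncard) H (ρ := 5774 / 10000) (w := Real.sqrt 3) (c := 28 / 27)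
      (ρ' := 2 / 3) (w' := 3 / 2) (c' := 3 / 2) (by norm_num) (by norm_num) (by norm_num) (by positivity)
      (by
        have : Real.sqrt 3 * Real.sqrt 3 = 3 := Real.mul_self_sqrt (by norm_num)
        have h5 := sqrt_three_ge
        by_contra hc
        push Not at hc
        have h6 : 0 ≤ 5774 / 10000 * Real.sqrt 3 := by positivity
        nlinarith)
      (by norm_num) (by norm_num) (by norm_num) (by norm_num) (by norm_num)
      (fun N => (Nat.cast_le.2 (base h3 N)).trans (b1_le N)) (2 * n) (2 * n + 1)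
    have m1 := phi_main (2 * n)
    have m2 := phi_sec (2 * n)
    rw [sqrt_pow_odd] at h4
    have hs' := sqrt_three_le
    have e1 : ((3 / 2 : ℝ)) ^ (2 * n + 1) = 3 / 2 * ((9 / 4) ^ n) := by
      rw [pow_succ, pow_mul]
      norm_num
      ring
    rw [e1] at h4
    have e2 : ((9 / 4 : ℝ)) ^ n ≤ 76 / 10000 * 3 ^ n := by
      have e3 : ((9 / 4 : ℝ)) ^ n = (3 / 4) ^ n * 3 ^ n := by
        rw [← mul_pow]
        norm_num
      rw [e3]
      apply mul_le_mul_of_nonneg_right _ (by positivity)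
      calc ((3 / 4 : ℝ)) ^ n ≤ (3 / 4) ^ 17 := pow_le_pow_of_le_one (by norm_num) (by norm_num) hn
        _ ≤ 76 / 10000 := by norm_num
    have h30 : (0 : ℝ) < 3 ^ n := by positivity
    have h94 : (0 : ℝ) < (9 / 4) ^ n := by positivity
    have p1 : phi (5774 / 10000) (28 / 27) (2 * n) * (3 ^ n * Real.sqrt 3) ≤
        5464 / 1000 * (3 ^ n * (1733 / 1000)) := by
      gcongr
    have p2 : phi (2 / 3) (3 / 2) (2 * n) * (3 / 2 * (9 / 4) ^ n) ≤ 442 / 10 * (3 / 2 * (76 / 10000 * 3 ^ n)) := by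
      gcongr
    have h7 : ((T F (2 * n + 2) (2 * n + 1)).ncard : ℝ) ≤ 10 * 3 ^ n := by
      refine h4.trans ?_
      linarith
    have h8 : (T F (2 * n + 2) (2 * n + 1)).ncard ≤ 10 * 3 ^ n := by exact_mod_cast h7
    omega

end Final

end Cfsg.Agent.H170.Restr
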