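import Mathlib
import Cfsg.Agent.H171.Palin

/-!
# Palindromic polynomials over the field with three elements without roots `± 1`
-/

set_option autoImplicit false

namespace Cfsg.Agent.H170.Restr

open Polynomial Cfsg.Agent.H171

variable {F : Type*} [Field F]

/-- palindromic of degree `2 d` without roots `± 1` -/
def PP (F : Type*) [Field F] (d : ℕ) : Set F[X] :=
  {f | Pal f ∧ f.eval 1 ≠ 0 ∧ f.eval (-1) ≠ 0 ∧ f.natDegree = 2 * d}

/-- the bound -/
def pd : ℕ → ℕ
  | 0 => 1
  | 1 => 1
  | d + 2 => 4 * 3 ^ d

theorem coeff_symm {f : F[X]} (hf : Pal f) {d : ℕ} (hd : f.natDegree = 2 * d) {i : ℕ} (hi : i ≤ 2 * d) :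
    f.coeff (2 * d - i) = f.coeff i := by
  have := hf.coeff (i := i) (by omega)
  rwa [hd] at this

/-- a palindromic polynomial is determined by `c_1, …, c_{d-2}` and the values at `± 1` -/
theorem eq_of_data (h2 : (2 : F) ≠ 0) {f g : F[X]} {d : ℕ} (hf : Pal f) (hg : Pal g) (hfd : f.natDegree = 2 * (d + 2))
    (hgd : g.natDegree = 2 * (d + 2)) (hc : ∀ i < d, f.coeff (i + 1) = g.coeff (i + 1)) (h1 : f.eval 1 = g.eval 1)
    (hm1 : f.eval (-1) = g.eval (-1)) : f = g := by
  have hlow : ∀ i ≤ d, f.coeff i = g.coeff i := by
    intro i hi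
    rcases Nat.eq_zero_or_pos i with rfl | h0
    · rw [hf.coeff_zero, hg.coeff_zero]
    · obtain ⟨j, rfl⟩ : ∃ j, i = j + 1 := ⟨i - 1, by omega⟩
      exact hc j (by omega)
  have hh : f - g = C (f.coeff (d + 1) - g.coeff (d + 1)) * (X ^ (d + 1) + X ^ (d + 3)) +
      C (f.coeff (d + 2) - g.coeff (d + 2)) * X ^ (d + 2) := by
    ext i
    rw [coeff_sub, coeff_add, coeff_C_mul, coeff_C_mul, coeff_add, coeff_X_pow, coeff_X_pow, coeff_X_pow]
    rcases lt_or_ge (2 * (d + 2)) i with hi | hi
    · rw [coeff_eq_zero_of_natDegree_lt (by omega), coeff_eq_zero_of_natDegree_lt (by omega), if_neg (by omega),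
        if_neg (by omega), if_neg (by omega)]
      ring
    · by_cases e1 : i = d + 1
      · rw [if_pos e1, if_neg (by omega), if_neg (by omega), e1]
        ring
      · by_cases e2 : i = d + 2
        · rw [if_neg (by omega), if_neg (by omega), if_pos e2, e2]
          ring
        · by_cases e3 : i = d + 3
          · rw [if_neg (by omega), if_pos e3, if_neg (by omega), e3]
            have k1 := coeff_symm hf hfd (i := d + 1) (by omega)
            have k2 := coeff_symm hg hgd (i := d + 1) (by omega)
            rw [show 2 * (d + 2) - (d + 1) = d + 3 by omega] at k1 k2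
            rw [k1, k2]
            ring
          · rw [if_neg e1, if_neg e2, if_neg e3]
            rcases le_or_gt i d with hid | hid
            · rw [hlow i hid]
              ring
            · have k1 := coeff_symm hf hfd (i := 2 * (d + 2) - i) (by omega)
              have k2 := coeff_symm hg hgd (i := 2 * (d + 2) - i) (by omega)
              rw [show 2 * (d + 2) - (2 * (d + 2) - i) = i by omega] at k1 k2
              rw [k1, k2, hlow _ (by omega)]
              ring
  set a := f.coeff (d + 1) - g.coeff (d + 1)
  set b := f.coeff (d + 2) - g.coeff (d + 2)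
  have e1 : a * 2 + b = 0 := by
    have := congrArg (eval 1) hh
    rw [eval_sub, h1, sub_self] at this
    simp only [eval_add, eval_mul, eval_C, eval_pow, eval_X, one_pow, mul_one] at this
    linear_combination -this
  have e2 : a * 2 - b = 0 := by
    have := congrArg (eval (-1)) hh
    rw [eval_sub, hm1, sub_self] at this
    simp only [eval_add, eval_mul, eval_C, eval_pow, eval_X] at this
    have e3 : ((-1 : F)) ^ (d + 1) * (a * 2 - b) = 0 := by
      rw [show ((-1 : F)) ^ (d + 3) = (-1) ^ (d + 1) by ring, show ((-1 : F)) ^ (d + 2) = -(-1) ^ (d + 1) by ring] at this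
      linear_combination -this
    exact (mul_eq_zero.1 e3).resolve_left (pow_ne_zero _ (by simp))
  have hb : b = 0 := by
    have : b * 2 = 0 := by linear_combination e1 - e2
    exact (mul_eq_zero.1 this).resolve_right h2
  have ha : a = 0 := by
    have : a * 2 = 0 := by linear_combination e1 - hb
    exact (mul_eq_zero.1 this).resolve_right h2
  rw [ha, hb, C_0, zero_mul, zero_mul, add_zero] at hh
  exact sub_eq_zero.1 hh

theorem PP_finite [Finite F] (d : ℕ) : (PP F d).Finite := by
  have h : {f : F[X] | Pal f ∧ f.natDegree = 2 * d}.Finite := finite_pal F d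
  exact h.subset fun f hf => ⟨hf.1, hf.2.2.2⟩

/-- **The count, `q = 3`.** -/
theorem PP_ncard [Finite F] (h : Nat.card F = 3) (d : ℕ) : (PP F d).ncard ≤ pd d := by
  classical
  have hfin := Fintype.ofFinite F
  have h3 : Fintype.card F = 3 := by rwa [Nat.card_eq_fintype_card] at h
  have h30 : (3 : F) = 0 := by
    have := Nat.cast_card_eq_zero F
    rw [h3] at this
    exact_mod_cast this
  have h2 : (2 : F) ≠ 0 := by
    intro h0
    apply one_ne_zero (α := F)
    linear_combination h30 - h0
  have hunits : Nat.card Fˣ = 2 := by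
    rw [Nat.card_eq_fintype_card, Fintype.card_units, h3]
  rcases d with _ | _ | d
  · show _ ≤ 1
    rw [Set.ncard_le_one (PP_finite 0)]
    intro f hf g hg
    rw [hf.1.1.natDegree_eq_zero.1 (by simpa using hf.2.2.2), hg.1.1.natDegree_eq_zero.1 (by simpa using hg.2.2.2)]
  · show _ ≤ 1
    rw [Set.ncard_le_one (PP_finite 1)]
    have key : ∀ f ∈ PP F 1, f = X ^ 2 + 1 := by
      rintro f ⟨hf, h1, hm1, hd⟩
      have hc0 := hf.coeff_zero
      have hc2 : f.coeff 2 = 1 := by
        have := hf.1.coeff_natDegree
        rwa [hd] at this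
      have hf2 : f = X ^ 2 + C (f.coeff 1) * X + 1 := by
        ext i
        rcases i with _ | _ | _ | i
        · simp [hc0]
        · simp [coeff_one]
        · simp [hc2, coeff_one]
        · rw [coeff_eq_zero_of_natDegree_lt (by omega)]
          simp [coeff_one]
      rw [hf2] at h1 hm1
      simp only [eval_add, eval_mul, eval_pow, eval_X, eval_C, eval_one] at h1 hm1
      have hc : f.coeff 1 = 0 := by
        have hall : ∀ c : F, c = 0 ∨ c = 1 ∨ c = -1 := by
          have hcard : ({0, 1, -1} : Finset F).card = 3 := by
            have e1 : (0 : F) ≠ 1 := zero_ne_one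
            have e2 : (0 : F) ≠ -1 := fun h => e1 (by linear_combination -h)
            have e3 : (1 : F) ≠ -1 := fun h => h2 (by linear_combination h)
            rw [Finset.card_insert_of_notMem (by simp), Finset.card_insert_of_notMem (by simpa using e3),
              Finset.card_singleton]
          have huniv : ({0, 1, -1} : Finset F) = Finset.univ :=
            Finset.eq_univ_of_card _ (by rw [hcard, h3])
          intro c
          have : c ∈ ({0, 1, -1} : Finset F) := by rw [huniv]; exact Finset.mem_univ _
          simpa using this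
        rcases hall (f.coeff 1) with hc | hc | hc
        · exact hc
        · exfalso
          apply h1
          rw [hc]
          linear_combination h30
        · exfalso
          apply hm1
          rw [hc]
          linear_combination h30
      rw [hf2, hc]
      simp
    intro f hf g hg
    rw [key f hf, key g hg]
  · show (PP F (d + 2)).ncard ≤ 4 * 3 ^ d
    have hinj := Nat.card_le_card_of_injective
      (fun f : PP F (d + 2) => (((fun i : Fin d => (f : F[X]).coeff (i + 1)), Units.mk0 _ f.2.2.1,
        Units.mk0 _ f.2.2.2.1) : (Fin d → F) × Fˣ × Fˣ)) (by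
        rintro ⟨f, hf⟩ ⟨g, hg⟩ hfg
        simp only [Prod.mk.injEq] at hfg
        apply Subtype.ext
        refine eq_of_data h2 hf.1 hg.1 hf.2.2.2 hg.2.2.2 (fun i hi => congrFun hfg.1 ⟨i, hi⟩) ?_ ?_
        · exact congrArg Units.val hfg.2.1
        · exact congrArg Units.val hfg.2.2)
    rw [Nat.card_coe_set_eq, Nat.card_prod, Nat.card_prod, hunits, Nat.card_fun, h, Nat.card_fin] at hinj
    omega

end Cfsg.Agent.H170.Restr
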