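import Mathlib
import Cfsg.Agent.H170.RestrPal
import Cfsg.Agent.H173.NumOddMain

/-!
# Data with at most one Jordan block of size one for each of the eigenvalues `± 1`: recursion

`T F J N` : data on the levels `< J` of dimension `N`; `base` : the level one; `step` : the recursion.
-/

set_option autoImplicit false

namespace Cfsg.Agent.H170.Restr

open Polynomial Cfsg.Agent.H171 Cfsg.Agent.H169 Cfsg.Agent.H173.Num Cfsg.Agent.H173.NumOdd

variable {F : Type*} [Field F]

/-- restricted data -/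
def T (F : Type*) [Field F] (J N : ℕ) : Set (ODat F) := {D | Pdo J N D ∧ D.a true 1 ≤ 1 ∧ D.a false 1 ≤ 1}

theorem reso_a_one {J : ℕ} (hJ : 2 ≤ J) (D : ODat F) (e : Bool) : (reso J D).a e 1 = D.a e 1 := by
  have h : (1 : ℕ) ≠ J := by omega
  simp [reso, updo, h]

/-- total shift -/
def tau (x : Fin 4 × Fin 4) : ℕ := (opt x.1).1 + (opt x.2).1

theorem step_sub_odd {J : ℕ} (hJ2 : 2 ≤ J) (N : ℕ) : T F (J + 1) N ⊆ ⋃ x : Fin 4 × Fin 4,
    StepG (Triples F) (T F J) (reco J x.1 x.2) (2 * J) (J * tau x) N := by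
  rintro D ⟨hD, ht, hf⟩
  obtain ⟨m, hm, hsz⟩ := hD.reso
  obtain ⟨i, α, hi, hi'⟩ := exists_opt (D.a true J) (D.s true J) fun h => (hD.s_imp _ _ h).2
  obtain ⟨k, β, hk, hk'⟩ := exists_opt (D.a false J) (D.s false J) fun h => (hD.s_imp _ _ h).2
  obtain ⟨r, hr⟩ := hD.even J
  simp only [Set.mem_iUnion]
  refine ⟨(i, k), r + α + β, m, ?_, reso J D, ⟨hm, ?_, ?_⟩, (D.f J, α, β),
    ⟨hD.pal J, hD.one J, hD.neg_one J, ?_⟩, ?_⟩
  · rw [hi, hk, hr] at hsz
    rw [← hsz, tau]
    dsimp only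
    ring
  · rw [reso_a_one hJ2]
    exact ht
  · rw [reso_a_one hJ2]
    exact hf
  · dsimp only
    omega
  · have := eq_updo_reso J D
    rw [hi, hk, hi', hk'] at this
    exact this

theorem step_sub_even {J : ℕ} (hJ2 : 2 ≤ J) (hJ : Even J) (N : ℕ) : T F (J + 1) N ⊆
    StepG (Triples F) (T F J) (reco J 0 0) (2 * J) 0 N := by
  rintro D ⟨hD, ht, hf⟩
  obtain ⟨m, hm, hsz⟩ := hD.reso
  have hs : ∀ e, D.s e J = false := fun e => by
    by_contra h
    have := (hD.s_imp e J (by simpa using h)).1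
    rw [← Nat.not_even_iff_odd] at this
    exact this hJ
  obtain ⟨α, hα⟩ := hD.a_even true J hJ
  obtain ⟨β, hβ⟩ := hD.a_even false J hJ
  obtain ⟨r, hr⟩ := hD.even J
  refine ⟨r + α + β, m, ?_, reso J D, ⟨hm, ?_, ?_⟩, (D.f J, α, β),
    ⟨hD.pal J, hD.one J, hD.neg_one J, ?_⟩, ?_⟩
  · rw [hα, hβ, hr] at hsz
    rw [← hsz]
    ring
  · rw [reso_a_one hJ2]
    exact ht
  · rw [reso_a_one hJ2]
    exact hf
  · dsimp only
    omega
  · have := eq_updo_reso J D
    rw [hα, hβ, hs, hs] at this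
    unfold reco opt
    dsimp only
    simpa [two_mul] using this

theorem sum_opt (f : ℕ → ℕ) : ∑ x : Fin 4 × Fin 4, f (tau x) = f 0 + 4 * f 1 + 6 * f 2 + 4 * f 3 + f 4 := by
  rw [Fintype.sum_prod_type]
  simp only [Fin.sum_univ_four, tau, opt, Matrix.cons_val_zero, Matrix.cons_val_one, Matrix.cons_val]
  ring

/-- one term -/
def term (t : ℕ → ℕ) (J τ N : ℕ) : ℕ := if J * τ ≤ N then t (N - J * τ) else 0

/-- the contribution of the signed blocks of level `J` -/
def G (J : ℕ) (t : ℕ → ℕ) (N : ℕ) : ℕ :=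
  if J % 2 = 1 then term t J 0 N + 4 * term t J 1 N + 6 * term t J 2 N + 4 * term t J 3 N + term t J 4 N else t N

section Finite

variable [Finite F]

theorem T_finite (h2 : (2 : F) ≠ 0) (J N : ℕ) : (T F J N).Finite := by
  have h1 : {D : ODat F | D.Ok N}.Finite := finite_odat h2 N
  apply Set.Finite.subset (s := {D : ODat F | Pdo J N D})
  · by_cases hJ : J ≤ N
    · refine h1.subset fun D (hD : Pdo J N D) => ?_
      refine ⟨fun j => (hD.pal j).1, fun j => (hD.pal j).2, hD.one, hD.neg_one, hD.even, hD.zero,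
        fun j hj => hD.big j (by omega), hD.a_even, hD.s_imp, ?_⟩
      rw [← Finset.sum_subset (Finset.range_mono (show J ≤ N + 1 by omega))]
      · exact hD.size
      · intro j _ hj
        have := hD.big j (by simpa using hj)
        rw [this.1, this.2, this.2]
        simp
    · refine h1.subset fun D (hD : Pdo J N D) => ?_
      have key : ∀ j, N < j → D.f j = 1 ∧ ∀ e, D.a e j = 0 := by
        intro j hj
        by_cases hjJ : J ≤ j
        · exact hD.big j hjJ
        · have h3 : j * ((D.f j).natDegree + D.a true j + D.a false j) ≤ N := by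
            rw [← hD.size]
            exact Finset.single_le_sum (f := fun j => j * ((D.f j).natDegree + D.a true j + D.a false j))
              (fun _ _ => Nat.zero_le _) (Finset.mem_range.2 (by omega))
          have h4 : (D.f j).natDegree + D.a true j + D.a false j = 0 := by
            by_contra h5
            have : j * 1 ≤ j * ((D.f j).natDegree + D.a true j + D.a false j) := Nat.mul_le_mul_left _ (by omega)
            omega
          refine ⟨(hD.pal j).1.natDegree_eq_zero.1 (by omega), fun e => ?_⟩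
          cases e <;> omega
      refine ⟨fun j => (hD.pal j).1, fun j => (hD.pal j).2, hD.one, hD.neg_one, hD.even, hD.zero, key, hD.a_even,
        hD.s_imp, ?_⟩
      have h3 := hD.size
      rw [← Finset.sum_subset (Finset.range_mono (show N + 1 ≤ J by omega))] at h3
      · exact h3
      · intro j _ hj
        have := key j (by simpa using hj)
        rw [this.1, this.2, this.2]
        simp
  · exact fun D hD => hD.1

/-- **the recursion** -/
theorem step (h2 : (2 : F) ≠ 0) (h3 : Nat.card F = 3) {J : ℕ} (hJ : 2 ≤ J) (N : ℕ) :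
    (T F (J + 1) N).ncard ≤ ∑ d ∈ Finset.range (N + 1),
      if 2 * J * d ≤ N then 3 ^ d * G J (fun m => (T F J m).ncard) (N - 2 * J * d) else 0 := by
  classical
  have hP := triples (F := F) h2
  rw [h3] at hP
  have hfin : ∀ m, (T F J m).Finite := fun m => T_finite h2 J m
  rcases Nat.even_or_odd J with he | ho
  · have hsub := step_sub_even (F := F) hJ he N
    refine (Set.ncard_le_ncard hsub (stepG_finite (fun d => (hP d).1) hfin _ _ _ _ (by omega))).trans ?_
    refine (stepG_ncard hP hfin (reco J 0 0) (2 * J) 0 N (by omega)).trans (Finset.sum_le_sum fun d _ => ?_)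
    rw [add_zero]
    split_ifs with h
    · rw [G, if_neg (by rw [Nat.even_iff] at he; omega), mul_comm]
    · exact le_rfl
  · have hsub := step_sub_odd (F := F) hJ N
    have hf2 : ∀ x : Fin 4 × Fin 4, (StepG (Triples F) (T F J) (reco J x.1 x.2) (2 * J) (J * tau x) N).Finite :=
      fun x => stepG_finite (fun d => (hP d).1) hfin _ _ _ _ (by omega)
    refine (Set.ncard_le_ncard hsub (Set.finite_iUnion hf2)).trans ?_
    have e1 : (⋃ x : Fin 4 × Fin 4, StepG (Triples F) (T F J) (reco J x.1 x.2) (2 * J) (J * tau x) N) =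
        ⋃ x ∈ (Finset.univ : Finset (Fin 4 × Fin 4)), StepG (Triples F) (T F J) (reco J x.1 x.2) (2 * J) (J * tau x) N := by
      simp
    rw [e1]
    refine (Finset.set_ncard_biUnion_le _ _).trans ?_
    refine (Finset.sum_le_sum fun x _ => stepG_ncard hP hfin (reco J x.1 x.2) (2 * J) (J * tau x) N (by omega)).trans ?_
    rw [Finset.sum_comm]
    refine Finset.sum_le_sum fun d _ => ?_
    by_cases h : 2 * J * d ≤ N
    · rw [if_pos h, G, if_pos (by rw [Nat.odd_iff] at ho; exact ho),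
        ← sum_opt fun τ => term (fun m => (T F J m).ncard) J τ (N - 2 * J * d), Finset.mul_sum]
      refine Finset.sum_le_sum fun x _ => ?_
      rw [term]
      split_ifs with h4 h5 h5
      · rw [mul_comm, show N - (2 * J * d + J * tau x) = N - 2 * J * d - J * tau x by omega]
      · omega
      · omega
      · omega
    · rw [if_neg h]
      refine le_of_eq (Finset.sum_eq_zero fun x _ => ?_)
      rw [if_neg (by omega)]

/-- options at level one -/
def opt1 : Fin 3 → ℕ × Bool := ![(0, false), (1, false), (1, true)]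

theorem exists_opt1 (A : ℕ) (s : Bool) (hs : s = true → 0 < A) (hA : A ≤ 1) :
    ∃ i : Fin 3, A = (opt1 i).1 ∧ s = (opt1 i).2 := by
  interval_cases A
  · cases s
    · exact ⟨0, rfl, rfl⟩
    · exact absurd (hs rfl) (lt_irrefl _)
  · cases s
    · exact ⟨1, rfl, rfl⟩
    · exact ⟨2, rfl, rfl⟩

/-- shift at level one -/
def tau1 (x : Fin 3 × Fin 3) : ℕ := (opt1 x.1).1 + (opt1 x.2).1

theorem sum_opt1 (f : ℕ → ℕ) : ∑ x : Fin 3 × Fin 3, f (tau1 x) = f 0 + 4 * f 1 + 4 * f 2 := by
  rw [Fintype.sum_prod_type]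
  simp only [Fin.sum_univ_three, tau1, opt1, Matrix.cons_val_zero, Matrix.cons_val_one, Matrix.cons_val]
  ring

/-- the numbers at level one -/
def b1 (N : ℕ) : ℕ := if N % 2 = 0 then pd (N / 2) + (if 2 ≤ N then 4 * pd (N / 2 - 1) else 0) else 4 * pd (N / 2)

/-- **level one** -/
theorem base (h3 : Nat.card F = 3) (N : ℕ) : (T F 2 N).ncard ≤ b1 N := by
  classical
  let S : Fin 3 × Fin 3 → Set (ODat F) := fun x =>
    {D | ∃ d, 2 * d + tau1 x = N ∧ ∃ f ∈ PP F d, D = updo 1 (O0 F) f (opt1 x.1).1 (opt1 x.2).1 (opt1 x.1).2 (opt1 x.2).2}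
  have hsub : T F 2 N ⊆ ⋃ x ∈ (Finset.univ : Finset (Fin 3 × Fin 3)), S x := by
    rintro D ⟨hD, ht, hf⟩
    obtain ⟨m, hm, hsz⟩ := Pdo.reso (J := 1) hD
    obtain ⟨h4, rfl⟩ := pdo_one hm
    obtain ⟨i, hi, hi'⟩ := exists_opt1 (D.a true 1) (D.s true 1) (fun h => (hD.s_imp _ _ h).2) ht
    obtain ⟨k, hk, hk'⟩ := exists_opt1 (D.a false 1) (D.s false 1) (fun h => (hD.s_imp _ _ h).2) hf
    obtain ⟨r, hr⟩ := hD.even 1
    simp only [Set.mem_iUnion]
    refine ⟨(i, k), Finset.mem_univ _, r, ?_, D.f 1, ⟨hD.pal 1, hD.one 1, hD.neg_one 1, by omega⟩, ?_⟩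
    · rw [← hsz, hr, hi, hk, tau1]
      dsimp only
      ring
    · have := eq_updo_reso 1 D
      rw [hi, hk, hi', hk', h4] at this
      exact this
  have hS : ∀ x, (S x).Finite ∧ (S x).ncard ≤ if tau1 x ≤ N ∧ (N - tau1 x) % 2 = 0 then pd ((N - tau1 x) / 2) else 0 := by
    intro x
    by_cases h : tau1 x ≤ N ∧ (N - tau1 x) % 2 = 0
    · have h5 : S x ⊆ (fun f => updo 1 (O0 F) f (opt1 x.1).1 (opt1 x.2).1 (opt1 x.1).2 (opt1 x.2).2) ''
          PP F ((N - tau1 x) / 2) := by
        rintro D ⟨d, hd, f, hf, rfl⟩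
        refine ⟨f, ?_, rfl⟩
        rwa [show (N - tau1 x) / 2 = d by omega]
      have hfin := (PP_finite (F := F) ((N - tau1 x) / 2)).image
        (fun f => updo 1 (O0 F) f (opt1 x.1).1 (opt1 x.2).1 (opt1 x.1).2 (opt1 x.2).2)
      refine ⟨hfin.subset h5, ?_⟩
      rw [if_pos h]
      exact (Set.ncard_le_ncard h5 hfin).trans ((Set.ncard_image_le (PP_finite _)).trans (PP_ncard h3 _))
    · have h5 : S x = ∅ := by
        rw [Set.eq_empty_iff_forall_notMem]
        rintro D ⟨d, hd, -⟩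
        apply h
        omega
      rw [h5]
      exact ⟨Set.finite_empty, by rw [Set.ncard_empty]; exact Nat.zero_le _⟩
  have hfin : (⋃ x ∈ (Finset.univ : Finset (Fin 3 × Fin 3)), S x).Finite :=
    Set.Finite.biUnion (Finset.finite_toSet _) fun x _ => (hS x).1
  refine (Set.ncard_le_ncard hsub hfin).trans ((Finset.set_ncard_biUnion_le _ _).trans ?_)
  refine (Finset.sum_le_sum fun x _ => (hS x).2).trans ?_
  rw [sum_opt1 fun τ => if τ ≤ N ∧ (N - τ) % 2 = 0 then pd ((N - τ) / 2) else 0]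
  rcases Nat.even_or_odd N with ⟨r, hr⟩ | ⟨r, hr⟩
  · have a0 : (if 0 ≤ N ∧ (N - 0) % 2 = 0 then pd ((N - 0) / 2) else 0) = pd (N / 2) := by
      rw [if_pos ⟨Nat.zero_le _, by omega⟩, Nat.sub_zero]
    have a1 : (if 1 ≤ N ∧ (N - 1) % 2 = 0 then pd ((N - 1) / 2) else 0) = 0 := if_neg (by omega)
    have a2 : (if 2 ≤ N ∧ (N - 2) % 2 = 0 then pd ((N - 2) / 2) else 0) = if 2 ≤ N then pd (N / 2 - 1) else 0 := by
      by_cases h : 2 ≤ N
      · rw [if_pos ⟨h, by omega⟩, if_pos h, show (N - 2) / 2 = N / 2 - 1 by omega]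
      · rw [if_neg (by omega), if_neg h]
    have hb : b1 N = pd (N / 2) + (if 2 ≤ N then 4 * pd (N / 2 - 1) else 0) := if_pos (by omega)
    rw [a0, a1, a2, hb]
    by_cases h : 2 ≤ N
    · rw [if_pos h, if_pos h]
      omega
    · rw [if_neg h, if_neg h]
  · have a0 : (if 0 ≤ N ∧ (N - 0) % 2 = 0 then pd ((N - 0) / 2) else 0) = 0 := if_neg (by omega)
    have a1 : (if 1 ≤ N ∧ (N - 1) % 2 = 0 then pd ((N - 1) / 2) else 0) = pd (N / 2) := by
      rw [if_pos ⟨by omega, by omega⟩, show (N - 1) / 2 = N / 2 by omega]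
    have a2 : (if 2 ≤ N ∧ (N - 2) % 2 = 0 then pd ((N - 2) / 2) else 0) = 0 := if_neg (by omega)
    rw [a0, a1, a2, b1, if_neg (by omega)]
    omega

end Finite

end Cfsg.Agent.H170.Restr
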