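import Mathlib
import Cfsg.Agent.H170.RestrStep

/-!
# Bounds from the recursion
-/

set_option autoImplicit false

namespace Cfsg.Agent.H170.Restr

/-- real version of `term` -/
noncomputable def termR (t : ℕ → ℝ) (J τ N : ℕ) : ℝ := if J * τ ≤ N then t (N - J * τ) else 0

/-- real version of `G` -/
noncomputable def GR (J : ℕ) (t : ℕ → ℝ) (N : ℕ) : ℝ :=
  if J % 2 = 1 then termR t J 0 N + 4 * termR t J 1 N + 6 * termR t J 2 N + 4 * termR t J 3 N + termR t J 4 N else t N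

theorem termR_mono {t : ℕ → ℕ} {s : ℕ → ℝ} {M : ℕ} (h : ∀ N < M, (t N : ℝ) ≤ s N) (J τ : ℕ) {N : ℕ} (hN : N < M) :
    ((term t J τ N : ℕ) : ℝ) ≤ termR s J τ N := by
  rw [term, termR]
  split_ifs with h1
  · exact h _ (by omega)
  · simp

theorem GR_mono {t : ℕ → ℕ} {s : ℕ → ℝ} {M : ℕ} (h : ∀ N < M, (t N : ℝ) ≤ s N) (J : ℕ) {N : ℕ} (hN : N < M) :
    ((G J t N : ℕ) : ℝ) ≤ GR J s N := by
  rw [G, GR]
  split_ifs with h1
  · have e0 := termR_mono h J 0 hN
    have e1 := termR_mono h J 1 hN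
    have e2 := termR_mono h J 2 hN
    have e3 := termR_mono h J 3 hN
    have e4 := termR_mono h J 4 hN
    push_cast
    linarith
  · exact h N hN

/-- the convolution -/
def conv (J : ℕ) (g : ℕ → ℕ) (N : ℕ) : ℕ :=
  ∑ d ∈ Finset.range (N + 1), if 2 * J * d ≤ N then 3 ^ d * g (N - 2 * J * d) else 0

theorem conv_rec {J : ℕ} (hJ : 0 < J) (g : ℕ → ℕ) (N : ℕ) :
    conv J g N = g N + if 2 * J ≤ N then 3 * conv J g (N - 2 * J) else 0 := by
  rw [conv, Finset.sum_range_succ', add_comm]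
  congr 1
  · simp
  · split_ifs with h
    · rw [conv, Finset.mul_sum]
      have hsub : Finset.range (N - 2 * J + 1) ⊆ Finset.range N := Finset.range_mono (by omega)
      rw [← Finset.sum_subset hsub]
      · refine Finset.sum_congr rfl fun d _ => ?_
        have e : 2 * J * (d + 1) = 2 * J * d + 2 * J := by ring
        rw [e]
        by_cases h1 : 2 * J * d ≤ N - 2 * J
        · rw [if_pos (by omega), if_pos h1, pow_succ, show N - (2 * J * d + 2 * J) = N - 2 * J - 2 * J * d by omega]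
          ring
        · rw [if_neg (by omega), if_neg h1, mul_zero]
      · intro d _ hd
        rw [Finset.mem_range] at hd
        rw [if_neg]
        have : 1 * (d + 1) ≤ 2 * J * (d + 1) := Nat.mul_le_mul_right _ (by omega)
        have e : 2 * J * (d + 1) = 2 * J * d + 2 * J := by ring
        have h3 : 1 * d ≤ 2 * J * d := Nat.mul_le_mul_right _ (by omega)
        omega
    · refine Finset.sum_eq_zero fun d _ => ?_
      rw [if_neg]
      have : 2 * J * 1 ≤ 2 * J * (d + 1) := Nat.mul_le_mul_left _ (by omega)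
      omega

/-- **the general bound** -/
theorem num_bound (t : ℕ → ℕ → ℕ) (H : ∀ J, 2 ≤ J → ∀ N, t (J + 1) N ≤ conv J (G J (t J)) N)
    (s : ℕ → ℕ → ℝ) (JM M : ℕ) (hb : ∀ N < M, (t 2 N : ℝ) ≤ s 2 N)
    (S : ∀ J, 2 ≤ J → J < JM → ∀ N < M,
      GR J (s J) N + (if 2 * J ≤ N then 3 * s (J + 1) (N - 2 * J) else 0) ≤ s (J + 1) N) :
    ∀ J, 2 ≤ J → J ≤ JM → ∀ N < M, (t J N : ℝ) ≤ s J N := by
  intro J hJ
  induction J, hJ using Nat.le_induction with
  | base => exact fun _ => hb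
  | succ J hJ ih =>
    intro hJM
    have ih' := ih (by omega)
    have key : ∀ N < M, (conv J (G J (t J)) N : ℝ) ≤ s (J + 1) N := by
      intro N
      induction N using Nat.strong_induction_on with
      | _ N ihN =>
        intro hN
        refine le_trans ?_ (S J hJ (by omega) N hN)
        rw [conv_rec (by omega)]
        have h1 := GR_mono ih' J hN
        split_ifs with h2
        · have h3 := ihN (N - 2 * J) (by omega) (by omega)
          push_cast
          linarith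
        · push_cast
          linarith
    intro N hN
    exact (Nat.cast_le.2 (H J hJ N)).trans (key N hN)

/-- the factor of level `J` -/
noncomputable def fac (ρ : ℝ) (J : ℕ) : ℝ := (if J % 2 = 1 then (1 + ρ ^ J) ^ 4 else 1) / (1 - 3 * (ρ ^ 2) ^ J)

/-- the constants -/
noncomputable def phi (ρ c : ℝ) : ℕ → ℝ
  | 0 => c
  | k + 1 => phi ρ c k * fac ρ (k + 2)

theorem one_sub_pos {ρ : ℝ} (h0 : 0 < ρ) (h1 : 3 * (ρ ^ 2) ^ 2 < 1) {J : ℕ} (hJ : 2 ≤ J) : 0 < 1 - 3 * (ρ ^ 2) ^ J := by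
  have h2 : ρ ^ 2 < 1 := by
    by_contra h
    push Not at h
    nlinarith
  have h3 : (ρ ^ 2) ^ J ≤ (ρ ^ 2) ^ 2 := pow_le_pow_of_le_one (by positivity) h2.le hJ
  linarith

theorem phi_nonneg {ρ c : ℝ} (h0 : 0 < ρ) (h1 : 3 * (ρ ^ 2) ^ 2 < 1) (hc : 0 ≤ c) (k : ℕ) : 0 ≤ phi ρ c k := by
  induction k with
  | zero => exact hc
  | succ k ih =>
    refine mul_nonneg ih ?_
    rw [fac]
    have := one_sub_pos h0 h1 (J := k + 2) (by omega)
    split_ifs <;> positivity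

/-- the condition holds for `phi * w ^ N` -/
theorem S_pow {ρ w c : ℝ} (h0 : 0 < ρ) (h1 : 3 * (ρ ^ 2) ^ 2 < 1) (hc : 0 ≤ c) (hw : 0 < w) (hρw : 1 ≤ ρ * w) {J : ℕ}
    (hJ : 2 ≤ J) (N : ℕ) :
    GR J (fun N => phi ρ c (J - 2) * w ^ N) N +
      (if 2 * J ≤ N then 3 * (phi ρ c (J + 1 - 2) * w ^ (N - 2 * J)) else 0) ≤ phi ρ c (J + 1 - 2) * w ^ N := by
  obtain ⟨k, rfl⟩ : ∃ k, J = k + 2 := ⟨J - 2, by omega⟩
  rw [show k + 2 - 2 = k by omega, show k + 2 + 1 - 2 = k + 1 by omega]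
  have hpos := one_sub_pos h0 h1 hJ
  have hphi := phi_nonneg h0 h1 hc k
  have hphi' := phi_nonneg h0 h1 hc (k + 1)
  -- `w ^ (N - i) ≤ w ^ N ρ ^ i`
  have hpw : ∀ i, i ≤ N → w ^ (N - i) ≤ w ^ N * ρ ^ i := by
    intro i hi
    have e : w ^ N = w ^ (N - i) * w ^ i := by rw [← pow_add]; congr 1; omega
    have h2 : 1 ≤ (ρ * w) ^ i := one_le_pow₀ hρw
    rw [mul_pow] at h2
    rw [e]
    have h3 : 0 < w ^ (N - i) := by positivity
    nlinarith
  have hterm : ∀ τ, termR (fun N => phi ρ c k * w ^ N) (k + 2) τ N ≤ phi ρ c k * w ^ N * (ρ ^ (k + 2)) ^ τ := by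
    intro τ
    rw [termR]
    split_ifs with h
    · have := hpw _ h
      rw [pow_mul] at this
      calc phi ρ c k * w ^ (N - (k + 2) * τ) ≤ phi ρ c k * (w ^ N * (ρ ^ (k + 2)) ^ τ) := by gcongr
        _ = _ := by ring
    · positivity
  have h3 : (if 2 * (k + 2) ≤ N then 3 * (phi ρ c (k + 1) * w ^ (N - 2 * (k + 2))) else 0) ≤
      3 * (ρ ^ 2) ^ (k + 2) * (phi ρ c (k + 1) * w ^ N) := by
    split_ifs with h
    · have := hpw _ h
      rw [pow_mul] at this
      calc 3 * (phi ρ c (k + 1) * w ^ (N - 2 * (k + 2))) ≤ 3 * (phi ρ c (k + 1) * (w ^ N * (ρ ^ 2) ^ (k + 2))) := by gcongr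
        _ = _ := by ring
    · positivity
  have h4 : GR (k + 2) (fun N => phi ρ c k * w ^ N) N ≤
      phi ρ c k * w ^ N * (if (k + 2) % 2 = 1 then (1 + ρ ^ (k + 2)) ^ 4 else 1) := by
    rw [GR]
    split_ifs with h
    · have t0 := hterm 0
      have t1 := hterm 1
      have t2 := hterm 2
      have t3 := hterm 3
      have t4 := hterm 4
      have e : phi ρ c k * w ^ N * (1 + ρ ^ (k + 2)) ^ 4 = phi ρ c k * w ^ N * (ρ ^ (k + 2)) ^ 0 +
        4 * (phi ρ c k * w ^ N * (ρ ^ (k + 2)) ^ 1) + 6 * (phi ρ c k * w ^ N * (ρ ^ (k + 2)) ^ 2) +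
        4 * (phi ρ c k * w ^ N * (ρ ^ (k + 2)) ^ 3) + phi ρ c k * w ^ N * (ρ ^ (k + 2)) ^ 4 := by ring
      rw [e]
      linarith
    · rw [mul_one]
  refine (add_le_add h4 h3).trans (le_of_eq ?_)
  rw [phi, fac]
  field_simp
  ring

/-- **asymptotic bound** -/
theorem bound_two (t : ℕ → ℕ → ℕ) (H : ∀ J, 2 ≤ J → ∀ N, t (J + 1) N ≤ conv J (G J (t J)) N)
    {ρ w c ρ' w' c' : ℝ} (h0 : 0 < ρ) (h1 : 3 * (ρ ^ 2) ^ 2 < 1) (hc : 0 ≤ c) (hw : 0 < w) (hρw : 1 ≤ ρ * w)
    (h0' : 0 < ρ') (h1' : 3 * (ρ' ^ 2) ^ 2 < 1) (hc' : 0 ≤ c') (hw' : 0 < w') (hρw' : 1 ≤ ρ' * w')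
    (hb : ∀ N, (t 2 N : ℝ) ≤ c * w ^ N + c' * w' ^ N) (k N : ℕ) :
    (t (k + 2) N : ℝ) ≤ phi ρ c k * w ^ N + phi ρ' c' k * w' ^ N := by
  have h := num_bound t H (fun J N => phi ρ c (J - 2) * w ^ N + phi ρ' c' (J - 2) * w' ^ N) (k + 2) (N + 1)
    (fun N _ => hb N) (fun J hJ _ N _ => by
      have e1 := S_pow h0 h1 hc hw hρw hJ N
      have e2 := S_pow h0' h1' hc' hw' hρw' hJ N
      have e3 : GR J (fun N => phi ρ c (J - 2) * w ^ N + phi ρ' c' (J - 2) * w' ^ N) N =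
          GR J (fun N => phi ρ c (J - 2) * w ^ N) N + GR J (fun N => phi ρ' c' (J - 2) * w' ^ N) N := by
        have e4 : ∀ τ, termR (fun N => phi ρ c (J - 2) * w ^ N + phi ρ' c' (J - 2) * w' ^ N) J τ N =
            termR (fun N => phi ρ c (J - 2) * w ^ N) J τ N + termR (fun N => phi ρ' c' (J - 2) * w' ^ N) J τ N := by
          intro τ
          rw [termR, termR, termR]
          split_ifs
          · rfl
          · simp
        rw [GR, GR, GR]
        split_ifs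
        · rw [e4, e4, e4, e4, e4]
          ring
        · rfl
      rw [e3]
      by_cases h : 2 * J ≤ N
      · rw [if_pos h] at e1 e2 ⊢
        linarith
      · rw [if_neg h] at e1 e2 ⊢
        linarith) (k + 2) (by omega) le_rfl N (by omega)
  simpa using h

end Cfsg.Agent.H170.Restr
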