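import Mathlib
import Cfsg.Agent.H170.EvenUpper
import Cfsg.Agent.S2585

/-!
# `5 k(Sp(2n,q)) ≤ 76 q^n` for `q` even
-/

set_option autoImplicit false

namespace Cfsg.Agent.H170.SpUpper

open Module QuadraticMap Matrix Cfsg.Agent.H170.Uni Cfsg.Agent.H170.Bridge Cfsg.Agent.H170.EvenUpper
  Cfsg.Agent.ClassicalGeometry.SympBasic

variable {F : Type*} [Field F]

/-- forget the signs at `1` -/
def clear (D : Dat F) : Dat F where
  f := D.f
  a := D.a
  b := D.b
  s := fun m => if m = 1 then false else D.s m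
  t := fun k => if k = 1 then false else D.t k

theorem clear_ok {n : ℕ} {D : Dat F} (h : D.Ok n) : (clear D).Ok n := by
  refine ⟨h.monic, h.pal, h.one, h.even, h.zero, h.big, h.b_le, fun j hj => ?_, fun k hk => ?_, h.size⟩
  · simp only [clear] at hj
    split_ifs at hj
    exact h.s_imp j hj
  · simp only [clear] at hk
    split_ifs at hk
    exact h.t_imp k hk

/-- the element of `GL` of a symplectic matrix -/
def toGL {n : ℕ} (A : symplecticGroup (Fin n) F) : GL (Fin n ⊕ Fin n) F where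
  val := A.1
  inv := A⁻¹.1
  val_inv := by
    rw [← Submonoid.coe_mul, mul_inv_cancel]
    rfl
  inv_val := by
    rw [← Submonoid.coe_mul, inv_mul_cancel]
    rfl

theorem linOf_toGL {n : ℕ} (A : symplecticGroup (Fin n) F) (v : Fin n ⊕ Fin n → F) :
    linOf (toGL A) v = A.1 *ᵥ v := rfl

theorem isConj_sp {n : ℕ} {A A' : symplecticGroup (Fin n) F} (z : (Fin n ⊕ Fin n → F) ≃ₗ[F] (Fin n ⊕ Fin n → F))
    (hz : ∀ v, z (linOf (toGL A) v) = linOf (toGL A') (z v))
    (hB : ∀ u v, sympForm n F (z u) (z v) = sympForm n F u v) : IsConj A A' := by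
  obtain ⟨M, hM⟩ := exists_of_lin z
  have hM' : M.1 ∈ symplecticGroup (Fin n) F := by
    rw [mem_symplecticGroup_iff]
    intro u v
    have h1 := hB u v
    rw [← hM, ← hM] at h1
    exact h1
  rw [isConj_iff]
  refine ⟨⟨M.1, hM'⟩, ?_⟩
  rw [mul_inv_eq_iff_eq_mul]
  apply Subtype.ext
  rw [Submonoid.coe_mul, Submonoid.coe_mul]
  apply Matrix.mulVec_injective
  funext v
  show (M.1 * A.1) *ᵥ v = (A'.1 * M.1) *ᵥ v
  rw [← mulVec_mulVec, ← mulVec_mulVec]
  have h1 := hz v
  rw [← hM, ← hM] at h1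
  exact h1

theorem card_sp_le [Fintype F] (hF : Even (Fintype.card F)) (n : ℕ) :
    5 * Nat.card (ConjClasses (symplecticGroup (Fin n) F)) ≤ 76 * Fintype.card F ^ n := by
  classical
  have hF' : Even (Nat.card F) := by rwa [Nat.card_eq_fintype_card]
  have h2 := two_eq_zero hF'
  have : CharP F 2 := CharTwo.of_one_ne_zero_of_two_eq_zero one_ne_zero h2
  obtain ⟨α, hα0, hα⟩ := exists_alpha h2
  have hfin : Finite {D : Dat F // D.Ok n} := H173.Num.finite_dat (F := F) n
  have hS : Finite {D : Dat F | D.Ok n ∧ D.s 1 = false ∧ D.t 1 = false} :=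
    Finite.of_injective (fun D => (⟨D.1, D.2.1⟩ : {D : Dat F // D.Ok n})) fun D D' h =>
      Subtype.ext (congrArg (fun x : {D : Dat F // D.Ok n} => x.1) h)
  have hfr : finrank F (Fin n ⊕ Fin n → F) = 2 * n := by
    rw [Module.finrank_fintype_fun_eq_card, Fintype.card_sum, Fintype.card_fin]
    omega
  have key := card_conj_le (G := symplecticGroup (Fin n) F) {D : Dat F | D.Ok n ∧ D.s 1 = false ∧ D.t 1 = false}
    (fun A D => ∃ (Q : QuadraticForm F (Fin n ⊕ Fin n → F)) (D' : Dat F),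
      (∀ u v, polar Q u v = sympForm n F u v) ∧ (∀ v, Q (linOf (toGL A) v) = Q v) ∧
      Rep Q (linOf (toGL A)) α D' ∧ D = clear D')
    (fun A => by
      obtain ⟨Q, hQ1, hQ2⟩ := Cfsg.Agent.S2585.result A
      have hQ : Nd Q ⊤ := nd_of_polar fun u hu => by
        have h3 : ∀ v, sympBilin n F u v = 0 := fun v => by
          have := hu v
          rwa [hQ1] at this
        exact sympBilin_nondegenerate.1 u h3
      obtain ⟨D, h3, h4⟩ := exists_rep h2 (exists_sqrt hF') hα hQ (g := linOf (toGL A)) hQ2 hfr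
      exact ⟨clear D, ⟨clear_ok h3, rfl, rfl⟩, Q, D, hQ1, hQ2, h4, rfl⟩)
    (fun A A' D h3 h4 => by
      obtain ⟨Q, D1, a1, a2, a3, a4⟩ := h3
      obtain ⟨Q', D2, b1, b2, b3, b4⟩ := h4
      have h5 := a4.symm.trans b4
      simp only [clear, Dat.mk.injEq] at h5
      obtain ⟨d1, d2, d3, d4, d5⟩ := h5
      obtain ⟨z, z1, z2⟩ := Rep.isoB h2 a2 b2 a3 b3 d1 d2 d3
        (fun m hm => by
          have := congrFun d4 m
          simpa only [if_neg hm] using this)
        (fun m hm => by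
          have := congrFun d5 m
          simpa only [if_neg hm] using this)
      refine isConj_sp z z1 fun u v => ?_
      rw [← b1, ← a1]
      exact z2 u v)
  have e1 := H173.Num.card_dat_sp (F := F) n
  have e2 : Nat.card {D : Dat F // D ∈ {D : Dat F | D.Ok n ∧ D.s 1 = false ∧ D.t 1 = false} ∧
      ∃ A : symplecticGroup (Fin n) F, ∃ (Q : QuadraticForm F (Fin n ⊕ Fin n → F)) (D' : Dat F),
      (∀ u v, polar Q u v = sympForm n F u v) ∧ (∀ v, Q (linOf (toGL A) v) = Q v) ∧
      Rep Q (linOf (toGL A)) α D' ∧ D = clear D'} ≤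
      Nat.card {D : Dat F // D.Ok n ∧ D.s 1 = false ∧ D.t 1 = false} := by
    have hS' : Finite {D : Dat F // D.Ok n ∧ D.s 1 = false ∧ D.t 1 = false} := hS
    exact Nat.card_le_card_of_injective (fun D => ⟨D.1, D.2.1⟩) fun D D' h =>
      Subtype.ext (congrArg (fun x : {D : Dat F // D.Ok n ∧ D.s 1 = false ∧ D.t 1 = false} => x.1) h)
  rw [Nat.card_eq_fintype_card (α := F)] at e1
  have e3 := key.trans e2
  omega

end Cfsg.Agent.H170.SpUpper
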